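/-
Relators for the presented group on twelve generators and for its subgroup on eight of them.
-/
import Cfsg.Agent.Lib.Spor.TC.Word

namespace CfsgLib.Spor.Fi24

open CfsgLib.Spor.TC

/-- Relators of the presentation. -/
def relsG : List PowRel := [
  ([0, 1], 3),
  ([0, 2], 2),
  ([0, 3], 2),
  ([0, 4], 2),
  ([0, 5], 2),
  ([0, 6], 2),
  ([0, 7], 2),
  ([0, 8], 2),
  ([0, 9], 2),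
  ([0, 10], 2),
  ([0, 11], 2),
  ([1, 2], 3),
  ([1, 3], 2),
  ([1, 4], 2),
  ([1, 5], 2),
  ([1, 6], 2),
  ([1, 7], 2),
  ([1, 8], 2),
  ([1, 9], 2),
  ([1, 10], 2),
  ([1, 11], 2),
  ([2, 3], 3),
  ([2, 4], 2),
  ([2, 5], 2),
  ([2, 6], 2),
  ([2, 7], 2),
  ([2, 8], 2),
  ([2, 9], 2),
  ([2, 10], 2),
  ([2, 11], 2),
  ([3, 4], 3),
  ([3, 5], 2),
  ([3, 6], 2),
  ([3, 7], 2),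
  ([3, 8], 2),
  ([3, 9], 2),
  ([3, 10], 2),
  ([3, 11], 2),
  ([4, 5], 3),
  ([4, 6], 2),
  ([4, 7], 2),
  ([4, 8], 2),
  ([4, 9], 2),
  ([4, 10], 2),
  ([4, 11], 2),
  ([5, 6], 3),
  ([5, 7], 2),
  ([5, 8], 2),
  ([5, 9], 2),
  ([5, 10], 3),
  ([5, 11], 2),
  ([6, 7], 3),
  ([6, 8], 2),
  ([6, 9], 2),
  ([6, 10], 2),
  ([6, 11], 2),
  ([7, 8], 3),
  ([7, 9], 2),
  ([7, 10], 2),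
  ([7, 11], 2),
  ([8, 9], 3),
  ([8, 10], 2),
  ([8, 11], 2),
  ([9, 10], 2),
  ([9, 11], 2),
  ([10, 11], 3),
  ([0, 10, 7, 6, 5, 4, 3, 2, 10, 7, 6, 5, 4, 3, 2, 10, 7, 6, 5, 4, 3, 2, 10, 7, 6, 5, 4, 3, 2, 10, 7, 6, 5, 4, 3, 2, 10, 7, 6, 5, 4, 3, 2, 10, 7, 6, 5, 4, 3, 2, 10, 7, 6, 5, 4, 3, 2, 10, 7, 6, 5, 4, 3, 2], 1),
  ([5, 4, 3, 2, 1, 0, 5, 6, 7, 8, 9, 5, 10, 11], 17)]

/-- Relators with a commutation in place of the last one. -/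
def relsX : List PowRel := [
  ([0, 1], 3),
  ([0, 2], 2),
  ([0, 3], 2),
  ([0, 4], 2),
  ([0, 5], 2),
  ([0, 6], 2),
  ([0, 7], 2),
  ([0, 8], 2),
  ([0, 9], 2),
  ([0, 10], 2),
  ([0, 11], 2),
  ([1, 2], 3),
  ([1, 3], 2),
  ([1, 4], 2),
  ([1, 5], 2),
  ([1, 6], 2),
  ([1, 7], 2),
  ([1, 8], 2),
  ([1, 9], 2),
  ([1, 10], 2),
  ([1, 11], 2),
  ([2, 3], 3),
  ([2, 4], 2),
  ([2, 5], 2),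
  ([2, 6], 2),
  ([2, 7], 2),
  ([2, 8], 2),
  ([2, 9], 2),
  ([2, 10], 2),
  ([2, 11], 2),
  ([3, 4], 3),
  ([3, 5], 2),
  ([3, 6], 2),
  ([3, 7], 2),
  ([3, 8], 2),
  ([3, 9], 2),
  ([3, 10], 2),
  ([3, 11], 2),
  ([4, 5], 3),
  ([4, 6], 2),
  ([4, 7], 2),
  ([4, 8], 2),
  ([4, 9], 2),
  ([4, 10], 2),
  ([4, 11], 2),
  ([5, 6], 3),
  ([5, 7], 2),
  ([5, 8], 2),
  ([5, 9], 2),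
  ([5, 10], 3),
  ([5, 11], 2),
  ([6, 7], 3),
  ([6, 8], 2),
  ([6, 9], 2),
  ([6, 10], 2),
  ([6, 11], 2),
  ([7, 8], 3),
  ([7, 9], 2),
  ([7, 10], 2),
  ([7, 11], 2),
  ([8, 9], 3),
  ([8, 10], 2),
  ([8, 11], 2),
  ([9, 10], 2),
  ([9, 11], 2),
  ([10, 11], 3),
  ([0, 10, 7, 6, 5, 4, 3, 2, 10, 7, 6, 5, 4, 3, 2, 10, 7, 6, 5, 4, 3, 2, 10, 7, 6, 5, 4, 3, 2, 10, 7, 6, 5, 4, 3, 2, 10, 7, 6, 5, 4, 3, 2, 10, 7, 6, 5, 4, 3, 2, 10, 7, 6, 5, 4, 3, 2, 10, 7, 6, 5, 4, 3, 2], 1),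
  ([1, 2, 3, 4, 5, 10, 11, 6, 5, 10, 7, 8, 6, 7, 4, 5, 6, 3, 4, 5, 10, 11, 7, 5, 6, 3, 4, 5, 10, 9, 8, 7, 6, 5, 4, 3, 2, 3, 4, 5, 6, 7, 8, 9, 10, 5, 4, 3, 6, 5, 7, 11, 10, 5, 4, 3, 6, 5, 4, 7, 6, 8, 7, 10, 5, 6, 11, 10, 5, 4, 3, 2, 1, 2, 3, 4, 5, 10, 11, 6, 5, 10, 7, 8, 6, 7, 4, 5, 6, 3, 4, 5, 10, 11, 7, 5, 6, 3, 4, 5, 10, 9, 8, 7, 6, 5, 4, 3, 2, 3, 4, 5, 6, 7, 8, 9, 10, 5, 4, 3, 6, 5, 7, 11, 10, 5, 4, 3, 6, 5, 4, 7, 6, 8, 7, 10, 5, 6, 11, 10, 5, 4, 3, 2], 1)]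

/-- Relators on the letters `4, …, 11`. -/
def relsC : List PowRel := [
  ([0, 1], 3),
  ([0, 2], 2),
  ([0, 3], 2),
  ([0, 4], 2),
  ([0, 5], 2),
  ([0, 6], 2),
  ([0, 7], 2),
  ([1, 2], 3),
  ([1, 3], 2),
  ([1, 4], 2),
  ([1, 5], 2),
  ([1, 6], 3),
  ([1, 7], 2),
  ([2, 3], 3),
  ([2, 4], 2),
  ([2, 5], 2),
  ([2, 6], 2),
  ([2, 7], 2),
  ([3, 4], 3),
  ([3, 5], 2),
  ([3, 6], 2),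
  ([3, 7], 2),
  ([4, 5], 3),
  ([4, 6], 2),
  ([4, 7], 2),
  ([5, 6], 2),
  ([5, 7], 2),
  ([6, 7], 3)]

end CfsgLib.Spor.Fi24
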