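/-
The presented Fischer group on twelve generators, and the numbering of its generators.
-/
import Cfsg.Agent.Lib.Spor.TC.Cox
import Cfsg.Agent.Lib.Spor.Fi24Pres.Rels
import Cfsg.Prelude.Def_Spor_Fi24

namespace CfsgLib.Spor.Fi24

open CfsgLib.Spor.TC

/-- The number of a generator. -/
def num : Cfsg.Spor.Fi24.Gen → ℕ
  | .l => 0 | .k => 1 | .a => 2 | .b => 3 | .c => 4 | .d => 5 | .e => 6 | .f => 7 | .g => 8 | .j => 9 | .h => 10
  | .i => 11

/-- The generator of a number. -/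
def nam : ℕ → Cfsg.Spor.Fi24.Gen
  | 0 => .l | 1 => .k | 2 => .a | 3 => .b | 4 => .c | 5 => .d | 6 => .e | 7 => .f | 8 => .g | 9 => .j | 10 => .h
  | _ => .i

/-- The further relators as words. -/
def more : List PowRel :=
  [([0] ++ powWord [10, 7, 6, 5, 4, 3, 2] 9, 1), ([5, 4, 3, 2, 1, 0, 5, 6, 7, 8, 9, 5, 10, 11], 17)]

theorem ev_seven_rev {G : Type} [Group G] (g : ℕ → G) (hsq : ∀ x, g x * g x = 1) :
    ev g [10, 7, 6, 5, 4, 3, 2] = (g 2 * g 3 * g 4 * g 5 * g 6 * g 7 * g 10)⁻¹ := by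
  refine eq_inv_of_mul_eq_one_left ?_
  have cancel : ∀ x y, g x * (g x * y) = y := fun x y => by rw [← mul_assoc, hsq, one_mul]
  simp [ev, mul_assoc, cancel, hsq]

/-- The numbered presentation. -/
def coxData : CoxData Cfsg.Spor.Fi24.edges Cfsg.Spor.Fi24.extra where
  k := 12
  num := num
  nam := nam
  num_lt a := by cases a <;> decide
  nam_num a := by cases a <;> rfl
  num_nam x hx := by interval_cases x <;> rfl
  nodes a := by cases a <;> decide
  more := more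
  more_iff g f hg hf := by
    have e1 : ev g ([0] ++ powWord [10, 7, 6, 5, 4, 3, 2] 9) =
        g 0 * ((g 2 * g 3 * g 4 * g 5 * g 6 * g 7 * g 10) ^ 9)⁻¹ := by
      rw [ev_append, ev_powWord, ev_seven_rev g hg, inv_pow]
      simp [ev]
    simp only [more, Cfsg.Spor.Fi24.extra, List.forall_mem_cons, List.not_mem_nil, false_implies, implies_true,
      and_true, pow_one, e1, map_mul, map_inv, map_pow, hf, num]
    simp only [ev, List.map_cons, List.map_nil, List.prod_cons, List.prod_nil, mul_one, mul_assoc]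

theorem rels_eq : coxData.rels = relsG := by decide +kernel

theorem gens_eq : ({Cfsg.Spor.Fi24.a, Cfsg.Spor.Fi24.b, Cfsg.Spor.Fi24.c, Cfsg.Spor.Fi24.d, Cfsg.Spor.Fi24.e,
    Cfsg.Spor.Fi24.f, Cfsg.Spor.Fi24.g, Cfsg.Spor.Fi24.h, Cfsg.Spor.Fi24.i, Cfsg.Spor.Fi24.j, Cfsg.Spor.Fi24.l} :
      Set (FreeGroup Cfsg.Spor.Fi24.Gen)) =
    (fun x => FreeGroup.of (coxData.nam x)) '' {x | x ∈ [0, 2, 3, 4, 5, 6, 7, 8, 9, 10, 11]} := by
  ext x
  simp [coxData, nam, eq_comm]
  tauto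

end CfsgLib.Spor.Fi24
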