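/-
With as many elements as the levels show, only the identity fixes all base points.
-/
import Cfsg.Agent.Lib.Spor.TC.Action

namespace CfsgLib.Spor.Fi24

open CfsgLib.Spor.TC

variable (A : Act)

/-- The permutations fixing a list of numbered points. -/
def fixer (n : ℕ) (bs : List ℕ) : Subgroup (Equiv.Perm (Fin n)) where
  carrier := {g | ∀ c : Fin n, (c : ℕ) ∈ bs → g c = c}
  one_mem' := fun _ _ => rfl
  mul_mem' := fun {a b} ha hb c hc => by rw [Equiv.Perm.mul_apply, hb c hc, ha c hc]
  inv_mem' := fun {a} ha c hc => by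
    conv_lhs => rw [← ha c hc]
    exact a.symm_apply_apply c

theorem levels_mul_fixer {rels : List PowRel} (h : A.Valid rels) :
    ∀ (Ls : List Level) (earlier : List ℕ) (M : Subgroup (Equiv.Perm (Fin A.n))),
      A.levelsOK Ls earlier = true →
      (∀ L ∈ Ls, ∀ x ∈ L.gens, (∀ b ∈ earlier, A.T x b = b) → h.perm x ∈ M) →
      levelsProd Ls * Nat.card (M ⊓ fixer A.n (Ls.map Level.base) : Subgroup (Equiv.Perm (Fin A.n))) ≤ Nat.card M := by
  intro Ls
  induction Ls with
  | nil =>
    intro _ M _ _
    rw [show levelsProd [] = 1 from rfl, one_mul]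
    exact Nat.card_le_card_of_injective _ (Subgroup.inclusion_injective inf_le_left)
  | cons L Ls ih =>
    intro earlier M hok hM
    change (A.levelOK L earlier && A.levelsOK Ls (L.base :: earlier)) = true at hok
    simp only [Bool.and_eq_true] at hok
    have hfix := levelOK_fixes A hok.1
    have hok1 := hok.1
    simp only [Act.levelOK, Bool.and_eq_true] at hok1
    obtain ⟨⟨⟨-, hbase⟩, hsz⟩, hrows⟩ := hok1
    let b : Fin A.n := ⟨L.base, Nat.le_of_ble_eq_true hbase⟩
    have hrow : ∀ i, i < L.size → L.rank (L.pt i) = i ∧ ∃ c : Fin A.n, (c : ℕ) = L.pt i ∧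
        c ∈ MulAction.orbit M b := by
      intro i
      induction i using Nat.strong_induction_on with
      | _ i ihi =>
        intro hi
        have h1 := allFrom_spec hrows i (Nat.zero_le i) (by omega)
        simp only [Act.rowOK, Bool.and_eq_true, Bool.or_eq_true] at h1
        refine ⟨Nat.eq_of_beq_eq_true h1.1, ?_⟩
        rcases h1.2 with ⟨-, hb⟩ | ⟨⟨hp, hl⟩, ht⟩
        · exact ⟨b, (Nat.eq_of_beq_eq_true hb).symm, MulAction.mem_orbit_self b⟩
        · have hpi : L.parent i < i := Nat.le_of_ble_eq_true hp
          obtain ⟨-, c, hc, hco⟩ := ihi _ hpi (hpi.trans hi)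
          have hs := memNat_spec hl
          refine ⟨h.perm (L.letter i) c, ?_, ?_⟩
          · rw [h.perm_apply (hfix _ hs).1, hc]
            exact Nat.eq_of_beq_eq_true ht
          · obtain ⟨m, hm⟩ := hco
            refine ⟨⟨h.perm (L.letter i), hM L List.mem_cons_self _ hs (hfix _ hs).2⟩ * m, ?_⟩
            rw [← hm]
            exact mul_smul _ _ _
    choose hrank pts hpts horb using hrow
    have horbit : L.size ≤ Nat.card (MulAction.orbit M b) := by
      have hinj : Function.Injective fun i : Fin L.size =>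
          (⟨pts i i.2, horb i i.2⟩ : MulAction.orbit M b) := by
        intro i j hij
        have h1 := congrArg (fun z : MulAction.orbit M b => L.rank ((z : Fin A.n) : ℕ)) hij
        simp only [hpts, hrank i i.2, hrank j j.2] at h1
        exact Fin.ext h1
      calc L.size = Nat.card (Fin L.size) := (Nat.card_fin _).symm
        _ ≤ _ := Nat.card_le_card_of_injective _ hinj
    have hlt : ∀ (Ls : List Level) (e : List ℕ), A.levelsOK Ls e = true → ∀ L ∈ Ls, ∀ x ∈ L.gens, x < A.K := by
      intro Ls
      induction Ls with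
      | nil => intro _ _ L hL; simp at hL
      | cons L0 Ls ihl =>
        intro e he L hL x hx
        change (A.levelOK L0 e && A.levelsOK Ls (L0.base :: e)) = true at he
        simp only [Bool.and_eq_true] at he
        rcases List.mem_cons.1 hL with rfl | hL
        · exact (levelOK_fixes A he.1 x hx).1
        · exact ihl _ he.2 L hL x hx
    have hstab := ih (L.base :: earlier) ((MulAction.stabilizer M b).map M.subtype) hok.2
      fun L' hL' x hx hfx => ⟨⟨h.perm x, hM L' (List.mem_cons_of_mem _ hL') x hx
        fun c hc => hfx c (List.mem_cons_of_mem _ hc)⟩, by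
          rw [SetLike.mem_coe, MulAction.mem_stabilizer_iff]
          exact Fin.ext ((h.perm_apply (hlt Ls _ hok.2 L' hL' x hx) b).trans (hfx L.base List.mem_cons_self)), rfl⟩
    rw [Subgroup.card_map_of_injective M.subtype_injective] at hstab
    have hle : Nat.card (M ⊓ fixer A.n ((L :: Ls).map Level.base) : Subgroup (Equiv.Perm (Fin A.n))) ≤
        Nat.card ((MulAction.stabilizer M b).map M.subtype ⊓ fixer A.n (Ls.map Level.base) :
          Subgroup (Equiv.Perm (Fin A.n))) := by
      refine Nat.card_le_card_of_injective _ (Subgroup.inclusion_injective ?_)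
      rintro g ⟨hg, hfix⟩
      refine ⟨⟨⟨g, hg⟩, ?_, rfl⟩, fun c hc => hfix c (List.mem_cons_of_mem _ hc)⟩
      rw [SetLike.mem_coe, MulAction.mem_stabilizer_iff]
      exact hfix b List.mem_cons_self
    calc levelsProd (L :: Ls) * _ = L.size * (levelsProd Ls * _) := by rw [← mul_assoc]; rfl
      _ ≤ Nat.card (MulAction.orbit M b) * Nat.card (MulAction.stabilizer M b) :=
        Nat.mul_le_mul horbit ((Nat.mul_le_mul le_rfl hle).trans hstab)
      _ = Nat.card M := by
          rw [← Nat.card_prod]
          exact Nat.card_congr (MulAction.orbitProdStabilizerEquivGroup M b)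

/-- An element fixing all base points is the identity. -/
theorem eq_one_of_fix_bases {rels : List PowRel} (h : A.Valid rels) {Ls : List Level}
    (hLs : A.levelsOK Ls [] = true)
    (hcard : Nat.card (Pres A.k rels) ≠ 0 ∧ Nat.card (Pres A.k rels) ≤ levelsProd Ls)
    (hinj : Function.Injective h.rho) {u : Pres A.k rels}
    (hfix : ∀ c : Fin A.n, (c : ℕ) ∈ Ls.map Level.base → h.rho u c = c) : u = 1 := by
  haveI : Finite (Pres A.k rels) := Nat.finite_of_card_ne_zero hcard.1
  have h1 := levels_mul_fixer A h Ls [] h.rho.range hLs fun _ _ y _ _ => ⟨_, h.rho_letters y⟩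
  have h2 : Nat.card h.rho.range ≤ levelsProd Ls :=
    (Nat.card_le_card_of_surjective _ h.rho.rangeRestrict_surjective).trans hcard.2
  have hpos : 0 < levelsProd Ls := lt_of_lt_of_le Nat.card_pos h2
  have h3 : Nat.card (h.rho.range ⊓ fixer A.n (Ls.map Level.base) : Subgroup (Equiv.Perm (Fin A.n))) ≤ 1 :=
    Nat.le_of_mul_le_mul_left ((h1.trans h2).trans_eq (mul_one _).symm) hpos
  haveI := (Finite.card_le_one_iff_subsingleton.1 h3)
  apply hinj
  rw [map_one]
  exact congrArg Subtype.val (Subsingleton.elim (α := ↥(h.rho.range ⊓ fixer A.n (Ls.map Level.base)))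
    ⟨h.rho u, ⟨u, rfl⟩, hfix⟩ 1)

end CfsgLib.Spor.Fi24
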