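/-
The test of one point of the twelve permutations.
-/
import Cfsg.Agent.Lib.Spor.Fi24Pres.Rows.All
import Cfsg.Agent.Lib.Spor.TC.StrictLevels
import Cfsg.Agent.Lib.Spor.TC.Word

namespace CfsgLib.Spor.Fi24

open CfsgLib.Spor.TC

set_option maxRecDepth 100000

/-- The rows as the images under letters. -/
noncomputable def T (x c : ℕ) : ℕ := dig (row c) x

/-- A word acting. -/
noncomputable def walk (w : List ℕ) (c : ℕ) : ℕ :=
  List.rec (motive := fun _ => ℕ) c (fun a _ ih => strict ih (T a)) w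

/-- The word on seven letters whose ninth power is a further generator. -/
def wordL : List ℕ := [2, 3, 4, 5, 6, 7, 10, 2, 3, 4, 5, 6, 7, 10, 2, 3, 4, 5, 6, 7, 10, 2, 3, 4, 5, 6, 7, 10, 2, 3, 4, 5, 6, 7, 10, 2, 3, 4, 5, 6, 7, 10, 2, 3, 4, 5, 6, 7, 10, 2, 3, 4, 5, 6, 7, 10, 2, 3, 4, 5, 6, 7, 10]

/-- The word whose tenth power is a relator of the centralizer of the first letter. -/
def wordS : List ℕ := [5, 4, 3, 5, 6, 7, 5, 10, 11]

/-- A conjugate of the third letter by the letters other than the second. -/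
def wordT : List ℕ := [2, 3, 4, 5, 10, 11, 6, 5, 10, 7, 8, 6, 7, 4, 5, 6, 3, 4, 5, 10, 11, 7, 5, 6, 3, 4, 5, 10, 9, 8, 7, 6, 5, 4, 3, 2, 3, 4, 5, 6, 7, 8, 9, 10, 5, 4, 3, 6, 5, 7, 11, 10, 5, 4, 3, 6, 5, 4, 7, 6, 8, 7, 10, 5, 6, 11, 10, 5, 4, 3, 2]

/-- Involutions. -/
noncomputable def invPt (p r r0 r1 r2 r3 r4 r5 r6 r7 r8 r9 r10 r11 : ℕ) : Bool :=
  (Nat.blt (Nat.land (Nat.shiftRight r 0) 524287) 306936 && Nat.beq (Nat.land (Nat.shiftRight r0 0) 524287) p) &&
  (Nat.blt (Nat.land (Nat.shiftRight r 19) 524287) 306936 && Nat.beq (Nat.land (Nat.shiftRight r1 19) 524287) p) &&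
  (Nat.blt (Nat.land (Nat.shiftRight r 38) 524287) 306936 && Nat.beq (Nat.land (Nat.shiftRight r2 38) 524287) p) &&
  (Nat.blt (Nat.land (Nat.shiftRight r 57) 524287) 306936 && Nat.beq (Nat.land (Nat.shiftRight r3 57) 524287) p) &&
  (Nat.blt (Nat.land (Nat.shiftRight r 76) 524287) 306936 && Nat.beq (Nat.land (Nat.shiftRight r4 76) 524287) p) &&
  (Nat.blt (Nat.land (Nat.shiftRight r 95) 524287) 306936 && Nat.beq (Nat.land (Nat.shiftRight r5 95) 524287) p) &&
  (Nat.blt (Nat.land (Nat.shiftRight r 114) 524287) 306936 && Nat.beq (Nat.land (Nat.shiftRight r6 114) 524287) p) &&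
  (Nat.blt (Nat.land (Nat.shiftRight r 133) 524287) 306936 && Nat.beq (Nat.land (Nat.shiftRight r7 133) 524287) p) &&
  (Nat.blt (Nat.land (Nat.shiftRight r 152) 524287) 306936 && Nat.beq (Nat.land (Nat.shiftRight r8 152) 524287) p) &&
  (Nat.blt (Nat.land (Nat.shiftRight r 171) 524287) 306936 && Nat.beq (Nat.land (Nat.shiftRight r9 171) 524287) p) &&
  (Nat.blt (Nat.land (Nat.shiftRight r 190) 524287) 306936 && Nat.beq (Nat.land (Nat.shiftRight r10 190) 524287) p) &&
  (Nat.blt (Nat.land (Nat.shiftRight r 209) 524287) 306936 && Nat.beq (Nat.land (Nat.shiftRight r11 209) 524287) p)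

/-- Commuting pairs. -/
noncomputable def commPt (r0 r1 r2 r3 r4 r5 r6 r7 r8 r9 r10 r11 : ℕ) : Bool :=
  Nat.beq (Nat.land (Nat.shiftRight r0 38) 524287) (Nat.land (Nat.shiftRight r2 0) 524287) &&
  Nat.beq (Nat.land (Nat.shiftRight r0 57) 524287) (Nat.land (Nat.shiftRight r3 0) 524287) &&
  Nat.beq (Nat.land (Nat.shiftRight r0 76) 524287) (Nat.land (Nat.shiftRight r4 0) 524287) &&
  Nat.beq (Nat.land (Nat.shiftRight r0 95) 524287) (Nat.land (Nat.shiftRight r5 0) 524287) &&
  Nat.beq (Nat.land (Nat.shiftRight r0 114) 524287) (Nat.land (Nat.shiftRight r6 0) 524287) &&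
  Nat.beq (Nat.land (Nat.shiftRight r0 133) 524287) (Nat.land (Nat.shiftRight r7 0) 524287) &&
  Nat.beq (Nat.land (Nat.shiftRight r0 152) 524287) (Nat.land (Nat.shiftRight r8 0) 524287) &&
  Nat.beq (Nat.land (Nat.shiftRight r0 171) 524287) (Nat.land (Nat.shiftRight r9 0) 524287) &&
  Nat.beq (Nat.land (Nat.shiftRight r0 190) 524287) (Nat.land (Nat.shiftRight r10 0) 524287) &&
  Nat.beq (Nat.land (Nat.shiftRight r0 209) 524287) (Nat.land (Nat.shiftRight r11 0) 524287) &&
  Nat.beq (Nat.land (Nat.shiftRight r1 57) 524287) (Nat.land (Nat.shiftRight r3 19) 524287) &&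
  Nat.beq (Nat.land (Nat.shiftRight r1 76) 524287) (Nat.land (Nat.shiftRight r4 19) 524287) &&
  Nat.beq (Nat.land (Nat.shiftRight r1 95) 524287) (Nat.land (Nat.shiftRight r5 19) 524287) &&
  Nat.beq (Nat.land (Nat.shiftRight r1 114) 524287) (Nat.land (Nat.shiftRight r6 19) 524287) &&
  Nat.beq (Nat.land (Nat.shiftRight r1 133) 524287) (Nat.land (Nat.shiftRight r7 19) 524287) &&
  Nat.beq (Nat.land (Nat.shiftRight r1 152) 524287) (Nat.land (Nat.shiftRight r8 19) 524287) &&
  Nat.beq (Nat.land (Nat.shiftRight r1 171) 524287) (Nat.land (Nat.shiftRight r9 19) 524287) &&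
  Nat.beq (Nat.land (Nat.shiftRight r1 190) 524287) (Nat.land (Nat.shiftRight r10 19) 524287) &&
  Nat.beq (Nat.land (Nat.shiftRight r1 209) 524287) (Nat.land (Nat.shiftRight r11 19) 524287) &&
  Nat.beq (Nat.land (Nat.shiftRight r2 76) 524287) (Nat.land (Nat.shiftRight r4 38) 524287) &&
  Nat.beq (Nat.land (Nat.shiftRight r2 95) 524287) (Nat.land (Nat.shiftRight r5 38) 524287) &&
  Nat.beq (Nat.land (Nat.shiftRight r2 114) 524287) (Nat.land (Nat.shiftRight r6 38) 524287) &&
  Nat.beq (Nat.land (Nat.shiftRight r2 133) 524287) (Nat.land (Nat.shiftRight r7 38) 524287) &&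
  Nat.beq (Nat.land (Nat.shiftRight r2 152) 524287) (Nat.land (Nat.shiftRight r8 38) 524287) &&
  Nat.beq (Nat.land (Nat.shiftRight r2 171) 524287) (Nat.land (Nat.shiftRight r9 38) 524287) &&
  Nat.beq (Nat.land (Nat.shiftRight r2 190) 524287) (Nat.land (Nat.shiftRight r10 38) 524287) &&
  Nat.beq (Nat.land (Nat.shiftRight r2 209) 524287) (Nat.land (Nat.shiftRight r11 38) 524287) &&
  Nat.beq (Nat.land (Nat.shiftRight r3 95) 524287) (Nat.land (Nat.shiftRight r5 57) 524287) &&
  Nat.beq (Nat.land (Nat.shiftRight r3 114) 524287) (Nat.land (Nat.shiftRight r6 57) 524287) &&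
  Nat.beq (Nat.land (Nat.shiftRight r3 133) 524287) (Nat.land (Nat.shiftRight r7 57) 524287) &&
  Nat.beq (Nat.land (Nat.shiftRight r3 152) 524287) (Nat.land (Nat.shiftRight r8 57) 524287) &&
  Nat.beq (Nat.land (Nat.shiftRight r3 171) 524287) (Nat.land (Nat.shiftRight r9 57) 524287) &&
  Nat.beq (Nat.land (Nat.shiftRight r3 190) 524287) (Nat.land (Nat.shiftRight r10 57) 524287) &&
  Nat.beq (Nat.land (Nat.shiftRight r3 209) 524287) (Nat.land (Nat.shiftRight r11 57) 524287) &&
  Nat.beq (Nat.land (Nat.shiftRight r4 114) 524287) (Nat.land (Nat.shiftRight r6 76) 524287) &&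
  Nat.beq (Nat.land (Nat.shiftRight r4 133) 524287) (Nat.land (Nat.shiftRight r7 76) 524287) &&
  Nat.beq (Nat.land (Nat.shiftRight r4 152) 524287) (Nat.land (Nat.shiftRight r8 76) 524287) &&
  Nat.beq (Nat.land (Nat.shiftRight r4 171) 524287) (Nat.land (Nat.shiftRight r9 76) 524287) &&
  Nat.beq (Nat.land (Nat.shiftRight r4 190) 524287) (Nat.land (Nat.shiftRight r10 76) 524287) &&
  Nat.beq (Nat.land (Nat.shiftRight r4 209) 524287) (Nat.land (Nat.shiftRight r11 76) 524287) &&
  Nat.beq (Nat.land (Nat.shiftRight r5 133) 524287) (Nat.land (Nat.shiftRight r7 95) 524287) &&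
  Nat.beq (Nat.land (Nat.shiftRight r5 152) 524287) (Nat.land (Nat.shiftRight r8 95) 524287) &&
  Nat.beq (Nat.land (Nat.shiftRight r5 171) 524287) (Nat.land (Nat.shiftRight r9 95) 524287) &&
  Nat.beq (Nat.land (Nat.shiftRight r5 209) 524287) (Nat.land (Nat.shiftRight r11 95) 524287) &&
  Nat.beq (Nat.land (Nat.shiftRight r6 152) 524287) (Nat.land (Nat.shiftRight r8 114) 524287) &&
  Nat.beq (Nat.land (Nat.shiftRight r6 171) 524287) (Nat.land (Nat.shiftRight r9 114) 524287) &&
  Nat.beq (Nat.land (Nat.shiftRight r6 190) 524287) (Nat.land (Nat.shiftRight r10 114) 524287) &&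
  Nat.beq (Nat.land (Nat.shiftRight r6 209) 524287) (Nat.land (Nat.shiftRight r11 114) 524287) &&
  Nat.beq (Nat.land (Nat.shiftRight r7 171) 524287) (Nat.land (Nat.shiftRight r9 133) 524287) &&
  Nat.beq (Nat.land (Nat.shiftRight r7 190) 524287) (Nat.land (Nat.shiftRight r10 133) 524287) &&
  Nat.beq (Nat.land (Nat.shiftRight r7 209) 524287) (Nat.land (Nat.shiftRight r11 133) 524287) &&
  Nat.beq (Nat.land (Nat.shiftRight r8 190) 524287) (Nat.land (Nat.shiftRight r10 152) 524287) &&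
  Nat.beq (Nat.land (Nat.shiftRight r8 209) 524287) (Nat.land (Nat.shiftRight r11 152) 524287) &&
  Nat.beq (Nat.land (Nat.shiftRight r9 190) 524287) (Nat.land (Nat.shiftRight r10 171) 524287) &&
  Nat.beq (Nat.land (Nat.shiftRight r9 209) 524287) (Nat.land (Nat.shiftRight r11 171) 524287)

/-- Braid relations, at points that no common centralizing letter moves down. -/
noncomputable def braidPt (p r r0 r1 r2 r3 r4 r5 r6 r7 r8 r9 r10 r11 : ℕ) : Bool :=
  (Nat.blt (Nat.land (Nat.shiftRight r 57) 524287) p || (Nat.blt (Nat.land (Nat.shiftRight r 76) 524287) p || (Nat.blt (Nat.land (Nat.shiftRight r 95) 524287) p || (Nat.blt (Nat.land (Nat.shiftRight r 114) 524287) p || (Nat.blt (Nat.land (Nat.shiftRight r 133) 524287) p || (Nat.blt (Nat.land (Nat.shiftRight r 152) 524287) p || (Nat.blt (Nat.land (Nat.shiftRight r 171) 524287) p || (Nat.blt (Nat.land (Nat.shiftRight r 190) 524287) p || (Nat.blt (Nat.land (Nat.shiftRight r 209) 524287) p || Nat.beq (dig (row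 (Nat.land (Nat.shiftRight r0 19) 524287)) 0) (dig (row (Nat.land (Nat.shiftRight r1 0) 524287)) 1)))))))))) &&
  (Nat.blt (Nat.land (Nat.shiftRight r 76) 524287) p || (Nat.blt (Nat.land (Nat.shiftRight r 95) 524287) p || (Nat.blt (Nat.land (Nat.shiftRight r 114) 524287) p || (Nat.blt (Nat.land (Nat.shiftRight r 133) 524287) p || (Nat.blt (Nat.land (Nat.shiftRight r 152) 524287) p || (Nat.blt (Nat.land (Nat.shiftRight r 171) 524287) p || (Nat.blt (Nat.land (Nat.shiftRight r 190) 524287) p || (Nat.blt (Nat.land (Nat.shiftRight r 209) 524287) p || Nat.beq (dig (row (Nat.land (Nat.shiftRight r1 38) 524287)) 1) (dig (row (Nat.land (Nat.shiftRight r2 19) 524287)) 2))))))))) &&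
  (Nat.blt (Nat.land (Nat.shiftRight r 0) 524287) p || (Nat.blt (Nat.land (Nat.shiftRight r 95) 524287) p || (Nat.blt (Nat.land (Nat.shiftRight r 114) 524287) p || (Nat.blt (Nat.land (Nat.shiftRight r 133) 524287) p || (Nat.blt (Nat.land (Nat.shiftRight r 152) 524287) p || (Nat.blt (Nat.land (Nat.shiftRight r 171) 524287) p || (Nat.blt (Nat.land (Nat.shiftRight r 190) 524287) p || (Nat.blt (Nat.land (Nat.shiftRight r 209) 524287) p || Nat.beq (dig (row (Nat.land (Nat.shiftRight r2 57) 524287)) 2) (dig (row (Nat.land (Nat.shiftRight r3 38) 524287)) 3))))))))) &&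
  (Nat.blt (Nat.land (Nat.shiftRight r 0) 524287) p || (Nat.blt (Nat.land (Nat.shiftRight r 19) 524287) p || (Nat.blt (Nat.land (Nat.shiftRight r 114) 524287) p || (Nat.blt (Nat.land (Nat.shiftRight r 133) 524287) p || (Nat.blt (Nat.land (Nat.shiftRight r 152) 524287) p || (Nat.blt (Nat.land (Nat.shiftRight r 171) 524287) p || (Nat.blt (Nat.land (Nat.shiftRight r 190) 524287) p || (Nat.blt (Nat.land (Nat.shiftRight r 209) 524287) p || Nat.beq (dig (row (Nat.land (Nat.shiftRight r3 76) 524287)) 3) (dig (row (Nat.land (Nat.shiftRight r4 57) 524287)) 4))))))))) &&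
  (Nat.blt (Nat.land (Nat.shiftRight r 0) 524287) p || (Nat.blt (Nat.land (Nat.shiftRight r 19) 524287) p || (Nat.blt (Nat.land (Nat.shiftRight r 38) 524287) p || (Nat.blt (Nat.land (Nat.shiftRight r 133) 524287) p || (Nat.blt (Nat.land (Nat.shiftRight r 152) 524287) p || (Nat.blt (Nat.land (Nat.shiftRight r 171) 524287) p || (Nat.blt (Nat.land (Nat.shiftRight r 209) 524287) p || Nat.beq (dig (row (Nat.land (Nat.shiftRight r4 95) 524287)) 4) (dig (row (Nat.land (Nat.shiftRight r5 76) 524287)) 5)))))))) &&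
  (Nat.blt (Nat.land (Nat.shiftRight r 0) 524287) p || (Nat.blt (Nat.land (Nat.shiftRight r 19) 524287) p || (Nat.blt (Nat.land (Nat.shiftRight r 38) 524287) p || (Nat.blt (Nat.land (Nat.shiftRight r 57) 524287) p || (Nat.blt (Nat.land (Nat.shiftRight r 152) 524287) p || (Nat.blt (Nat.land (Nat.shiftRight r 171) 524287) p || (Nat.blt (Nat.land (Nat.shiftRight r 209) 524287) p || Nat.beq (dig (row (Nat.land (Nat.shiftRight r5 114) 524287)) 5) (dig (row (Nat.land (Nat.shiftRight r6 95) 524287)) 6)))))))) &&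
  (Nat.blt (Nat.land (Nat.shiftRight r 0) 524287) p || (Nat.blt (Nat.land (Nat.shiftRight r 19) 524287) p || (Nat.blt (Nat.land (Nat.shiftRight r 38) 524287) p || (Nat.blt (Nat.land (Nat.shiftRight r 57) 524287) p || (Nat.blt (Nat.land (Nat.shiftRight r 133) 524287) p || (Nat.blt (Nat.land (Nat.shiftRight r 152) 524287) p || (Nat.blt (Nat.land (Nat.shiftRight r 171) 524287) p || Nat.beq (dig (row (Nat.land (Nat.shiftRight r5 190) 524287)) 5) (dig (row (Nat.land (Nat.shiftRight r10 95) 524287)) 10)))))))) &&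
  (Nat.blt (Nat.land (Nat.shiftRight r 0) 524287) p || (Nat.blt (Nat.land (Nat.shiftRight r 19) 524287) p || (Nat.blt (Nat.land (Nat.shiftRight r 38) 524287) p || (Nat.blt (Nat.land (Nat.shiftRight r 57) 524287) p || (Nat.blt (Nat.land (Nat.shiftRight r 76) 524287) p || (Nat.blt (Nat.land (Nat.shiftRight r 171) 524287) p || (Nat.blt (Nat.land (Nat.shiftRight r 190) 524287) p || (Nat.blt (Nat.land (Nat.shiftRight r 209) 524287) p || Nat.beq (dig (row (Nat.land (Nat.shiftRight r6 133) 524287)) 6) (dig (row (Nat.land (Nat.shiftRight r7 114) 524287)) 7))))))))) &&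
  (Nat.blt (Nat.land (Nat.shiftRight r 0) 524287) p || (Nat.blt (Nat.land (Nat.shiftRight r 19) 524287) p || (Nat.blt (Nat.land (Nat.shiftRight r 38) 524287) p || (Nat.blt (Nat.land (Nat.shiftRight r 57) 524287) p || (Nat.blt (Nat.land (Nat.shiftRight r 76) 524287) p || (Nat.blt (Nat.land (Nat.shiftRight r 95) 524287) p || (Nat.blt (Nat.land (Nat.shiftRight r 190) 524287) p || (Nat.blt (Nat.land (Nat.shiftRight r 209) 524287) p || Nat.beq (dig (row (Nat.land (Nat.shiftRight r7 152) 524287)) 7) (dig (row (Nat.land (Nat.shiftRight r8 133) 524287)) 8))))))))) &&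
  (Nat.blt (Nat.land (Nat.shiftRight r 0) 524287) p || (Nat.blt (Nat.land (Nat.shiftRight r 19) 524287) p || (Nat.blt (Nat.land (Nat.shiftRight r 38) 524287) p || (Nat.blt (Nat.land (Nat.shiftRight r 57) 524287) p || (Nat.blt (Nat.land (Nat.shiftRight r 76) 524287) p || (Nat.blt (Nat.land (Nat.shiftRight r 95) 524287) p || (Nat.blt (Nat.land (Nat.shiftRight r 114) 524287) p || (Nat.blt (Nat.land (Nat.shiftRight r 190) 524287) p || (Nat.blt (Nat.land (Nat.shiftRight r 209) 524287) p || Nat.beq (dig (row (Nat.land (Nat.shiftRight r8 171) 524287)) 8) (dig (row (Nat.land (Nat.shiftRight r9 152) 524287)) 9)))))))))) &&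
  (Nat.blt (Nat.land (Nat.shiftRight r 0) 524287) p || (Nat.blt (Nat.land (Nat.shiftRight r 19) 524287) p || (Nat.blt (Nat.land (Nat.shiftRight r 38) 524287) p || (Nat.blt (Nat.land (Nat.shiftRight r 57) 524287) p || (Nat.blt (Nat.land (Nat.shiftRight r 76) 524287) p || (Nat.blt (Nat.land (Nat.shiftRight r 114) 524287) p || (Nat.blt (Nat.land (Nat.shiftRight r 133) 524287) p || (Nat.blt (Nat.land (Nat.shiftRight r 152) 524287) p || (Nat.blt (Nat.land (Nat.shiftRight r 171) 524287) p || Nat.beq (dig (row (Nat.land (Nat.shiftRight r10 209) 524287)) 10) (dig (row (Nat.land (Nat.shiftRight r11 190) 524287)) 11))))))))))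

/-- The longer relations, at points not moved down. -/
noncomputable def extraPt (p r r0 r1 r2 r3 r4 r5 r6 r7 r8 r9 r10 r11 : ℕ) : Bool :=
  (Nat.blt (Nat.land (Nat.shiftRight r 38) 524287) p || (Nat.blt (Nat.land (Nat.shiftRight r 57) 524287) p || (Nat.blt (Nat.land (Nat.shiftRight r 76) 524287) p || (Nat.blt (Nat.land (Nat.shiftRight r 95) 524287) p || (Nat.blt (Nat.land (Nat.shiftRight r 114) 524287) p || (Nat.blt (Nat.land (Nat.shiftRight r 190) 524287) p || Nat.beq (walk wordL (Nat.land (Nat.shiftRight r 152) 524287)) (T 8 (walk wordL p)))))))) &&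
  (Nat.blt (Nat.land (Nat.shiftRight r 38) 524287) p || (Nat.blt (Nat.land (Nat.shiftRight r 57) 524287) p || (Nat.blt (Nat.land (Nat.shiftRight r 76) 524287) p || (Nat.blt (Nat.land (Nat.shiftRight r 95) 524287) p || (Nat.blt (Nat.land (Nat.shiftRight r 114) 524287) p || (Nat.blt (Nat.land (Nat.shiftRight r 133) 524287) p || (Nat.blt (Nat.land (Nat.shiftRight r 171) 524287) p || Nat.beq (walk wordL (Nat.land (Nat.shiftRight r 209) 524287)) (T 11 (walk wordL p))))))))) &&
  (Nat.blt (Nat.land (Nat.shiftRight r 0) 524287) p || (Nat.blt (Nat.land (Nat.shiftRight r 38) 524287) p || (Nat.blt (Nat.land (Nat.shiftRight r 57) 524287) p || (Nat.blt (Nat.land (Nat.shiftRight r 76) 524287) p || (Nat.blt (Nat.land (Nat.shiftRight r 95) 524287) p || (Nat.blt (Nat.land (Nat.shiftRight r 114) 524287) p || (Nat.blt (Nat.land (Nat.shiftRight r 133) 524287) p || (Nat.blt (Nat.land (Nat.shiftRight r 152) 524287) p || (Nat.blt (Nat.land (Nat.shiftRight r 171) 524287) p ||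 (Nat.blt (Nat.land (Nat.shiftRight r 190) 524287) p || (Nat.blt (Nat.land (Nat.shiftRight r 209) 524287) p || Nat.beq (walk wordL p) (Nat.land (Nat.shiftRight r 0) 524287)))))))))))) &&
  (Nat.blt (Nat.land (Nat.shiftRight r 0) 524287) p || (Nat.blt (Nat.land (Nat.shiftRight r 19) 524287) p || (Nat.blt (Nat.land (Nat.shiftRight r 171) 524287) p || (Nat.blt (walk wordS p) p || Nat.beq (walk (powWord wordS 10) p) p)))) &&
  (Nat.blt (Nat.land (Nat.shiftRight r4 57) 524287) p || (Nat.blt (Nat.land (Nat.shiftRight r5 76) 524287) p || (Nat.blt (Nat.land (Nat.shiftRight r6 95) 524287) p || (Nat.blt (Nat.land (Nat.shiftRight r7 114) 524287) p || (Nat.blt (Nat.land (Nat.shiftRight r8 133) 524287) p || (Nat.blt (Nat.land (Nat.shiftRight r9 152) 524287) p || (Nat.blt (Nat.land (Nat.shiftRight r10 95) 524287) p || (Nat.blt (Nat.land (Nat.shiftRight r11 190) 524287) p || Nat.beq (walk wordT (Nat.land (Nat.shiftRight r 19) 524287)) (T 1 (walk wordT p))))))))))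

/-- All tests at one point. -/
noncomputable def pointTest (p : ℕ) : Bool :=
  strict (row p) fun r =>
  strict (row (dig r 0)) fun r0 =>
  strict (row (dig r 1)) fun r1 =>
  strict (row (dig r 2)) fun r2 =>
  strict (row (dig r 3)) fun r3 =>
  strict (row (dig r 4)) fun r4 =>
  strict (row (dig r 5)) fun r5 =>
  strict (row (dig r 6)) fun r6 =>
  strict (row (dig r 7)) fun r7 =>
  strict (row (dig r 8)) fun r8 =>
  strict (row (dig r 9)) fun r9 =>
  strict (row (dig r 10)) fun r10 =>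
  strict (row (dig r 11)) fun r11 =>
  (invPt p r r0 r1 r2 r3 r4 r5 r6 r7 r8 r9 r10 r11 && commPt r0 r1 r2 r3 r4 r5 r6 r7 r8 r9 r10 r11 && braidPt p r r0 r1 r2 r3 r4 r5 r6 r7 r8 r9 r10 r11 && extraPt p r r0 r1 r2 r3 r4 r5 r6 r7 r8 r9 r10 r11)

end CfsgLib.Spor.Fi24
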