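/-
Equality of two permutations from points that commuting permutations do not move down.
-/
import Mathlib.GroupTheory.Perm.Basic
import Mathlib.Algebra.Group.Commute.Basic
import Mathlib.Data.Fin.Basic

namespace CfsgLib.Spor.Fi24

/-- Two permutations are equal when they agree at every point no member of `U` moves down, and each member of
`U` passes through both in the same way. -/
theorem descent {n : ℕ} (U : Set (Equiv.Perm (Fin n))) (W W' : Equiv.Perm (Fin n))
    (step : ∀ p : Fin n, (∃ u ∈ U, (u p : ℕ) < p) ∨ W p = W' p)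
    (pass : ∀ u ∈ U, ∃ u', W * u = u' * W ∧ W' * u = u' * W') : W = W' := by
  refine Equiv.ext fun p => ?_
  obtain ⟨p, hp⟩ := p
  induction p using Nat.strong_induction_on with
  | _ p ih =>
    rcases step ⟨p, hp⟩ with ⟨u, hu, hlt⟩ | h
    · obtain ⟨u', h1, h2⟩ := pass u hu
      have e := ih _ hlt (u ⟨p, hp⟩).2
      have e1 : W (u ⟨p, hp⟩) = u' (W ⟨p, hp⟩) := by
        have := congrArg (fun f : Equiv.Perm (Fin n) => f ⟨p, hp⟩) h1
        simpa using this
      have e2 : W' (u ⟨p, hp⟩) = u' (W' ⟨p, hp⟩) := by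
        have := congrArg (fun f : Equiv.Perm (Fin n) => f ⟨p, hp⟩) h2
        simpa using this
      exact u'.injective (e1.symm.trans (e.trans e2))
    · exact h

/-- Descent by commuting permutations. -/
theorem descent_commute {n : ℕ} (U : Set (Equiv.Perm (Fin n))) (W W' : Equiv.Perm (Fin n))
    (step : ∀ p : Fin n, (∃ u ∈ U, (u p : ℕ) < p) ∨ W p = W' p)
    (hcomm : ∀ u ∈ U, Commute u W ∧ Commute u W') : W = W' :=
  descent U W W' step fun u hu => ⟨u, (hcomm u hu).1.symm.eq, (hcomm u hu).2.symm.eq⟩

end CfsgLib.Spor.Fi24
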