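/-
Relators on eight letters, in both orders.
-/
import Cfsg.Agent.Lib.Spor.TC.Word

namespace CfsgLib.Spor.Fi24

open CfsgLib.Spor.TC

/-- Relators on the letters `4, …, 11`, in both orders. -/
def relsC8 : List PowRel := [
  ([0, 1], 3),
  ([0, 2], 2),
  ([0, 3], 2),
  ([0, 4], 2),
  ([0, 5], 2),
  ([0, 6], 2),
  ([0, 7], 2),
  ([1, 2], 3),
  ([1, 3], 2),
  ([1, 4], 2),
  ([1, 5], 2),
  ([1, 6], 3),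
  ([1, 7], 2),
  ([2, 3], 3),
  ([2, 4], 2),
  ([2, 5], 2),
  ([2, 6], 2),
  ([2, 7], 2),
  ([3, 4], 3),
  ([3, 5], 2),
  ([3, 6], 2),
  ([3, 7], 2),
  ([4, 5], 3),
  ([4, 6], 2),
  ([4, 7], 2),
  ([5, 6], 2),
  ([5, 7], 2),
  ([6, 7], 3),
  ([1, 0], 3),
  ([2, 0], 2),
  ([3, 0], 2),
  ([4, 0], 2),
  ([5, 0], 2),
  ([6, 0], 2),
  ([7, 0], 2),
  ([2, 1], 3),
  ([3, 1], 2),
  ([4, 1], 2),
  ([5, 1], 2),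
  ([6, 1], 3),
  ([7, 1], 2),
  ([3, 2], 3),
  ([4, 2], 2),
  ([5, 2], 2),
  ([6, 2], 2),
  ([7, 2], 2),
  ([4, 3], 3),
  ([5, 3], 2),
  ([6, 3], 2),
  ([7, 3], 2),
  ([5, 4], 3),
  ([6, 4], 2),
  ([7, 4], 2),
  ([6, 5], 2),
  ([7, 5], 2),
  ([7, 6], 3)]

end CfsgLib.Spor.Fi24
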