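/-
The group on eight generators: its order, its faithful action on 240 roots, and a central element of the
subgroup on seven of them.
-/
import Cfsg.Agent.Lib.Spor.Held.Extra
import Cfsg.Agent.Lib.Spor.Fi24Pres.Roots.Checks
import Cfsg.Agent.Lib.Spor.Fi24Pres.CE8.All
import Cfsg.Agent.Lib.Spor.Fi23.Cover

namespace CfsgLib.Spor.Fi24

open CfsgLib.Spor.TC

set_option maxRecDepth 100000

/-- The subgroup on seven letters, in the numbering of the smaller certificates. -/
def embSeven : List ℕ := [7, 6, 1, 2, 3, 4, 0]

theorem card_seven_le : Nat.card (Pres 7 Fi23.relsE) ≠ 0 ∧ Nat.card (Pres 7 Fi23.relsE) ≤ 2903040 := by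
  have h1 := Fi23.CD.cosetCert.card_le (rels' := Fi23.relsD4) (l := 4) (by decide) (by decide +kernel)
    Fi23.CD4.cosetCert.card_le_bot
  have h2 := Fi23.CE6.cosetCert.card_le (rels' := Fi23.relsD) (l := 5) (by decide) (by decide +kernel) h1
  have h3 := Fi23.CE.cosetCert.card_le (rels' := Fi23.relsE6) (l := 6) (by decide) (by decide +kernel) h2
  exact ⟨h3.1, h3.2.trans (by decide +kernel)⟩

theorem hrel_seven : ∀ r ∈ Fi23.relsE, (r.1.map fun x => embSeven.getD x 8, r.2) ∈ relsC8 := by decide +kernel

theorem card_eight_le : Nat.card (Pres 8 relsC8) ≠ 0 ∧ Nat.card (Pres 8 relsC8) ≤ 696729600 := by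
  have h := CE8.cosetCert.card_le (rels' := Fi23.relsE) (l := 7) (by decide) hrel_seven card_seven_le
  exact ⟨h.1, h.2.trans (by decide +kernel)⟩

theorem rhoC_injective : Function.Injective Roots.valid.rho :=
  Held.rho_injective Roots.valid Roots.top_ok.1 ⟨card_eight_le.1, Roots.top_ok.2.symm ▸ card_eight_le.2⟩

/-- The seven letters inside the eight. -/
noncomputable def seven : Pres 7 Fi23.relsE →* Pres 8 relsC8 :=
  subHom (k := 8) (rels := relsC8) (rels' := Fi23.relsE) embSeven hrel_seven

theorem range_seven : seven.range = presSub 8 relsC8 embSeven :=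
  range_subHom (k := 8) (rels := relsC8) hrel_seven

/-- The letters defined inside the seven. -/
def closedSeven : List ℕ := [158, 159, 160, 161, 162, 163, 164, 165, 166, 167, 168, 169, 170, 171, 172]

theorem closedSeven_ok : ∀ x ∈ closedSeven, 8 ≤ x ∧ (x - 8) < Roots.act.defs.length ∧
    ∀ y ∈ Roots.act.defs.getD (x - 8) [], y ∈ embSeven ∨ (y ∈ closedSeven ∧ y < x) := by decide +kernel

theorem e7_gens : ∀ L ∈ Roots.e7, ∀ x ∈ L.gens, x ∈ embSeven ∨ x ∈ closedSeven := by
  simp only [Roots.e7, List.forall_mem_cons, List.not_mem_nil, false_implies, implies_true, and_true]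
  decide +kernel

theorem seven_injective : Function.Injective seven := by
  have hmem := letters_mem (A := Roots.act) (emb := embSeven) (by decide) relsC8 closedSeven
    (fun x hx => (closedSeven_ok x hx).1) Roots.valid.below fun x hx => by
      obtain ⟨-, h2, h3⟩ := closedSeven_ok x hx
      refine ⟨Roots.act.defs.getD (x - 8) [], ?_, h3⟩
      show Roots.act.defs[x - 8]? = _
      rw [List.getElem?_eq_getElem h2, List.getD_eq_getElem _ _ h2]
  have h := card_presSub_ge (emb := embSeven) Roots.valid (by decide) card_eight_le.1 Roots.e7_ok.1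
    fun L hL x hx => hmem x (e7_gens L hL x hx)
  rw [Roots.e7_ok.2] at h
  haveI : Finite (Pres 7 Fi23.relsE) := Nat.finite_of_card_ne_zero card_seven_le.1
  have h1 : Nat.card (Pres 7 Fi23.relsE) ≤ Nat.card seven.range := by
    rw [range_seven]
    exact card_seven_le.2.trans h
  exact fun u v e => (seven.rangeRestrict_surjective.bijective_of_nat_card_le h1).1 (Subtype.ext e)

/-- The word whose ninth power is central. -/
def wordSeven : List ℕ := [5, 4, 3, 2, 1, 0, 6]

theorem seven_same : ∀ x ∈ List.range 7, Roots.act.sameOK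
    ((embSeven.getD x 8) :: ((powWord wordSeven 9).map fun y => embSeven.getD y 8))
    (((powWord wordSeven 9).map fun y => embSeven.getD y 8) ++ [embSeven.getD x 8]) = true := by decide +kernel

theorem seven_central : ∀ x, x < 7 →
    Commute (presGen 7 Fi23.relsE x) (ev (presGen 7 Fi23.relsE) (powWord wordSeven 9)) := by
  intro x hx
  refine seven_injective ?_
  have hg : ∀ y, seven (presGen 7 Fi23.relsE y) = presGen 8 relsC8 (embSeven.getD y 8) :=
    fun y => presHom_gen (sat_sub (sat_presGen 8 relsC8) embSeven hrel_seven) y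
  have e : ∀ w : List ℕ, seven (ev (presGen 7 Fi23.relsE) w) =
      ev (presGen 8 relsC8) (w.map fun y => embSeven.getD y 8) := by
    intro w
    rw [map_ev]
    simp only [ev, List.map_map]
    exact congrArg List.prod (List.map_congr_left fun y _ => hg y)
  rw [map_mul, map_mul, hg, e]
  have h := rhoC_injective (Roots.valid.rho_eq (seven_same x (List.mem_range.2 hx)))
  change (ev (presGen 8 relsC8) (embSeven.getD x 8 :: (powWord wordSeven 9).map fun y => embSeven.getD y 8)) =
    ev (presGen 8 relsC8) (((powWord wordSeven 9).map fun y => embSeven.getD y 8) ++ [embSeven.getD x 8]) at h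
  rw [ev_cons, ev_append] at h
  simpa [ev] using h

end CfsgLib.Spor.Fi24
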