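/-
The twelve permutations and what the point tests say about them.
-/
import Cfsg.Agent.Lib.Spor.Fi24Pres.Test

namespace CfsgLib.Spor.Fi24

open CfsgLib.Spor.TC

set_option linter.all false
set_option maxRecDepth 100000

/-- The number of points. -/
abbrev nPts : ℕ := 306936

/-- The pairs of commuting letters. -/
def commList : List (ℕ × ℕ) := [(0, 2), (0, 3), (0, 4), (0, 5), (0, 6), (0, 7), (0, 8), (0, 9), (0, 10), (0, 11), (1, 3), (1, 4), (1, 5), (1, 6), (1, 7), (1, 8), (1, 9), (1, 10), (1, 11), (2, 4), (2, 5), (2, 6), (2, 7), (2, 8), (2, 9), (2, 10), (2, 11), (3, 5), (3, 6), (3, 7), (3, 8), (3, 9), (3, 10), (3, 11), (4, 6), (4, 7), (4, 8), (4, 9), (4, 10), (4, 11), (5, 7), (5, 8), (5, 9), (5, 11), (6, 8), (6, 9), (6, 10), (6, 11), (7, 9), (7, 10), (7, 11), (8, 10), (8, 11), (9, 10), (9, 11)]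

/-- The pairs of braiding letters, with letters commuting with both. -/
def braidList : List (ℕ × ℕ × List ℕ) := [(0, 1, [3, 4, 5, 6, 7, 8, 9, 10, 11]), (1, 2, [4, 5, 6, 7, 8, 9, 10, 11]), (2, 3, [0, 5, 6, 7, 8, 9, 10, 11]), (3, 4, [0, 1, 6, 7, 8, 9, 10, 11]), (4, 5, [0, 1, 2, 7, 8, 9, 11]), (5, 6, [0, 1, 2, 3, 8, 9, 11]), (5, 10, [0, 1, 2, 3, 7, 8, 9]), (6, 7, [0, 1, 2, 3, 4, 9, 10, 11]), (7, 8, [0, 1, 2, 3, 4, 5, 10, 11]), (8, 9, [0, 1, 2, 3, 4, 5, 6, 10, 11]), (10, 11, [0, 1, 2, 3, 4, 6, 7, 8, 9])]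

/-- The pairs used to move points down for the commutation of the second letter with the conjugate. -/
def pairList : List (ℕ × ℕ) := [(3, 4), (4, 5), (5, 6), (6, 7), (7, 8), (8, 9), (5, 10), (10, 11)]

theorem pointTest_spec {p : ℕ} (h : pointTest p = true) :
    (∀ x, x < 12 → T x p < nPts ∧ T x (T x p) = p) ∧
    (∀ e ∈ commList, T e.2 (T e.1 p) = T e.1 (T e.2 p)) ∧
    (∀ e ∈ braidList, (∃ u ∈ e.2.2, T u p < p) ∨
      T e.1 (T e.2.1 (T e.1 p)) = T e.2.1 (T e.1 (T e.2.1 p))) ∧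
    ((∃ u ∈ [2, 3, 4, 5, 6, 10], T u p < p) ∨ walk wordL (T 8 p) = T 8 (walk wordL p)) ∧
    ((∃ u ∈ [2, 3, 4, 5, 6, 7, 9], T u p < p) ∨ walk wordL (T 11 p) = T 11 (walk wordL p)) ∧
    ((∃ u ∈ [0, 2, 3, 4, 5, 6, 7, 8, 9, 10, 11], T u p < p) ∨ walk wordL p = T 0 p) ∧
    (T 0 p < p ∨ T 1 p < p ∨ T 9 p < p ∨ walk wordS p < p ∨ walk (powWord wordS 10) p = p) ∧
    ((∃ e ∈ pairList, T e.1 (T e.2 p) < p) ∨ walk wordT (T 1 p) = T 1 (walk wordT p)) := by
  simp only [pointTest, strict_eq, dig, Nat.mul_eq, Nat.reduceMul, Bool.and_eq_true] at h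
  obtain ⟨⟨⟨hi, hc⟩, hb⟩, he⟩ := h
  refine ⟨?_, ?_, ?_, ?_⟩
  · simp only [invPt, Bool.and_eq_true, Nat.blt_eq, Nat.beq_eq, and_assoc] at hi
    intro x hx
    interval_cases x <;> simp only [T, dig, Nat.mul_eq, Nat.reduceMul, nPts] <;> simp only [hi, and_self]
  · simp only [commPt, Bool.and_eq_true, Nat.beq_eq, and_assoc] at hc
    simp only [commList, List.forall_mem_cons, List.not_mem_nil, false_implies, implies_true, and_true, T, dig,
      Nat.mul_eq, Nat.reduceMul]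
    exact hc
  · simp only [braidPt, Bool.and_eq_true, Bool.or_eq_true, Nat.blt_eq, Nat.beq_eq, and_assoc] at hb
    simp only [braidList, List.forall_mem_cons, List.not_mem_nil, false_implies, implies_true, and_true, T, dig,
      Nat.mul_eq, Nat.reduceMul, List.exists_mem_cons_iff, false_and, exists_const, exists_false, or_false, or_assoc]
    exact hb
  · simp only [extraPt, Bool.and_eq_true, Bool.or_eq_true, Nat.blt_eq, Nat.beq_eq, and_assoc] at he
    simp only [pairList, T, dig, Nat.mul_eq, Nat.reduceMul, List.exists_mem_cons_iff, List.not_mem_nil, false_and,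
      exists_const, exists_false, or_false, or_assoc] at he ⊢
    exact he

/-- The permutation of a letter. -/
noncomputable def sig (hall : RangeTest pointTest 0 nPts) (x : ℕ) : Equiv.Perm (Fin nPts) :=
  if hx : x < 12 then
    { toFun := fun c => ⟨T x c, ((pointTest_spec (hall c (Nat.zero_le _) c.2)).1 x hx).1⟩
      invFun := fun c => ⟨T x c, ((pointTest_spec (hall c (Nat.zero_le _) c.2)).1 x hx).1⟩
      left_inv := fun c => Fin.ext ((pointTest_spec (hall c (Nat.zero_le _) c.2)).1 x hx).2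
      right_inv := fun c => Fin.ext ((pointTest_spec (hall c (Nat.zero_le _) c.2)).1 x hx).2 }
  else 1

end CfsgLib.Spor.Fi24
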