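/-
The twelve permutations satisfy the Coxeter relations, the relation of the first letter and the spider relation.
-/
import Cfsg.Agent.Lib.Spor.Fi24Pres.Perms
import Cfsg.Agent.Lib.Spor.Fi24Pres.Descent
import Cfsg.Agent.Lib.Spor.Fi24Pres.E8

namespace CfsgLib.Spor.Fi24

open CfsgLib.Spor.TC

set_option maxRecDepth 100000

variable (hall : RangeTest pointTest 0 nPts)
include hall

/-- What the test says at a point. -/
theorem spec (c : Fin nPts) : pointTest c = true := hall c (Nat.zero_le _) c.2

theorem sig_val {x : ℕ} (hx : x < 12) (c : Fin nPts) : (sig hall x c : ℕ) = T x c := by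
  rw [sig, dif_pos hx]; rfl

theorem sig_out {x : ℕ} (hx : 12 ≤ x) : sig hall x = 1 := by
  rw [sig, dif_neg (Nat.not_lt.2 hx)]

theorem sig_sq (x : ℕ) : sig hall x * sig hall x = 1 := by
  by_cases hx : x < 12
  · ext c
    rw [Equiv.Perm.mul_apply, sig_val hall hx, sig_val hall hx]
    exact ((pointTest_spec (spec hall c)).1 x hx).2
  · rw [sig_out hall (Nat.le_of_not_lt hx), one_mul]

omit hall in
theorem walk_cons (a : ℕ) (w : List ℕ) (c : ℕ) : walk (a :: w) c = T a (walk w c) := by
  show strict (walk w c) (T a) = _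
  rw [strict_eq]

theorem ev_val : ∀ {w : List ℕ}, (∀ x ∈ w, x < 12) → ∀ c : Fin nPts, (ev (sig hall) w c : ℕ) = walk w c := by
  intro w
  induction w with
  | nil => intro _ c; simp [ev, walk]
  | cons a w ih =>
    intro hw c
    rw [ev_cons, Equiv.Perm.mul_apply, sig_val hall (hw a List.mem_cons_self),
      ih (fun x hx => hw x (List.mem_cons_of_mem _ hx)), walk_cons]

theorem commute_list {x y : ℕ} (h : (x, y) ∈ commList) : Commute (sig hall x) (sig hall y) := by
  obtain ⟨hx, hy⟩ : x < 12 ∧ y < 12 := (show ∀ e ∈ commList, e.1 < 12 ∧ e.2 < 12 by decide +kernel) _ h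
  show sig hall x * sig hall y = sig hall y * sig hall x
  ext c
  rw [Equiv.Perm.mul_apply, Equiv.Perm.mul_apply, sig_val hall hx, sig_val hall hy, sig_val hall hy,
    sig_val hall hx]
  exact ((pointTest_spec (spec hall c)).2.1 _ h).symm

/-- Whether two letters are shown to commute. -/
def commB (x y : ℕ) : Bool := x == y || commList.contains (x, y) || commList.contains (y, x)

theorem commute_of {x y : ℕ} (h : commB x y = true) : Commute (sig hall x) (sig hall y) := by
  simp only [commB, Bool.or_eq_true, beq_iff_eq, List.contains_iff_mem] at h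
  rcases h with (rfl | h) | h
  · exact Commute.refl _
  · exact commute_list hall h
  · exact (commute_list hall h).symm

theorem commute_ev {u : Equiv.Perm (Fin nPts)} {w : List ℕ} (h : ∀ x ∈ w, Commute u (sig hall x)) :
    Commute u (ev (sig hall) w) :=
  Commute.list_prod_right (w.map (sig hall)) u fun y hy => by
    obtain ⟨x, hx, rfl⟩ := List.mem_map.1 hy
    exact h x hx

theorem braid {e : ℕ × ℕ × List ℕ} (he : e ∈ braidList) :
    sig hall e.1 * sig hall e.2.1 * sig hall e.1 = sig hall e.2.1 * sig hall e.1 * sig hall e.2.1 := by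
  obtain ⟨h1, h2, hU⟩ := (show ∀ e ∈ braidList, e.1 < 12 ∧ e.2.1 < 12 ∧
    ∀ u ∈ e.2.2, u < 12 ∧ commB u e.1 = true ∧ commB u e.2.1 = true by decide +kernel) e he
  refine descent_commute ((sig hall) '' {u | u ∈ e.2.2}) _ _ (fun p => ?_) ?_
  · rcases (pointTest_spec (spec hall p)).2.2.1 e he with ⟨u, hu, hlt⟩ | h
    · exact Or.inl ⟨_, ⟨u, hu, rfl⟩, by rw [sig_val hall (hU u hu).1]; exact hlt⟩
    · refine Or.inr (Fin.ext ?_)
      simp only [Equiv.Perm.mul_apply, sig_val hall h1, sig_val hall h2]
      exact h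
  · rintro _ ⟨u, hu, rfl⟩
    have c1 := commute_of hall (hU u hu).2.1
    have c2 := commute_of hall (hU u hu).2.2
    exact ⟨(c1.mul_right c2).mul_right c1, (c2.mul_right c1).mul_right c2⟩

/-- The shapes of the pair relators that hold. -/
def pairOK (r : PowRel) : Bool :=
  match r with
  | ([x, y], 2) => commB x y
  | ([x, y], 3) => braidList.any fun e => (e.1 == x && e.2.1 == y) || (e.1 == y && e.2.1 == x)
  | _ => false

theorem rel_pair {r : PowRel} (h : pairOK r = true) : ev (sig hall) r.1 ^ r.2 = 1 := by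
  unfold pairOK at h
  split at h
  · rename_i x y
    have c := commute_of hall h
    simp only [ev, List.map_cons, List.map_nil, List.prod_cons, List.prod_nil, mul_one]
    rw [c.mul_pow, pow_two, pow_two, sig_sq, sig_sq, one_mul]
  · rename_i x y
    have h3 : sig hall x * sig hall y * sig hall x = sig hall y * sig hall x * sig hall y := by
      simp only [List.any_eq_true, Bool.or_eq_true, Bool.and_eq_true, beq_iff_eq] at h
      obtain ⟨e, he, ⟨rfl, rfl⟩ | ⟨rfl, rfl⟩⟩ := h
      · exact braid hall he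
      · exact (braid hall he).symm
    simp only [ev, List.map_cons, List.map_nil, List.prod_cons, List.prod_nil, mul_one]
    calc (sig hall x * sig hall y) ^ 3
        = (sig hall x * sig hall y * sig hall x) * (sig hall y * sig hall x * sig hall y) := by
          simp [pow_succ, mul_assoc]
      _ = (sig hall x * sig hall y * sig hall x) * (sig hall x * sig hall y * sig hall x) := by rw [← h3]
      _ = sig hall x * (sig hall y * (sig hall x * sig hall x) * sig hall y) * sig hall x := by
          simp [mul_assoc]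
      _ = 1 := by rw [sig_sq, mul_one, sig_sq, mul_one, sig_sq]
  · exact absurd h Bool.false_ne_true

/-- The numbering of the seven letters among the twelve. -/
def embE : List ℕ := [7, 6, 5, 4, 3, 2, 10]

theorem sat_seven : Sat 7 Fi23.relsE (subGen (sig hall) 12 embE) := by
  refine ⟨fun x => sig_sq hall _, fun x hx => ?_, fun r hr => ?_⟩
  · rw [subGen, List.getD_eq_default _ _ (by simpa [embE] using hx)]
    exact sig_out hall le_rfl
  · have h : pairOK (r.1.map fun x => embE.getD x 12, r.2) = true :=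
      (show ∀ r ∈ Fi23.relsE, pairOK (r.1.map fun x => embE.getD x 12, r.2) = true by decide +kernel) r hr
    have h2 := rel_pair hall h
    rw [show ev (subGen (sig hall) 12 embE) r.1 = ev (sig hall) (r.1.map fun x => embE.getD x 12) by
      unfold ev; rw [List.map_map]; rfl]
    exact h2

omit hall in
theorem wordL_eq : wordL = (powWord wordSeven 9).map fun x => embE.getD x 12 := by decide +kernel

theorem commute_L_seven {i : ℕ} (hi : i < 7) :
    Commute (sig hall (embE.getD i 12)) (ev (sig hall) wordL) := by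
  have h := (seven_central i hi).map (presHom (sat_seven hall))
  rw [presHom_gen, map_ev, ev_congr (g' := subGen (sig hall) 12 embE) fun y _ => presHom_gen _ y] at h
  rw [wordL_eq, show ev (sig hall) ((powWord wordSeven 9).map fun x => embE.getD x 12) =
    ev (subGen (sig hall) 12 embE) (powWord wordSeven 9) by unfold ev; rw [List.map_map]; rfl]
  exact h

omit hall in
theorem wordL_lt : ∀ x ∈ wordL, x < 12 := by decide +kernel

theorem commute_L_of {u : ℕ} (hu : u ∈ [0, 2, 3, 4, 5, 6, 7, 9, 10]) :
    Commute (sig hall u) (ev (sig hall) wordL) := by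
  have h7 : u ∈ embE ∨ ∀ x ∈ wordL, commB u x = true :=
    (show ∀ u ∈ [0, 2, 3, 4, 5, 6, 7, 9, 10], u ∈ embE ∨ ∀ x ∈ wordL, commB u x = true by decide +kernel) u hu
  rcases h7 with h | h
  · obtain ⟨i, hi, rfl⟩ := List.mem_iff_getElem.1 h
    have h' := commute_L_seven hall (i := i) (lt_of_lt_of_eq hi rfl)
    rwa [List.getD_eq_getElem _ _ hi] at h'
  · exact commute_ev hall fun x hx => commute_of hall (h x hx)

theorem commute_L_eight : Commute (sig hall 8) (ev (sig hall) wordL) := by
  refine (descent_commute ((sig hall) '' {u | u ∈ [2, 3, 4, 5, 6, 10]}) (ev (sig hall) wordL * sig hall 8)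
    (sig hall 8 * ev (sig hall) wordL) (fun p => ?_) ?_).symm
  · rcases (pointTest_spec (spec hall p)).2.2.2.1 with ⟨u, hu, hlt⟩ | h
    · exact Or.inl ⟨_, ⟨u, hu, rfl⟩, by
        rw [sig_val hall ((show ∀ u ∈ [2, 3, 4, 5, 6, 10], u < 12 by decide) u hu)]; exact hlt⟩
    · refine Or.inr (Fin.ext ?_)
      rw [Equiv.Perm.mul_apply, Equiv.Perm.mul_apply, ev_val hall wordL_lt, sig_val hall (by decide),
        sig_val hall (by decide), ev_val hall wordL_lt]
      exact h
  · rintro _ ⟨u, hu, rfl⟩
    obtain ⟨h1, h2⟩ := (show ∀ u ∈ [2, 3, 4, 5, 6, 10],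
      u ∈ [0, 2, 3, 4, 5, 6, 7, 9, 10] ∧ commB u 8 = true by decide +kernel) u hu
    exact ⟨(commute_L_of hall h1).mul_right (commute_of hall h2),
      (commute_of hall h2).mul_right (commute_L_of hall h1)⟩

theorem commute_L_eleven : Commute (sig hall 11) (ev (sig hall) wordL) := by
  refine (descent_commute ((sig hall) '' {u | u ∈ [2, 3, 4, 5, 6, 7, 9]}) (ev (sig hall) wordL * sig hall 11)
    (sig hall 11 * ev (sig hall) wordL) (fun p => ?_) ?_).symm
  · rcases (pointTest_spec (spec hall p)).2.2.2.2.1 with ⟨u, hu, hlt⟩ | h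
    · exact Or.inl ⟨_, ⟨u, hu, rfl⟩, by
        rw [sig_val hall ((show ∀ u ∈ [2, 3, 4, 5, 6, 7, 9], u < 12 by decide) u hu)]; exact hlt⟩
    · refine Or.inr (Fin.ext ?_)
      rw [Equiv.Perm.mul_apply, Equiv.Perm.mul_apply, ev_val hall wordL_lt, sig_val hall (by decide),
        sig_val hall (by decide), ev_val hall wordL_lt]
      exact h
  · rintro _ ⟨u, hu, rfl⟩
    obtain ⟨h1, h2⟩ := (show ∀ u ∈ [2, 3, 4, 5, 6, 7, 9],
      u ∈ [0, 2, 3, 4, 5, 6, 7, 9, 10] ∧ commB u 11 = true by decide +kernel) u hu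
    exact ⟨(commute_L_of hall h1).mul_right (commute_of hall h2),
      (commute_of hall h2).mul_right (commute_L_of hall h1)⟩

theorem ev_wordL : ev (sig hall) wordL = sig hall 0 := by
  refine descent_commute ((sig hall) '' {u | u ∈ [0, 2, 3, 4, 5, 6, 7, 8, 9, 10, 11]}) _ _ (fun p => ?_) ?_
  · rcases (pointTest_spec (spec hall p)).2.2.2.2.2.1 with ⟨u, hu, hlt⟩ | h
    · exact Or.inl ⟨_, ⟨u, hu, rfl⟩, by
        rw [sig_val hall ((show ∀ u ∈ [0, 2, 3, 4, 5, 6, 7, 8, 9, 10, 11], u < 12 by decide) u hu)]; exact hlt⟩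
    · refine Or.inr (Fin.ext ?_)
      rw [ev_val hall wordL_lt, sig_val hall (by decide)]
      exact h
  · rintro _ ⟨u, hu, rfl⟩
    obtain ⟨h1, h2⟩ := (show ∀ u ∈ [0, 2, 3, 4, 5, 6, 7, 8, 9, 10, 11],
      (u = 8 ∨ u = 11 ∨ u ∈ [0, 2, 3, 4, 5, 6, 7, 9, 10]) ∧ commB u 0 = true by decide +kernel) u hu
    refine ⟨?_, commute_of hall h2⟩
    rcases h1 with rfl | rfl | h1
    · exact commute_L_eight hall
    · exact commute_L_eleven hall
    · exact commute_L_of hall h1

theorem spider : ev (sig hall) wordS ^ 10 = 1 := by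
  rw [← ev_powWord]
  have hlt : ∀ x ∈ powWord wordS 10, x < 12 := by decide +kernel
  refine descent_commute (insert (ev (sig hall) wordS) ((sig hall) '' {u | u ∈ [0, 1, 9]})) _ _ (fun p => ?_) ?_
  · rcases (pointTest_spec (spec hall p)).2.2.2.2.2.2.1 with h | h | h | h | h
    · exact Or.inl ⟨_, Or.inr ⟨0, by decide, rfl⟩, by rw [sig_val hall (by decide)]; exact h⟩
    · exact Or.inl ⟨_, Or.inr ⟨1, by decide, rfl⟩, by rw [sig_val hall (by decide)]; exact h⟩
    · exact Or.inl ⟨_, Or.inr ⟨9, by decide, rfl⟩, by rw [sig_val hall (by decide)]; exact h⟩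
    · exact Or.inl ⟨_, Or.inl rfl, by rw [ev_val hall (by decide)]; exact h⟩
    · refine Or.inr (Fin.ext ?_)
      rw [ev_val hall hlt]
      exact h
  · rintro u (rfl | ⟨u, hu, rfl⟩)
    · refine ⟨?_, Commute.one_right _⟩
      rw [ev_powWord]
      exact (Commute.refl _).pow_right 10
    · refine ⟨commute_ev hall fun x hx => commute_of hall ?_, Commute.one_right _⟩
      exact (show ∀ u ∈ [0, 1, 9], ∀ x ∈ powWord wordS 10, commB u x = true by decide +kernel) u hu x hx

end CfsgLib.Spor.Fi24
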