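/-
The subgroup without the second letter: its elements are known from nine points.
-/
import Cfsg.Agent.Lib.Spor.Fi24Pres.Sig
import Cfsg.Agent.Lib.Spor.Fi24Pres.BaseFix
import Cfsg.Agent.Lib.Spor.Fi24Pres.Phi.Test
import Cfsg.Agent.Lib.Spor.Fi23.Order

namespace CfsgLib.Spor.Fi24

open CfsgLib.Spor.TC

set_option maxRecDepth 100000

/-- The letters other than the second. -/
def embH : List ℕ := [0, 2, 3, 4, 5, 6, 7, 8, 9, 10, 11]

theorem embH_lt : ∀ x ∈ embH, x < 12 := by decide

theorem shift_mem {x : ℕ} (hx : x < 10) : x + 2 ∈ embH := by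
  interval_cases x <;> decide

theorem phiTest_spec {c : ℕ} (h : phiTest c = true) :
    phi c < nPts ∧ T 0 (phi c) = phi c ∧ (c < 9 ∨ phi c ∉ (List.range 9).map phi) ∧
    ∀ x, x < 10 → T (x + 2) (phi c) = phi (Fi23.ActF.act.T x c) := by
  simp only [phiTest, strict_eq, Bool.and_eq_true, Bool.or_eq_true, Nat.blt_eq, Nat.beq_eq,
    Bool.not_eq_true', Bool.or_eq_false_iff, and_assoc] at h
  obtain ⟨h1, h2, h3, hx⟩ := h
  refine ⟨h1, h2, h3.imp_right fun hn => ?_, fun x hlt => ?_⟩
  · rw [phi_base]
    simp only [List.mem_cons, List.not_mem_nil, or_false]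
    simp only [← Bool.not_eq_true, Nat.beq_eq] at hn
    tauto
  · interval_cases x <;> simp only [T, dig, Nat.mul_eq, Nat.reduceMul, Nat.reduceAdd] <;> simp only [hx]

variable (hall : RangeTest pointTest 0 nPts)
include hall

theorem commute_zero : ∀ {x : ℕ}, x ∈ embH → Commute (sig hall x) (sig hall 0) := fun hx =>
  commute_of hall ((show ∀ x ∈ embH, commB x 0 = true by decide +kernel) _ hx)

/-- The centralizer of the first letter. -/
noncomputable def centZero : Subgroup (Equiv.Perm (Fin nPts)) := Subgroup.centralizer {sig hall 0}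

theorem mem_centZero {g : Equiv.Perm (Fin nPts)} : g ∈ centZero hall ↔ Commute g (sig hall 0) :=
  Subgroup.mem_centralizer_singleton_iff

theorem zero_mem : sig hall 0 ∈ centZero hall := (mem_centZero hall).2 (Commute.refl _)

/-- The first letter in its centralizer, as a normal subgroup. -/
noncomputable def zGroup : Subgroup (centZero hall) := Subgroup.zpowers ⟨sig hall 0, zero_mem hall⟩

instance zGroup_normal : (zGroup hall).Normal := by
  refine ⟨fun z hz g => ?_⟩
  obtain ⟨i, rfl⟩ := hz
  have hc : Commute g (⟨sig hall 0, zero_mem hall⟩ : centZero hall) :=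
    Subtype.ext ((mem_centZero hall).1 g.2).eq
  rw [(hc.zpow_right i).eq, mul_inv_cancel_right]
  exact ⟨i, rfl⟩

/-- A letter of the smaller group in the centralizer of the first letter. -/
noncomputable def liftH (x : ℕ) : centZero hall :=
  if hx : x < 10 then ⟨sig hall (x + 2), (mem_centZero hall).2 (commute_zero hall (shift_mem hx))⟩ else 1

theorem liftH_val {x : ℕ} (hx : x < 10) : (liftH hall x : Equiv.Perm (Fin nPts)) = sig hall (x + 2) := by
  rw [liftH, dif_pos hx]

theorem ev_liftH {w : List ℕ} (hw : ∀ x ∈ w, x < 10) :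
    ((ev (liftH hall) w : centZero hall) : Equiv.Perm (Fin nPts)) = ev (sig hall) (w.map (· + 2)) := by
  rw [← Subgroup.coe_subtype, map_ev]
  unfold ev
  rw [List.map_map]
  exact congrArg List.prod (List.map_congr_left fun x hx => liftH_val hall (hw x hx))

omit hall in
theorem rels_shape : ∀ r ∈ Fi23.relsG, (∀ x ∈ r.1, x < 10) ∧
    (pairOK (r.1.map (· + 2), r.2) = true ∨ (r.1.map (· + 2) = wordS ∧ r.2 = 10) ∨
      powWord (r.1.map (· + 2)) r.2 = wordL) := by
  decide +kernel

theorem sat_mod : Sat 10 Fi23.relsG fun x => QuotientGroup.mk' (zGroup hall) (liftH hall x) := by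
  refine ⟨fun x => ?_, fun x hx => ?_, fun r hr => ?_⟩
  · show QuotientGroup.mk' (zGroup hall) (liftH hall x) * QuotientGroup.mk' (zGroup hall) (liftH hall x) = 1
    rw [← map_mul, show liftH hall x * liftH hall x = 1 from ?_, map_one]
    refine Subtype.ext ?_
    by_cases hx : x < 10
    · rw [Subgroup.coe_mul, liftH_val hall hx, sig_sq, Subgroup.coe_one]
    · rw [liftH, dif_neg hx, one_mul]
  · show QuotientGroup.mk' (zGroup hall) (liftH hall x) = 1
    rw [liftH, dif_neg (Nat.not_lt.2 hx), map_one]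
  · rw [← map_ev, ← map_pow, QuotientGroup.mk'_apply, QuotientGroup.eq_one_iff]
    obtain ⟨hlt, h | ⟨h, hm⟩ | h⟩ := rels_shape r hr
    · rw [show ev (liftH hall) r.1 ^ r.2 = 1 from Subtype.ext (by
        rw [Subgroup.coe_pow, ev_liftH hall hlt, Subgroup.coe_one]; exact rel_pair hall h)]
      exact one_mem _
    · rw [show ev (liftH hall) r.1 ^ r.2 = 1 from Subtype.ext (by
        rw [Subgroup.coe_pow, ev_liftH hall hlt, Subgroup.coe_one, h, hm]; exact spider hall)]
      exact one_mem _
    · rw [show ev (liftH hall) r.1 ^ r.2 = ⟨sig hall 0, zero_mem hall⟩ from Subtype.ext (by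
        rw [Subgroup.coe_pow, ev_liftH hall hlt, ← ev_powWord, h, ev_wordL])]
      exact Subgroup.mem_zpowers _

variable (hphi : RangeTest phiTest 0 31671)
include hphi

omit hall in
theorem phi_lt (c : Fin Fi23.ActF.act.n) : phi c < nPts :=
  (phiTest_spec (hphi c (Nat.zero_le _) c.2)).1

/-- The image of a coset. -/
noncomputable def phiP (c : Fin Fi23.ActF.act.n) : Fin nPts := ⟨phi c, phi_lt hphi c⟩

theorem fix_zero (c : Fin Fi23.ActF.act.n) : sig hall 0 (phiP hphi c) = phiP hphi c :=
  Fin.ext ((sig_val hall (by decide) _).trans (phiTest_spec (hphi c (Nat.zero_le _) c.2)).2.1)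

theorem intertwine : ∀ {w : List ℕ}, (∀ x ∈ w, x < 10) → ∀ c : Fin Fi23.ActF.act.n,
    ev (sig hall) (w.map (· + 2)) (phiP hphi c) =
      phiP hphi (ev Fi23.ActF.valid.perm w c) := by
  intro w
  induction w with
  | nil => intro _ c; simp [ev]
  | cons a w ih =>
    intro hw c
    have ha : a < 10 := hw a List.mem_cons_self
    rw [List.map_cons, ev_cons, ev_cons, Equiv.Perm.mul_apply, Equiv.Perm.mul_apply,
      ih (fun x hx => hw x (List.mem_cons_of_mem _ hx))]
    refine Fin.ext ((sig_val hall (by omega) _).trans ?_)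
    show T (a + 2) (phi _) = phi _
    rw [Fi23.ActF.valid.perm_apply (lt_of_lt_of_le (show a < Fi23.ActF.act.k from ha) (Nat.le_add_right _ _))]
    exact (phiTest_spec (hphi _ (Nat.zero_le _) (Fin.isLt _))).2.2.2 a ha

/-- The nine points. -/
def basePts : List ℕ := [0, 1, 2, 3, 4, 5, 6, 7, 8]

omit hall hphi in
theorem bases_eq : Fi23.ActF.bases.map Level.base = basePts := by decide +kernel

omit hall hphi in
theorem phi_base_nodup : ∀ i ∈ List.range 9, ∀ j ∈ List.range 9, phi i = phi j → i = j := by decide +kernel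

omit hall hphi in
/-- A word without the second letter is one without the first two when the first is the known word. -/
theorem shift_word {G : Type*} [Group G] {g : ℕ → G} (h0 : g 0 = ev g wordL) :
    ∀ w : List ℕ, (∀ x ∈ w, x ∈ embH) → ∃ v : List ℕ, (∀ x ∈ v, x < 10) ∧ ev g w = ev g (v.map (· + 2)) := by
  intro w
  induction w with
  | nil => intro _; exact ⟨[], by simp, rfl⟩
  | cons a w ih =>
    intro hw
    obtain ⟨v, hv, e⟩ := ih fun x hx => hw x (List.mem_cons_of_mem _ hx)
    have ha := hw a List.mem_cons_self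
    by_cases ha0 : a = 0
    · refine ⟨powWord [0, 1, 2, 3, 4, 5, 8] 9 ++ v, fun x hx => ?_, ?_⟩
      · rcases List.mem_append.1 hx with hx | hx
        · exact (show ∀ x ∈ powWord [0, 1, 2, 3, 4, 5, 8] 9, x < 10 by decide +kernel) x hx
        · exact hv x hx
      · rw [ev_cons, e, List.map_append, ev_append, ha0, h0,
          show (powWord [0, 1, 2, 3, 4, 5, 8] 9).map (· + 2) = wordL by decide +kernel]
    · have h2 : 2 ≤ a ∧ a < 12 :=
        (show ∀ x ∈ embH, x ≠ 0 → 2 ≤ x ∧ x < 12 by decide +kernel) a ha ha0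
      refine ⟨(a - 2) :: v, fun x hx => ?_, ?_⟩
      · rcases List.mem_cons.1 hx with rfl | hx
        · omega
        · exact hv x hx
      · rw [List.map_cons, ev_cons, ev_cons, e, Nat.sub_add_cancel h2.1]

/-- A word of the smaller group whose image fixes the images of the nine points is trivial. -/
theorem half_word {v : List ℕ} (hv : ∀ x ∈ v, x < 10)
    (hfix : ∀ c : Fin Fi23.ActF.act.n, (c : ℕ) < 9 →
      ev (sig hall) (v.map (· + 2)) (phiP hphi c) = phiP hphi c) :
    ev (presGen 10 Fi23.relsG) v = 1 := by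
  have hperm : ∀ c, ev Fi23.ActF.valid.perm v c = Fi23.ActF.valid.rho (ev (presGen Fi23.ActF.act.k Fi23.relsG) v) c := fun c => by
    rw [map_ev]
    exact congrArg (fun f : Equiv.Perm _ => f c) (ev_congr fun x hx => by
      show _ = Fi23.ActF.valid.rho (presGen Fi23.ActF.act.k Fi23.relsG x)
      rw [← Act.letters_of_lt (A := Fi23.ActF.act) (show x < Fi23.ActF.act.k from hv x hx),
        Fi23.ActF.valid.rho_letters])
  show ev (presGen Fi23.ActF.act.k Fi23.relsG) v = 1
  refine eq_one_of_fix_bases Fi23.ActF.act Fi23.ActF.valid Fi23.ActF.bases_ok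
    ⟨Fi23.card_le.1, Fi23.levels_eq.symm ▸ (le_of_eq Fi23.card_eq)⟩ Fi23.rho_injective fun c hc => ?_
  have hc9 : (c : ℕ) < 9 := by
    rw [bases_eq] at hc
    exact (show ∀ x ∈ basePts, x < 9 by decide) _ hc
  rw [← hperm]
  have h2 := hfix c hc9
  rw [intertwine hall hphi hv] at h2
  have h3 : phi (ev Fi23.ActF.valid.perm v c : Fin _) = phi c := congrArg Fin.val h2
  rcases (phiTest_spec (hphi _ (Nat.zero_le _) (ev Fi23.ActF.valid.perm v c).2)).2.2.1 with h4 | h4
  · exact Fin.ext (phi_base_nodup _ (List.mem_range.2 h4) _ (List.mem_range.2 hc9) h3)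
  · exact absurd (List.mem_map.2 (⟨(c : ℕ), List.mem_range.2 hc9, h3.symm⟩ :
      ∃ a, a ∈ List.range 9 ∧ phi a = phi (ev Fi23.ActF.valid.perm v c : Fin _))) h4

/-- A word without the second letter fixing the images of the nine points is a power of the first letter. -/
theorem half_fix {w : List ℕ} (hw : ∀ x ∈ w, x ∈ embH)
    (hfix : ∀ c : Fin Fi23.ActF.act.n, (c : ℕ) < 9 → ev (sig hall) w (phiP hphi c) = phiP hphi c) :
    ev (sig hall) w = 1 ∨ ev (sig hall) w = sig hall 0 := by
  obtain ⟨v, hv, e⟩ := shift_word (ev_wordL hall).symm w hw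
  have h1 := half_word hall hphi hv fun c hc => e ▸ hfix c hc
  have h5 : QuotientGroup.mk' (zGroup hall) (ev (liftH hall) v) = 1 := by
    have h := congrArg (presHom (sat_mod hall)) h1
    rw [map_one, map_ev, ev_congr (g' := fun x => QuotientGroup.mk' (zGroup hall) (liftH hall x))
      fun x _ => presHom_gen _ x] at h
    rw [map_ev]
    exact h
  rw [QuotientGroup.mk'_apply, QuotientGroup.eq_one_iff] at h5
  obtain ⟨i, hi⟩ := h5
  have h6 : sig hall 0 ^ i = ev (sig hall) w := by
    rw [e, ← ev_liftH hall hv, ← hi]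
    rfl
  rcases Int.even_or_odd i with ⟨j, rfl⟩ | ⟨j, rfl⟩
  · left
    rw [← h6, ← two_mul, zpow_mul, zpow_two, sig_sq, one_zpow]
  · right
    rw [← h6, zpow_add, zpow_mul, zpow_two, sig_sq, one_zpow, one_mul, zpow_one]

end CfsgLib.Spor.Fi24
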