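/-
The second letter commutes with a conjugate of the third; the twelve permutations satisfy the relators.
-/
import Cfsg.Agent.Lib.Spor.Fi24Pres.Half
import Cfsg.Agent.Lib.Spor.Fi24Pres.KWords
import Cfsg.Agent.Lib.Spor.Fi24Pres.Rels

namespace CfsgLib.Spor.Fi24

open CfsgLib.Spor.TC

set_option maxRecDepth 100000

/-- The word that should be trivial for a pair. -/
def pairWord (e : ℕ × ℕ × List ℕ) : List ℕ := e.2.2.reverse ++ (wordT ++ ([e.1, e.2.1] ++ wordT))

/-- The test of a pair at ten points. -/
noncomputable def pairTest (e : ℕ × ℕ × List ℕ) : Bool :=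
  Nat.beq (walk (pairWord e) 1) 1 &&
    allFromS (fun c => strict (phi c) fun q => Nat.beq (walk (pairWord e) q) q) 0 9

theorem kWord0_test : pairTest (3, 4, kWord0) = true := by decide +kernel
theorem kWord1_test : pairTest (4, 5, kWord1) = true := by decide +kernel
theorem kWord2_test : pairTest (5, 6, kWord2) = true := by decide +kernel
theorem kWord3_test : pairTest (6, 7, kWord3) = true := by decide +kernel
theorem kWord4_test : pairTest (7, 8, kWord4) = true := by decide +kernel
theorem kWord5_test : pairTest (8, 9, kWord5) = true := by decide +kernel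
theorem kWord6_test : pairTest (5, 10, kWord6) = true := by decide +kernel
theorem kWord7_test : pairTest (10, 11, kWord7) = true := by decide +kernel

theorem kWords_ok : ∀ e ∈ kWords, pairTest e = true := by
  simp only [kWords, List.forall_mem_cons, List.not_mem_nil, false_implies, implies_true, and_true,
    kWord0_test, kWord1_test, kWord2_test, kWord3_test, kWord4_test, kWord5_test, kWord6_test, kWord7_test]

theorem zero_moves : T 0 1 ≠ 1 := by decide +kernel

variable (hall : RangeTest pointTest 0 nPts) (hphi : RangeTest phiTest 0 31671)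
include hall hphi

omit hphi in
theorem sig_inv (x : ℕ) : (sig hall x)⁻¹ = sig hall x := inv_eq_of_mul_eq_one_right (sig_sq hall x)

/-- A word without the second letter is trivial when it fixes the nine images and the second point. -/
theorem half_eq_one {w : List ℕ} (hw : ∀ x ∈ w, x ∈ embH) (h1 : walk w 1 = 1)
    (hfix : allFromS (fun c => strict (phi c) fun q => Nat.beq (walk w q) q) 0 9 = true) :
    ev (sig hall) w = 1 := by
  have hlt : ∀ x ∈ w, x < 12 := fun x hx => embH_lt x (hw x hx)
  rw [allFromS_eq] at hfix
  have hpts : ∀ c : Fin Fi23.ActF.act.n, (c : ℕ) < 9 → ev (sig hall) w (phiP hphi c) = phiP hphi c := by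
    intro c hc
    refine Fin.ext ?_
    have h2 := allFrom_spec hfix c (Nat.zero_le _) (by omega)
    rw [strict_eq, Nat.beq_eq] at h2
    rw [ev_val hall hlt]
    exact h2
  rcases half_fix hall hphi hw hpts with h | h
  · exact h
  · exfalso
    have e := ev_val hall hlt (⟨1, by decide⟩ : Fin nPts)
    rw [h, sig_val hall (by decide)] at e
    exact zero_moves (e.trans h1)

omit hphi in
theorem ev_mul_reverse : ∀ w : List ℕ, ev (sig hall) w * ev (sig hall) w.reverse = 1 := by
  intro w
  induction w with
  | nil => simp [ev]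
  | cons a w ih =>
    rw [List.reverse_cons, ev_cons, ev_append, mul_assoc, ← mul_assoc (ev (sig hall) w), ih, one_mul]
    simp [ev, sig_sq]

omit hphi in
theorem wordT_sq : ev (sig hall) wordT * ev (sig hall) wordT = 1 := by
  have := ev_mul_reverse hall wordT
  rwa [show wordT.reverse = wordT by decide +kernel] at this

theorem commute_one_T : Commute (sig hall 1) (ev (sig hall) wordT) := by
  have hT : ∀ x ∈ wordT, x < 12 := by decide +kernel
  have hTH : ∀ x ∈ wordT, x ∈ embH := by decide +kernel
  let U : Set (Equiv.Perm (Fin nPts)) := (fun e : ℕ × ℕ => sig hall e.1 * sig hall e.2) '' {e | e ∈ pairList}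
  refine (descent U (ev (sig hall) wordT * sig hall 1) (sig hall 1 * ev (sig hall) wordT) (fun p => ?_) ?_).symm
  · rcases (pointTest_spec (spec hall p)).2.2.2.2.2.2.2 with ⟨e, he, hlt⟩ | h
    · refine Or.inl ⟨_, ⟨e, he, rfl⟩, ?_⟩
      obtain ⟨h1, h2⟩ := (show ∀ e ∈ pairList, e.1 < 12 ∧ e.2 < 12 by decide) e he
      rw [Equiv.Perm.mul_apply, sig_val hall h1, sig_val hall h2]
      exact hlt
    · refine Or.inr (Fin.ext ?_)
      rw [Equiv.Perm.mul_apply, Equiv.Perm.mul_apply, ev_val hall hT, sig_val hall (by decide),
        sig_val hall (by decide), ev_val hall hT]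
      exact h
  · rintro _ ⟨⟨x, y⟩, he, rfl⟩
    obtain ⟨v, hv⟩ : ∃ v, (x, y, v) ∈ kWords := by
      have h : (x, y) ∈ kWords.map fun e => (e.1, e.2.1) :=
        (show ∀ e ∈ pairList, e ∈ kWords.map fun e => (e.1, e.2.1) by decide +kernel) _ he
      obtain ⟨⟨x', y', v⟩, hv, h⟩ := List.mem_map.1 h
      cases h
      exact ⟨v, hv⟩
    obtain ⟨hK, hxy⟩ := (show ∀ e ∈ kWords, (∀ z ∈ e.2.2, z ∈ embH ∧ commB 1 z = true) ∧
      (e.1 ∈ embH ∧ e.2.1 ∈ embH ∧ commB 1 e.1 = true ∧ commB 1 e.2.1 = true) by decide +kernel) _ hv
    obtain ⟨hx, hy, cx, cy⟩ := hxy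
    have htest := kWords_ok _ hv
    simp only [pairTest, Bool.and_eq_true, Nat.beq_eq] at htest
    have hone := half_eq_one hall hphi (w := pairWord (x, y, v)) (fun z hz => by
      simp only [pairWord, List.mem_append, List.mem_reverse, List.mem_cons, List.not_mem_nil, or_false] at hz
      rcases hz with h | h | (rfl | rfl) | h
      · exact (hK z h).1
      · exact hTH z h
      · exact hx
      · exact hy
      · exact hTH z h) htest.1 htest.2
    have hrev : ev (sig hall) v.reverse = (ev (sig hall) v)⁻¹ :=
      eq_inv_of_mul_eq_one_right (ev_mul_reverse hall v)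
    rw [pairWord, ev_append, ev_append, ev_append, hrev, inv_mul_eq_one] at hone
    have hu : ev (sig hall) [x, y] = sig hall x * sig hall y := by simp [ev]
    have hTT := wordT_sq hall
    have ck : Commute (sig hall 1) (ev (sig hall) v) := commute_ev hall fun z hz => commute_of hall (hK z hz).2
    have ckxy : Commute (sig hall 1) (sig hall x * sig hall y) :=
      (commute_of hall cx).mul_right (commute_of hall cy)
    rw [hu] at hone
    have hw : ev (sig hall) wordT * (sig hall x * sig hall y) = ev (sig hall) v * ev (sig hall) wordT := by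
      rw [hone, mul_assoc, mul_assoc, hTT, mul_one]
    refine ⟨ev (sig hall) v, ?_, ?_⟩
    · show ev (sig hall) wordT * sig hall 1 * (sig hall x * sig hall y) = _
      rw [mul_assoc, ckxy.eq, ← mul_assoc, hw, mul_assoc]
    · show sig hall 1 * ev (sig hall) wordT * (sig hall x * sig hall y) = _
      rw [mul_assoc, hw, ← mul_assoc, ck.eq, mul_assoc]

theorem sat_relsX : Sat 12 relsX (sig hall) := by
  refine ⟨sig_sq hall, fun x hx => sig_out hall hx, fun r hr => ?_⟩
  rcases (show ∀ r ∈ relsX, pairOK r = true ∨ r = ([0] ++ wordL.reverse, 1) ∨ r = ([1] ++ wordT ++ [1] ++ wordT, 1) by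
    decide +kernel) r hr with h | rfl | rfl
  · exact rel_pair hall h
  · rw [pow_one, ev_append, show ev (sig hall) [0] = sig hall 0 by simp [ev], ← ev_wordL hall]
    exact ev_mul_reverse hall wordL
  · rw [pow_one, ev_append, ev_append, ev_append, show ev (sig hall) [1] = sig hall 1 by simp [ev],
      (commute_one_T hall hphi).eq, mul_assoc (ev (sig hall) wordT), sig_sq, mul_one, wordT_sq]

end CfsgLib.Spor.Fi24
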