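/-
The orbits of the eight letters on cosets: representatives and data.
-/
import Cfsg.Agent.Lib.Spor.Fi24Pres.Loops.Part0
import Cfsg.Agent.Lib.Spor.Fi24Pres.Loops.Part1
import Cfsg.Agent.Lib.Spor.Fi24Pres.Loops.Part2
import Cfsg.Agent.Lib.Spor.Fi24Pres.Loops.Part3
import Cfsg.Agent.Lib.Spor.Fi24Pres.Loops.Part4
import Cfsg.Agent.Lib.Spor.Fi24Pres.Loops.Part5
import Cfsg.Agent.Lib.Spor.Fi24Pres.Loops.Part6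
import Cfsg.Agent.Lib.Spor.Fi24Pres.Loops.Part7
import Cfsg.Agent.Lib.Spor.Fi24Pres.Loops.Part8
import Cfsg.Agent.Lib.Spor.Fi24Pres.Roots.Checks

namespace CfsgLib.Spor.Fi24

open CfsgLib.Spor.TC

set_option maxRecDepth 100000

/-- What is known of one orbit: its least point, its size, a word for it, words fixing it, levels and letters of the
fixing subgroup. -/
structure OrbData where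
  root : ℕ
  size : ℕ
  word : List ℕ
  stab : List (List ℕ)
  levels : List Level
  closed : List ℕ

noncomputable def orb0 : OrbData :=
  ⟨0, 1, [], [[0], [1], [2], [3], [4], [5], [6], [7]], Roots.top, [0, 1, 2, 3, 4, 5, 6, 7, 43, 44, 45, 46, 47, 48, 49, 50, 51, 52, 53, 54, 55, 56, 57, 58, 59, 60, 61]⟩

noncomputable def orb1 : OrbData :=
  ⟨1, 1, [1], [[0], [1], [2], [3], [4], [5], [6], [7]], Roots.top, [0, 1, 2, 3, 4, 5, 6, 7, 43, 44, 45, 46, 47, 48, 49, 50, 51, 52, 53, 54, 55, 56, 57, 58, 59, 60, 61]⟩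

noncomputable def orb2 : OrbData :=
  ⟨2, 1, [0, 1], [[0], [1], [2], [3], [4], [5], [6], [7]], Roots.top, [0, 1, 2, 3, 4, 5, 6, 7, 43, 44, 45, 46, 47, 48, 49, 50, 51, 52, 53, 54, 55, 56, 57, 58, 59, 60, 61]⟩

noncomputable def orb3 : OrbData :=
  ⟨3, 1, [2, 1], [[0], [1], [2], [3], [4], [5], [6], [7]], Roots.top, [0, 1, 2, 3, 4, 5, 6, 7, 43, 44, 45, 46, 47, 48, 49, 50, 51, 52, 53, 54, 55, 56, 57, 58, 59, 60, 61]⟩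

noncomputable def orb4 : OrbData :=
  ⟨4, 1, [2, 0, 1], [[0], [1], [2], [3], [4], [5], [6], [7]], Roots.top, [0, 1, 2, 3, 4, 5, 6, 7, 43, 44, 45, 46, 47, 48, 49, 50, 51, 52, 53, 54, 55, 56, 57, 58, 59, 60, 61]⟩

noncomputable def orb5 : OrbData :=
  ⟨5, 960, [3, 2, 1], [[2], [5], [6], [7], [0, 1, 2, 3, 6, 1, 2, 0, 1, 4, 3, 2, 6, 1, 7, 6, 0, 1, 0, 2, 1, 6, 7, 3, 2, 1, 0, 4, 3, 2, 1, 6, 7, 1, 0, 2, 1, 6, 3, 2, 1, 0]], Roots.s0, [2, 5, 6, 7, 8, 62, 63, 64, 65, 66, 67, 68, 69, 70, 71, 72, 73]⟩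

noncomputable def orb6 : OrbData :=
  ⟨965, 1, [1, 2, 0, 1], [[0], [1], [2], [3], [4], [5], [6], [7]], Roots.top, [0, 1, 2, 3, 4, 5, 6, 7, 43, 44, 45, 46, 47, 48, 49, 50, 51, 52, 53, 54, 55, 56, 57, 58, 59, 60, 61]⟩

noncomputable def orb7 : OrbData :=
  ⟨966, 960, [3, 2, 0, 1], [[2], [5], [6], [7], [0, 1, 2, 3, 6, 1, 2, 0, 1, 4, 3, 2, 6, 1, 7, 6, 0, 1, 0, 2, 1, 6, 7, 3, 2, 1, 0, 4, 3, 2, 1, 6, 7, 1, 0, 2, 1, 6, 3, 2, 1, 0]], Roots.s0, [2, 5, 6, 7, 8, 62, 63, 64, 65, 66, 67, 68, 69, 70, 71, 72, 73]⟩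

noncomputable def orb8 : OrbData :=
  ⟨1926, 960, [3, 1, 2, 0, 1], [[2], [5], [6], [7], [0, 1, 2, 3, 6, 1, 2, 0, 1, 4, 3, 2, 6, 1, 7, 6, 0, 1, 0, 2, 1, 6, 7, 3, 2, 1, 0, 4, 3, 2, 1, 6, 7, 1, 0, 2, 1, 6, 3, 2, 1, 0]], Roots.s0, [2, 5, 6, 7, 8, 62, 63, 64, 65, 66, 67, 68, 69, 70, 71, 72, 73]⟩

noncomputable def orb9 : OrbData :=
  ⟨2886, 960, [2, 3, 1, 2, 0, 1], [[2], [5], [6], [7], [0, 1, 2, 3, 6, 1, 2, 0, 1, 4, 3, 2, 6, 1, 7, 6, 1, 0, 1, 2, 1, 6, 7, 3, 2, 1, 0, 4, 3, 2, 1, 6, 7, 1, 0, 2, 1, 6, 3, 2, 1, 0]], Roots.s1, [2, 5, 6, 7, 9, 74, 75, 76, 77, 78, 79, 80, 81, 82, 83, 84, 85]⟩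

noncomputable def orb10 : OrbData :=
  ⟨3846, 120, [3, 4, 2, 3, 1, 2, 0, 1], [[0], [2], [3], [4], [5], [6], [7], [1, 2, 0, 1, 6, 1, 0, 2, 1]], Roots.s2, [0, 2, 3, 4, 5, 6, 7, 10, 86, 87, 88, 89, 90, 91, 92, 93, 94, 95, 96]⟩

noncomputable def orb11 : OrbData :=
  ⟨3966, 3150, [3, 4, 5, 10, 6, 5, 4, 3, 2, 1], [[5], [3, 2, 1, 6, 0, 1, 2, 3, 4, 3, 2, 1, 0, 6, 1, 2, 3], [3, 2, 1, 6, 0, 1, 2, 3, 7, 6, 1, 0, 2, 1, 6, 7], [3, 2, 1, 4, 3, 2, 5, 4, 3, 7, 6, 0, 1, 2, 3, 0, 1, 6, 1, 2, 7, 0, 1, 0, 4, 3, 2, 1, 6, 1, 0, 5, 4, 3, 2, 1, 0, 6, 7, 3, 4, 5, 2, 3, 4, 1, 2, 3]], Roots.s3, [5, 11, 12, 13, 14, 97, 98, 99, 100, 101, 102, 103, 104, 105]⟩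

noncomputable def orb12 : OrbData :=
  ⟨7116, 3150, [3, 4, 5, 10, 6, 5, 4, 3, 2, 0, 1], [[5], [3, 2, 1, 6, 0, 1, 2, 3, 4, 3, 2, 1, 0, 6, 1, 2, 3], [3, 2, 1, 6, 0, 1, 2, 3, 7, 6, 1, 0, 2, 1, 6, 7], [3, 2, 1, 4, 3, 2, 5, 4, 3, 7, 6, 0, 1, 2, 3, 0, 1, 6, 1, 2, 7, 0, 1, 0, 4, 3, 2, 1, 6, 1, 0, 5, 4, 3, 2, 1, 0, 6, 7, 3, 4, 5, 2, 3, 4, 1, 2, 3]], Roots.s3, [5, 11, 12, 13, 14, 97, 98, 99, 100, 101, 102, 103, 104, 105]⟩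

noncomputable def orb13 : OrbData :=
  ⟨10266, 3150, [3, 4, 5, 10, 6, 5, 4, 3, 1, 2, 0, 1], [[5], [3, 2, 1, 6, 0, 1, 2, 3, 4, 3, 2, 1, 0, 6, 1, 2, 3], [3, 2, 1, 6, 0, 1, 2, 3, 7, 6, 1, 0, 2, 1, 6, 7], [3, 2, 1, 4, 3, 2, 5, 4, 3, 7, 6, 0, 1, 2, 3, 0, 1, 6, 1, 2, 7, 0, 1, 0, 4, 3, 2, 1, 6, 1, 0, 5, 4, 3, 2, 1, 0, 6, 7, 3, 4, 5, 2, 3, 4, 1, 2, 3]], Roots.s3, [5, 11, 12, 13, 14, 97, 98, 99, 100, 101, 102, 103, 104, 105]⟩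

noncomputable def orb14 : OrbData :=
  ⟨13416, 22400, [3, 4, 5, 10, 11, 6, 5, 10, 7, 6, 5, 4, 3, 2, 1], [[1, 2, 3, 6, 1, 2, 7, 6, 1, 0, 1, 6, 7, 2, 1, 6, 3, 2, 1], [1, 2, 0, 1, 3, 2, 6, 7, 1, 0, 6, 1], [1, 2, 3, 4, 3, 2, 1, 5, 4, 6, 1, 2, 3, 4, 7, 6, 1, 2, 3, 0, 1, 0, 6, 7, 2, 1, 0, 6, 2, 3, 4, 5, 1, 2, 3, 4]], Roots.s4, [15, 16, 17, 18, 19, 106, 107, 108, 109, 110, 111, 112, 113, 114, 115, 116]⟩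

noncomputable def orb15 : OrbData :=
  ⟨35816, 22400, [3, 4, 5, 10, 11, 6, 5, 10, 7, 6, 5, 4, 3, 2, 0, 1], [[1, 2, 3, 6, 1, 2, 7, 6, 1, 0, 1, 6, 7, 2, 1, 6, 3, 2, 1], [1, 2, 0, 1, 3, 2, 6, 7, 1, 0, 6, 1], [1, 2, 3, 4, 3, 2, 1, 5, 4, 6, 1, 2, 3, 4, 7, 6, 1, 2, 3, 0, 1, 0, 6, 7, 2, 1, 0, 6, 2, 3, 4, 5, 1, 2, 3, 4]], Roots.s4, [15, 16, 17, 18, 19, 106, 107, 108, 109, 110, 111, 112, 113, 114, 115, 116]⟩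

noncomputable def orb16 : OrbData :=
  ⟨58216, 22400, [2, 3, 4, 5, 10, 11, 6, 5, 10, 7, 6, 5, 4, 3, 2, 1], [[1, 2, 3, 6, 1, 2, 7, 6, 1, 0, 1, 6, 7, 2, 1, 6, 3, 2, 1], [1, 2, 0, 1, 3, 2, 6, 7, 1, 0, 6, 1], [1, 2, 3, 4, 3, 2, 1, 5, 4, 6, 1, 2, 3, 4, 7, 6, 1, 2, 3, 0, 1, 0, 6, 7, 2, 1, 0, 6, 2, 3, 4, 5, 1, 2, 3, 4]], Roots.s4, [15, 16, 17, 18, 19, 106, 107, 108, 109, 110, 111, 112, 113, 114, 115, 116]⟩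

noncomputable def orb17 : OrbData :=
  ⟨80616, 22400, [3, 4, 5, 10, 11, 6, 5, 10, 7, 6, 5, 4, 3, 1, 2, 0, 1], [[1, 2, 3, 6, 1, 2, 7, 6, 1, 0, 1, 6, 7, 2, 1, 6, 3, 2, 1], [1, 2, 0, 1, 3, 2, 6, 7, 1, 0, 6, 1], [1, 2, 3, 4, 3, 2, 1, 5, 4, 6, 1, 2, 3, 4, 7, 6, 1, 2, 3, 0, 1, 0, 6, 7, 2, 1, 0, 6, 2, 3, 4, 5, 1, 2, 3, 4]], Roots.s4, [15, 16, 17, 18, 19, 106, 107, 108, 109, 110, 111, 112, 113, 114, 115, 116]⟩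

noncomputable def orb18 : OrbData :=
  ⟨103016, 22400, [2, 3, 4, 5, 10, 11, 6, 5, 10, 7, 6, 5, 4, 3, 2, 0, 1], [[1, 2, 3, 6, 1, 2, 7, 6, 1, 0, 1, 6, 7, 2, 1, 6, 3, 2, 1], [1, 2, 0, 1, 3, 2, 6, 7, 1, 0, 6, 1], [1, 2, 3, 4, 3, 2, 1, 5, 4, 6, 1, 2, 3, 4, 7, 6, 1, 2, 3, 0, 1, 0, 6, 7, 2, 1, 0, 6, 2, 3, 4, 5, 1, 2, 3, 4]], Roots.s4, [15, 16, 17, 18, 19, 106, 107, 108, 109, 110, 111, 112, 113, 114, 115, 116]⟩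

noncomputable def orb19 : OrbData :=
  ⟨125416, 22400, [1, 2, 3, 4, 5, 10, 11, 6, 5, 10, 7, 6, 5, 4, 3, 2, 1], [[1, 2, 3, 6, 1, 2, 7, 6, 1, 0, 1, 6, 7, 2, 1, 6, 3, 2, 1], [1, 2, 0, 1, 3, 2, 6, 7, 1, 0, 6, 1], [1, 2, 3, 4, 3, 2, 1, 5, 4, 3, 2, 6, 1, 2, 3, 4, 7, 6, 1, 2, 3, 0, 1, 6, 7, 2, 1, 0, 6, 3, 4, 5, 1, 2, 3, 4]], Roots.s5, [20, 21, 22, 23, 24, 117, 118, 119, 120, 121, 122, 123, 124, 125, 126, 127]⟩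

noncomputable def orb20 : OrbData :=
  ⟨147816, 151200, [3, 4, 5, 6, 2, 3, 4, 5, 10, 11, 7, 5, 6, 4, 5, 10, 8, 7, 6, 5, 4, 3, 2, 1], [[4], [1, 2, 7, 0, 1, 3, 2, 4, 3, 6, 7, 6, 1, 0, 2, 1, 6, 7, 3, 4, 2, 3], [1, 2, 7, 0, 1, 3, 2, 1, 4, 3, 2, 0, 1, 3, 2, 4, 3, 6, 7, 6, 1, 0, 2, 1, 6, 1, 0, 7, 2, 1], [3, 4, 6, 1, 7, 6, 1, 2, 3, 0, 1, 2, 3, 0, 1, 7, 6, 1, 2, 3, 4, 0, 5, 0, 4, 3, 2, 1, 6, 7, 1, 0, 3, 2, 1, 0, 3, 2, 1, 6, 7, 1, 6, 4, 3]], Roots.s6, [4, 25, 26, 27, 28, 29, 128, 129, 130, 131, 132, 133]⟩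

noncomputable def orb21 : OrbData :=
  ⟨299016, 1920, [3, 4, 5, 10, 11, 6, 5, 10, 7, 8, 6, 7, 4, 5, 6, 3, 4, 5, 10, 11, 7, 5, 6, 3, 4, 5, 10, 9, 8, 7, 6, 5, 4, 3, 2, 1], [[0, 1, 7, 5, 1, 2, 3, 2], [3, 2, 4, 6, 7, 1, 0, 6]], Roots.s7, [30, 31, 32, 134, 135, 136, 137, 138, 139, 140]⟩

noncomputable def orb22 : OrbData :=
  ⟨300936, 1920, [3, 4, 5, 10, 11, 6, 5, 10, 7, 8, 6, 7, 4, 5, 6, 3, 4, 5, 10, 11, 7, 5, 6, 3, 4, 5, 10, 9, 8, 7, 6, 5, 4, 3, 2, 0, 1], [[0, 1, 7, 5, 1, 2, 3, 2], [3, 2, 4, 6, 7, 1, 0, 6]], Roots.s7, [30, 31, 32, 134, 135, 136, 137, 138, 139, 140]⟩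

noncomputable def orb23 : OrbData :=
  ⟨302856, 1920, [3, 4, 5, 10, 11, 6, 5, 10, 7, 8, 6, 7, 4, 5, 6, 3, 4, 5, 10, 11, 7, 5, 6, 3, 4, 5, 10, 9, 8, 7, 6, 5, 4, 3, 1, 2, 0, 1], [[1, 5, 2, 4], [3, 2, 4, 6, 7, 1, 0, 6]], Roots.s8, [33, 34, 35, 36, 141, 142, 143, 144, 145, 146, 147, 148, 149, 150]⟩

noncomputable def orb24 : OrbData :=
  ⟨304776, 1920, [2, 3, 4, 5, 10, 11, 6, 5, 10, 7, 8, 6, 7, 4, 5, 6, 3, 4, 5, 10, 11, 7, 5, 6, 3, 4, 5, 10, 9, 8, 7, 6, 5, 4, 3, 1, 2, 0, 1], [[1, 5, 2, 4], [3, 2, 4, 6, 7, 1, 0, 6]], Roots.s8, [33, 34, 35, 36, 141, 142, 143, 144, 145, 146, 147, 148, 149, 150]⟩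

noncomputable def orb25 : OrbData :=
  ⟨306696, 240, [3, 4, 5, 6, 2, 3, 4, 5, 10, 11, 7, 6, 5, 10, 6, 7, 8, 5, 6, 7, 4, 5, 6, 3, 4, 5, 10, 11, 7, 5, 6, 1, 2, 3, 4, 5, 10, 9, 8, 7, 6, 5, 4, 3, 2, 1], [[1, 3, 5, 0, 4, 0, 6, 5], [1, 4, 5, 3, 0, 5], [1, 3, 5, 7, 2, 0, 6, 5]], Roots.s9, [37, 38, 39, 40, 41, 42, 151, 152, 153, 154, 155, 156, 157]⟩

/-- All orbits. -/
noncomputable def orbs : List OrbData := [orb0, orb1, orb2, orb3, orb4, orb5, orb6, orb7, orb8, orb9, orb10, orb11, orb12, orb13, orb14, orb15, orb16, orb17, orb18, orb19, orb20, orb21, orb22, orb23, orb24, orb25]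

/-- For a representative and a letter among the first three: the target representative and a word. -/
def xMoves : List (ℕ × ℕ × List ℕ × ℕ) := [
  (0, 0, [], 0),
  (0, 1, [], 1),
  (0, 2, [], 0),
  (1, 0, [], 2),
  (1, 1, [], 0),
  (1, 2, [], 3),
  (2, 0, [], 1),
  (2, 1, [], 2),
  (2, 2, [], 4),
  (3, 0, [], 4),
  (3, 1, [], 3),
  (3, 2, [], 1),
  (4, 0, [], 3),
  (4, 1, [], 6),
  (4, 2, [], 2),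
  (5, 0, [], 7),
  (5, 1, [], 5),
  (5, 2, [], 5),
  (6, 0, [], 6),
  (6, 1, [], 4),
  (6, 2, [], 6),
  (7, 0, [], 5),
  (7, 1, [], 8),
  (7, 2, [], 7),
  (8, 0, [], 8),
  (8, 1, [], 7),
  (8, 2, [], 9),
  (9, 0, [], 9),
  (9, 1, [], 9),
  (9, 2, [], 8),
  (10, 0, [], 10),
  (10, 1, [], 10),
  (10, 2, [], 10),
  (11, 0, [], 12),
  (11, 1, [], 11),
  (11, 2, [7, 6, 5, 4, 10, 5, 6, 7], 12),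
  (12, 0, [], 11),
  (12, 1, [], 13),
  (12, 2, [7, 6, 5, 4, 10, 5, 6, 7], 11),
  (13, 0, [], 13),
  (13, 1, [], 12),
  (13, 2, [], 13),
  (14, 0, [], 15),
  (14, 1, [], 14),
  (14, 2, [], 16),
  (15, 0, [], 14),
  (15, 1, [], 17),
  (15, 2, [], 18),
  (16, 0, [], 18),
  (16, 1, [], 19),
  (16, 2, [], 14),
  (17, 0, [], 17),
  (17, 1, [], 15),
  (17, 2, [5, 10, 11, 6, 5, 10, 7, 6, 5], 17),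
  (18, 0, [], 16),
  (18, 1, [5, 10, 11, 6, 5, 10, 7, 6, 5], 18),
  (18, 2, [], 15),
  (19, 0, [5, 10, 11, 6, 5, 10, 7, 6, 5], 19),
  (19, 1, [], 16),
  (19, 2, [], 19),
  (20, 0, [5, 4, 11, 6, 5], 20),
  (20, 1, [5, 4, 6, 7, 8, 5, 6, 7, 5, 4, 11, 6, 5], 20),
  (20, 2, [10, 11, 10, 7, 8, 6, 7], 20),
  (21, 0, [], 22),
  (21, 1, [], 21),
  (21, 2, [], 21),
  (22, 0, [], 21),
  (22, 1, [], 23),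
  (22, 2, [], 22),
  (23, 0, [], 23),
  (23, 1, [], 22),
  (23, 2, [], 24),
  (24, 0, [], 24),
  (24, 1, [], 24),
  (24, 2, [], 23),
  (25, 0, [], 25),
  (25, 1, [], 25),
  (25, 2, [], 25)]

/-- For a point that the seven letters do not move down: words before and after the fourth letter. -/
def bMoves : List (ℕ × ℕ × List ℕ × List ℕ × ℕ) := [
  (0, 0, [], [], 0),
  (1, 1, [], [], 1),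
  (2, 2, [], [], 2),
  (3, 3, [], [], 5),
  (4, 4, [], [], 7),
  (5, 5, [], [], 3),
  (6, 5, [4], [4], 5),
  (62, 5, [4, 5, 10, 6, 5, 4], [], 11),
  (342, 5, [4, 5, 10, 11, 6, 5, 10, 7, 6, 5, 4], [], 14),
  (902, 5, [4, 5, 10, 6, 7, 8, 5, 4, 6, 5, 10, 7, 6, 5, 4], [4, 5, 10, 6, 7, 8, 5, 4, 6, 5, 10, 7, 6, 5, 4], 5),
  (930, 5, [4, 5, 10, 6, 7, 8, 9, 5, 4, 6, 5, 10, 11, 7, 6, 5, 10, 8, 7, 6, 5, 4], [4, 11, 5, 10, 5, 4, 6, 5, 4, 10, 11, 7, 8, 9, 6, 7, 8, 5, 6, 7], 11),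
  (965, 6, [], [], 8),
  (966, 7, [], [], 4),
  (967, 7, [4], [4], 7),
  (1023, 7, [4, 5, 10, 6, 5, 4], [], 12),
  (1303, 7, [4, 5, 10, 11, 6, 5, 10, 7, 6, 5, 4], [], 15),
  (1863, 7, [4, 5, 10, 6, 7, 8, 5, 4, 6, 5, 10, 7, 6, 5, 4], [4, 5, 10, 6, 7, 8, 5, 4, 6, 5, 10, 7, 6, 5, 4], 7),
  (1891, 7, [4, 5, 10, 6, 7, 8, 9, 5, 4, 6, 5, 10, 11, 7, 6, 5, 10, 8, 7, 6, 5, 4], [4, 11, 5, 10, 5, 4, 6, 5, 4, 10, 11, 7, 8, 9, 6, 7, 8, 5, 6, 7], 12),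
  (1926, 8, [], [], 6),
  (1927, 8, [4], [4], 8),
  (1983, 8, [4, 5, 10, 6, 5, 4], [], 13),
  (2263, 8, [4, 5, 10, 11, 6, 5, 10, 7, 6, 5, 4], [], 17),
  (2823, 8, [4, 5, 10, 11, 6, 5, 4, 7, 6, 5, 10, 11, 5, 4, 6, 5, 10, 7, 6, 5, 4], [4, 5, 10, 11, 6, 5, 4, 7, 6, 5, 10, 11, 5, 4, 6, 5, 10, 7, 6, 5, 4], 8),
  (2851, 8, [4, 5, 10, 6, 7, 8, 9, 5, 4, 6, 5, 10, 11, 7, 6, 5, 10, 8, 7, 6, 5, 4], [4, 11, 5, 10, 5, 4, 6, 5, 4, 10, 11, 7, 8, 9, 6, 7, 8, 5, 6, 7], 13),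
  (2886, 9, [], [], 9),
  (2887, 9, [4], [], 10),
  (2943, 9, [4, 5, 10, 6, 5, 4], [4, 5, 10, 6, 5, 4], 9),
  (3223, 9, [4, 5, 10, 11, 6, 5, 10, 7, 6, 5, 4], [5, 10, 11, 6, 5, 4, 7, 6, 5, 10, 11, 5, 4, 6, 5, 10, 7, 6, 5, 4], 9),
  (3783, 9, [4, 5, 10, 11, 6, 5, 4, 7, 6, 5, 10, 11, 5, 4, 6, 5, 10, 7, 6, 5, 4], [4, 5, 10, 11, 6, 5, 10, 7, 6, 5], 10),
  (3811, 9, [4, 5, 10, 6, 7, 8, 9, 5, 4, 6, 5, 10, 11, 7, 6, 5, 10, 8, 7, 6, 5, 4], [4, 5, 10, 6, 7, 8, 9, 5, 4, 6, 5, 10, 11, 7, 6, 5, 10, 8, 7, 6, 5, 4], 9),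
  (3846, 10, [], [4], 9),
  (3902, 10, [4, 5], [4, 5], 10),
  (3930, 10, [4, 5, 10, 11, 6, 5, 10, 7, 6, 5], [4, 5, 10, 11, 6, 5, 4, 7, 6, 5, 10, 11, 5, 4, 6, 5, 10, 7, 6, 5, 4], 9),
  (3958, 10, [4, 11, 5, 10, 6, 7, 8, 9, 5, 4, 6, 5, 10, 11, 7, 6, 5, 10, 8, 7, 6, 5], [4, 11, 5, 10, 6, 7, 8, 9, 5, 4, 6, 5, 10, 11, 7, 6, 5, 10, 8, 7, 6, 5], 10),
  (3966, 11, [], [4, 5, 10, 6, 5, 4], 5),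
  (4246, 11, [4, 5, 6, 7], [4, 5, 6, 7], 11),
  (4526, 11, [4, 5, 10, 11, 6, 7], [4, 5], 14),
  (5366, 11, [4, 5, 10, 11, 6, 7, 8, 5, 6, 7], [4, 6, 5, 10, 11, 7, 6, 5, 10, 5, 6, 7, 8, 7, 6, 5], 14),
  (7046, 11, [4, 5, 10, 11, 6, 7, 8, 9, 5, 4, 6, 7, 8, 5, 6, 7], [6, 5, 4, 10, 11, 5, 10, 6, 7, 8, 9, 5, 4, 6, 5, 10, 11, 7, 6, 5, 10, 8, 7, 6, 5, 4], 5),
  (7081, 11, [4, 5, 10, 11, 6, 5, 10, 7, 8, 9, 6, 7, 8, 5, 6, 7], [4, 5, 10, 11, 6, 5, 10, 7, 8, 9, 6, 7, 8, 5, 6, 7], 11),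
  (7116, 12, [], [4, 5, 10, 6, 5, 4], 7),
  (7396, 12, [4, 10, 5, 6, 7], [4, 10, 5, 6, 7], 12),
  (7676, 12, [4, 5, 10, 11, 6, 7], [4, 5], 15),
  (8516, 12, [4, 5, 10, 11, 6, 7, 8, 5, 6, 7], [4, 6, 5, 10, 11, 7, 6, 5, 10, 5, 6, 7, 8, 7, 6, 5], 15),
  (10196, 12, [4, 5, 10, 11, 6, 5, 4, 7, 8, 9, 6, 7, 8, 5, 6, 7], [6, 5, 4, 10, 11, 5, 10, 6, 7, 8, 9, 5, 4, 6, 5, 10, 11, 7, 6, 5, 10, 8, 7, 6, 5, 4], 7),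
  (10231, 12, [4, 5, 10, 11, 6, 5, 10, 7, 8, 9, 6, 7, 8, 5, 6, 7], [4, 5, 10, 11, 6, 5, 10, 7, 8, 9, 6, 7, 8, 5, 6, 7], 12),
  (10266, 13, [], [4, 5, 10, 6, 5, 4], 8),
  (10546, 13, [4, 10, 5, 6, 7], [4, 10, 5, 6, 7], 13),
  (10826, 13, [4, 5, 10, 11, 6, 7], [4, 5], 17),
  (11666, 13, [4, 5, 10, 11, 6, 7, 8, 5, 6, 7], [4, 6, 5, 10, 11, 7, 6, 5, 10, 5, 6, 7, 8, 7, 6, 5], 17),
  (13346, 13, [4, 5, 10, 11, 6, 5, 4, 7, 8, 9, 6, 7, 8, 5, 6, 7], [6, 5, 4, 10, 11, 5, 10, 6, 7, 8, 9, 5, 4, 6, 5, 10, 11, 7, 6, 5, 10, 8, 7, 6, 5, 4], 8),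
  (13381, 13, [4, 5, 10, 11, 6, 5, 10, 7, 8, 9, 6, 7, 8, 5, 6, 7], [4, 5, 10, 11, 6, 5, 10, 7, 8, 9, 6, 7, 8, 5, 6, 7], 13),
  (13416, 14, [], [4, 5, 10, 11, 6, 5, 10, 7, 6, 5, 4], 5),
  (13976, 14, [4, 5], [4, 5, 10, 11, 6, 7], 11),
  (14816, 14, [4, 5, 6, 7, 8], [4, 5, 6, 7, 8], 14),
  (16496, 14, [4, 5, 10, 6, 5], [4, 5, 10, 6, 5], 14),
  (17336, 14, [4, 6, 5, 10, 11, 7, 6, 5, 10, 5, 6, 7, 8, 7, 6, 5], [4, 5, 10, 11, 6, 7, 8, 5, 6, 7], 11),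
  (19016, 14, [4, 5, 10, 6, 7, 8, 5], [4, 10, 11, 7, 6, 5, 10, 5, 6, 7, 8, 7, 6, 5], 14),
  (29096, 14, [4, 5, 10, 6, 7, 8, 9, 5, 4, 6, 7, 8, 5], [4, 6, 5, 10, 11, 8, 7, 6, 5, 4, 11, 8, 7, 6, 5, 4, 10, 6, 7, 8, 9, 5, 6, 7, 8, 7, 6, 5], 14),
  (34136, 14, [4, 5, 10, 11, 6, 5, 4, 7, 6, 5, 10, 8, 9, 5, 4, 6, 7, 8, 6, 5], [], 21),
  (35816, 15, [], [4, 5, 10, 11, 6, 5, 10, 7, 6, 5, 4], 7),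
  (36376, 15, [4, 5], [4, 5, 10, 11, 6, 7], 12),
  (37216, 15, [4, 10, 11, 6, 5, 10, 7, 6, 5], [4, 10, 11, 6, 5, 10, 7, 6, 5], 15),
  (38056, 15, [4, 5, 6, 7, 8], [4, 5, 6, 7, 8], 15),
  (39736, 15, [4, 6, 5, 10, 11, 7, 6, 5, 10, 5, 6, 7, 8, 7, 6, 5], [4, 5, 10, 11, 6, 7, 8, 5, 6, 7], 12),
  (41416, 15, [4, 5, 10, 6, 7, 8, 5], [4, 10, 11, 7, 6, 5, 10, 5, 6, 7, 8, 7, 6, 5], 15),
  (51496, 15, [4, 5, 10, 6, 7, 8, 9, 5, 4, 6, 7, 8, 5], [4, 6, 5, 10, 11, 8, 7, 6, 5, 4, 11, 8, 7, 6, 5, 4, 10, 6, 7, 8, 9, 5, 6, 7, 8, 7, 6, 5], 15),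
  (56536, 15, [4, 5, 10, 11, 6, 5, 4, 7, 6, 5, 10, 8, 9, 5, 4, 6, 7, 8, 6, 5], [], 22),
  (58216, 16, [], [], 16),
  (58776, 16, [4, 5], [6, 7, 5, 4, 6, 5], 18),
  (59616, 16, [4, 10, 11, 6, 5, 10, 7, 6, 5], [6, 7, 5, 4, 10, 11, 5, 10, 7, 6, 5], 19),
  (60456, 16, [4, 5, 6, 7, 8], [10, 11, 5, 4, 10, 5, 6, 7, 8], 19),
  (62136, 16, [4, 6, 5, 10, 11, 7, 6, 5, 10, 5, 6, 7, 8, 7, 6, 5], [11, 5, 4, 6, 5, 10, 11, 7, 6, 5, 10, 5, 6, 7, 8, 7, 6, 5], 18),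
  (63816, 16, [4, 5, 10, 6, 7, 8, 5], [], 20),
  (73896, 16, [4, 5, 10, 6, 7, 8, 9, 5, 4, 6, 7, 8, 5], [5, 4, 5, 10, 11, 5, 10, 6, 7, 8, 9, 7, 8, 6, 7, 5, 4, 6, 7, 8, 5, 6, 7, 5, 4, 11, 6, 5], 20),
  (78936, 16, [4, 5, 10, 11, 6, 5, 4, 7, 6, 5, 10, 8, 9, 5, 4, 6, 7, 8, 6, 5], [4, 5, 10, 11, 6, 5, 4, 7, 6, 5, 10, 8, 9, 5, 4, 6, 7, 8, 6, 5], 16),
  (80616, 17, [], [4, 5, 10, 11, 6, 5, 10, 7, 6, 5, 4], 8),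
  (81176, 17, [4, 5], [4, 5, 10, 11, 6, 7], 13),
  (82016, 17, [4, 10, 11, 6, 5, 10, 7, 6, 5], [4, 10, 11, 6, 5, 10, 7, 6, 5], 17),
  (82856, 17, [4, 5, 6, 7, 8], [4, 5, 6, 7, 8], 17),
  (84536, 17, [4, 6, 5, 10, 11, 7, 6, 5, 10, 5, 6, 7, 8, 7, 6, 5], [4, 5, 10, 11, 6, 7, 8, 5, 6, 7], 13),
  (86216, 17, [4, 5, 10, 6, 7, 8, 5], [4, 10, 11, 7, 6, 5, 10, 5, 6, 7, 8, 7, 6, 5], 17),
  (96296, 17, [4, 5, 10, 6, 7, 8, 9, 5, 4, 6, 7, 8, 5], [4, 6, 5, 10, 11, 8, 7, 6, 5, 4, 11, 8, 7, 6, 5, 4, 10, 6, 7, 8, 9, 5, 6, 7, 8, 7, 6, 5], 17),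
  (101336, 17, [4, 5, 10, 11, 6, 5, 4, 7, 6, 5, 10, 8, 9, 5, 4, 6, 7, 8, 6, 5], [], 23),
  (103016, 18, [], [], 18),
  (103576, 18, [4, 5], [6, 7, 5, 4, 6, 5], 16),
  (104416, 18, [4, 10, 11, 6, 5, 10, 7, 6, 5], [6, 7, 5, 4, 6, 5], 19),
  (105256, 18, [4, 5, 6, 7, 8], [10, 5, 4, 6, 5, 10, 11, 7, 6, 5, 10, 5, 6, 7, 8, 7, 6, 5], 19),
  (106936, 18, [4, 6, 5, 10, 11, 7, 6, 5, 10, 5, 6, 7, 8, 7, 6, 5], [11, 5, 4, 6, 5, 10, 11, 7, 6, 5, 10, 5, 6, 7, 8, 7, 6, 5], 16),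
  (108616, 18, [4, 5, 10, 6, 7, 8, 5], [5, 4, 11, 6, 5], 20),
  (118696, 18, [4, 5, 10, 6, 7, 8, 9, 5, 4, 6, 7, 8, 5], [4, 8, 9, 7, 8, 5, 4, 5, 10, 11, 5, 10, 6, 7, 8, 9, 7, 8, 6, 7, 5, 4, 6, 7, 8, 5, 6, 7, 5, 4, 11, 6, 5], 20),
  (123736, 18, [4, 5, 10, 11, 6, 5, 4, 7, 6, 5, 10, 8, 9, 5, 4, 6, 7, 8, 6, 5], [4, 5, 10, 11, 6, 5, 4, 7, 6, 5, 10, 8, 9, 5, 4, 6, 7, 8, 6, 5], 18),
  (125416, 19, [], [], 19),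
  (125976, 19, [4, 5], [6, 7, 5, 4, 10, 11, 5, 10, 7, 6, 5], 18),
  (126816, 19, [4, 10, 11, 6, 5, 10, 7, 6, 5], [6, 7, 5, 4, 10, 11, 5, 10, 7, 6, 5], 16),
  (127656, 19, [4, 5, 6, 7, 8], [10, 11, 5, 4, 10, 5, 6, 7, 8], 16),
  (129336, 19, [4, 6, 5, 10, 11, 7, 6, 5, 10, 5, 6, 7, 8, 7, 6, 5], [5, 4, 10, 5, 6, 7, 8], 18),
  (131016, 19, [4, 5, 10, 6, 7, 8, 5], [5, 4, 6, 7, 8, 5, 6, 7, 5, 4, 11, 6, 5], 20),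
  (141096, 19, [4, 5, 10, 6, 7, 8, 9, 5, 4, 6, 7, 8, 5], [4, 5, 4, 10, 11, 5, 10, 6, 7, 8, 9, 7, 8, 6, 7], 20),
  (146136, 19, [4, 5, 10, 11, 6, 5, 4, 7, 6, 5, 10, 8, 9, 5, 4, 6, 7, 8, 6, 5], [4, 5, 10, 11, 6, 5, 4, 7, 6, 5, 10, 8, 9, 5, 4, 6, 7, 8, 6, 5], 19),
  (147816, 20, [], [4, 5, 10, 6, 7, 8, 5], 16),
  (157896, 20, [4, 11, 6, 5], [4, 5, 4, 10, 6, 7, 8, 5], 18),
  (167976, 20, [4, 6, 7, 8, 5, 6, 7, 5, 4, 11, 6, 5], [4, 5, 4, 10, 6, 7, 8, 5], 19),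
  (178056, 20, [4, 6, 5, 10, 11, 10, 5, 4, 11, 6, 5], [4, 6, 5, 10, 11, 10, 5, 4, 11, 6, 5], 20),
  (188136, 20, [4, 5, 6, 7, 8, 9], [4, 5, 6, 7, 8, 9], 20),
  (193176, 20, [4, 5, 10, 6, 7, 5], [4, 5, 10, 11, 8, 6, 7, 6, 5], 20),
  (213336, 20, [4, 5, 10, 11, 5, 10, 6, 7, 8, 9, 7, 8, 6, 7, 5, 4, 6, 7, 8, 5, 6, 7, 5, 4, 11, 6, 5], [4, 5, 4, 10, 6, 7, 8, 9, 5, 4, 6, 7, 8, 5], 16),
  (218376, 20, [4, 8, 9, 7, 8, 5, 4, 5, 10, 11, 5, 10, 6, 7, 8, 9, 7, 8, 6, 7, 5, 4, 6, 7, 8, 5, 6, 7, 5, 4, 11, 6, 5], [4, 5, 10, 6, 7, 8, 9, 5, 4, 6, 7, 8, 5], 18),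
  (223416, 20, [4, 5, 4, 10, 11, 5, 10, 6, 7, 8, 9, 7, 8, 6, 7], [4, 5, 10, 6, 7, 8, 9, 5, 4, 6, 7, 8, 5], 19),
  (228456, 20, [4, 5, 10, 6, 7, 8, 9, 5], [4, 5, 6, 5, 4, 5, 10, 11, 5, 10, 6, 7, 8, 9, 7, 8, 6, 7, 5, 4, 6, 7, 8, 5, 6, 7, 5, 4, 11, 6, 5], 20),
  (235176, 20, [4, 5, 4, 10, 11, 6, 7, 8, 9, 6, 5], [4, 5, 4, 8, 9, 6, 7, 8, 5, 4, 5, 10, 11, 5, 10, 6, 7, 8, 9, 7, 8, 6, 7, 5, 4, 6, 7, 8, 5, 6, 7, 5, 4, 11, 6, 5], 20),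
  (241896, 20, [4, 6, 5, 10, 11, 6, 5, 10, 7, 8, 9, 7, 8, 6, 7], [4, 5, 10, 11, 7, 6, 5, 10, 6, 7, 8, 9], 20),
  (248616, 20, [4, 5, 4, 10, 6, 7, 8, 9, 6, 7, 8, 5, 6, 7, 5, 4, 11, 6, 5], [4, 5, 4, 6, 5, 4, 10, 11, 5, 10, 6, 7, 8, 9, 7, 8, 6, 7], 20),
  (255336, 20, [4, 6, 5, 10, 11, 6, 5, 10, 7, 8, 9, 7, 8, 6, 7, 5, 4, 11, 6, 5], [4, 5, 10, 11, 7, 6, 5, 10, 6, 7, 8, 9, 5, 4, 11, 6, 5], 20),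
  (262056, 20, [4, 5, 4, 10, 6, 7, 8, 9, 6, 7, 8, 5, 6, 7], [4, 6, 5, 4, 6, 5, 10, 11, 5, 10, 6, 7, 8, 9, 7, 8, 6, 7, 5, 4, 11, 6, 5], 20),
  (268776, 20, [4, 6, 5, 10, 11, 6, 5, 4, 10, 11, 7, 5], [4, 7, 6, 5, 4, 8, 7, 6, 5, 10, 11, 7, 6, 5, 10, 6, 5], 20),
  (275496, 20, [4, 5, 10, 11, 6, 5, 10, 7, 6, 5], [4, 7, 6, 5, 10, 11, 8, 7, 6, 5, 10, 6, 7, 8, 5, 6, 7, 6, 5], 20),
  (282216, 20, [4, 5, 10, 11, 6, 5, 4, 5, 10, 11, 5, 10, 6, 7, 8, 9, 7, 8, 6, 7, 5, 4, 6, 7, 8, 5, 6, 7, 5, 4, 11, 6, 5], [4, 5, 10, 11, 7, 8, 9, 6, 7, 8, 5, 4, 5, 10, 11, 5, 10, 6, 7, 8, 9, 7, 8, 6, 7, 5, 4, 6, 7, 8, 5, 6, 7, 5, 4, 11, 6, 5], 20),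
  (283896, 20, [4, 5, 4, 10, 11, 8, 9, 6, 7, 8, 5, 4, 5, 10, 11, 5, 10, 6, 7, 8, 9, 7, 8, 6, 7, 5, 4, 6, 7, 8, 5, 6, 7, 5, 4, 11, 6, 5], [4, 5, 4, 10, 11, 7, 6, 5, 4, 5, 10, 11, 5, 10, 6, 7, 8, 9, 7, 8, 6, 7, 5, 4, 6, 7, 8, 5, 6, 7, 5, 4, 11, 6, 5], 20),
  (285576, 20, [4, 6, 5, 10, 11, 6, 5, 4, 10, 11, 7, 8, 9, 5], [4, 5, 10, 11, 8, 7, 6, 5, 10, 6, 7, 8, 9, 5, 6, 7, 8, 6, 7, 5, 4, 10, 11, 6, 5, 10, 6, 7, 8, 9, 5, 4, 6, 7, 8, 5, 6, 7, 5, 4, 11, 6, 5], 20),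
  (287256, 20, [4, 5, 10, 11, 6, 5, 10, 7, 8, 9, 6, 5], [4, 6, 5, 10, 11, 8, 7, 6, 5, 10, 6, 7, 8, 9, 5, 6, 7, 8, 6, 7, 5, 4, 6, 5, 10, 11, 5, 10, 6, 7, 8, 9, 7, 8, 6, 7, 5, 4, 6, 7, 8, 5, 6, 7, 5, 4, 11, 6, 5], 20),
  (288936, 20, [4, 5, 4, 6, 5, 4, 10, 11, 5, 4, 10, 5, 6, 7, 8, 9, 7, 8, 6, 7], [4, 5, 4, 7, 6, 5, 4, 10, 11, 5, 4, 10, 5, 6, 7, 8, 9], 20),
  (290616, 20, [4, 6, 5, 10, 11, 8, 7, 6, 5, 10, 6, 7, 8, 9, 5, 6, 7, 8, 7, 5, 4, 6, 5, 10, 11, 5, 10, 6, 7, 8, 9, 7, 8, 6, 7, 5, 4, 6, 7, 8, 5, 6, 7, 5, 4, 11, 6, 5], [4, 7, 6, 5, 10, 11, 7, 6, 5, 10, 7, 8, 9, 6, 5], 20),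
  (292296, 20, [4, 6, 5, 4, 10, 11, 6, 5, 4, 10, 5, 6, 7, 8, 9], [4, 7, 6, 5, 4, 10, 11, 6, 5, 4, 10, 5, 6, 7, 8, 9, 7, 8, 6, 7], 20),
  (293976, 20, [4, 6, 5, 10, 11, 8, 7, 6, 5, 10, 6, 7, 8, 9, 5, 6, 7, 8, 7, 5, 4, 10, 11, 6, 5, 10, 6, 7, 8, 9, 5, 4, 6, 7, 8, 5, 6, 7, 5, 4, 11, 6, 5], [4, 7, 6, 5, 10, 11, 7, 6, 5, 4, 10, 11, 7, 8, 9, 5], 20),
  (295656, 20, [4, 6, 5, 4, 10, 11, 6, 5, 4, 10, 11, 5, 6, 7, 8, 9, 7, 8, 6, 7, 5, 4, 11, 6, 5], [4, 7, 6, 5, 4, 10, 11, 6, 5, 4, 10, 11, 5, 6, 7, 8, 9, 5, 4, 11, 6, 5], 20),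
  (297336, 20, [4, 6, 5, 4, 6, 5, 10, 11, 5, 4, 10, 11, 5, 6, 7, 8, 9, 5, 4, 11, 6, 5], [4, 7, 6, 5, 4, 6, 5, 10, 11, 5, 4, 10, 11, 5, 6, 7, 8, 9, 7, 8, 6, 7, 5, 4, 11, 6, 5], 20),
  (299016, 21, [], [4, 5, 10, 11, 6, 5, 4, 7, 6, 5, 10, 8, 9, 5, 4, 6, 7, 8, 6, 5], 14),
  (300696, 21, [4, 5, 10, 11, 6, 7, 8], [4, 5, 10, 11, 6, 7, 8], 21),
  (300936, 22, [], [4, 5, 10, 11, 6, 5, 4, 7, 6, 5, 10, 8, 9, 5, 4, 6, 7, 8, 6, 5], 15),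
  (302616, 22, [4, 5, 10, 11, 9, 6, 7, 5], [4, 5, 10, 11, 9, 6, 7, 5], 22),
  (302856, 23, [], [4, 5, 10, 11, 6, 5, 4, 7, 6, 5, 10, 8, 9, 5, 4, 6, 7, 8, 6, 5], 17),
  (304536, 23, [4, 5, 10, 11, 9, 6, 7, 5], [4, 5, 10, 11, 9, 6, 7, 5], 23),
  (304776, 24, [], [4, 7, 6], 24),
  (306456, 24, [4, 5, 10, 11, 9, 6, 7, 5], [], 25),
  (306696, 25, [], [4, 5, 10, 11, 9, 6, 7, 5], 24)]

/-- The least points under the seven letters. -/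
def dRoots : List ℕ := [0, 1, 2, 3, 4, 5, 6, 62, 342, 902, 930, 965, 966, 967, 1023, 1303, 1863, 1891, 1926, 1927, 1983, 2263, 2823, 2851, 2886, 2887, 2943, 3223, 3783, 3811, 3846, 3902, 3930, 3958, 3966, 4246, 4526, 5366, 7046, 7081, 7116, 7396, 7676, 8516, 10196, 10231, 10266, 10546, 10826, 11666, 13346, 13381, 13416, 13976, 14816, 16496, 17336, 19016, 29096, 34136, 35816, 36376, 37216, 38056, 39736, 41416, 51496, 56536, 58216, 58776, 59616, 60456, 62136, 63816, 73896, 78936, 80616, 81176, 82016, 82856, 84536, 86216, 96296, 101336, 103016, 103576, 104416, 105256, 106936, 108616, 118696, 123736, 125416, 125976, 126816, 127656, 129336, 131016, 141096, 146136, 147816, 157896, 167976, 178056, 188136, 193176, 213336, 218376, 223416, 228456, 235176, 241896, 248616, 255336,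 262056, 268776, 275496, 282216, 283896, 285576, 287256, 288936, 290616, 292296, 293976, 295656, 297336, 299016, 300696, 300936, 302616, 302856, 304536, 304776, 306456, 306696]

/-- The closed paths. -/
def loopWords : List (List ℕ) := [loopWord0, loopWord1, loopWord2, loopWord3, loopWord4, loopWord5, loopWord6, loopWord7, loopWord8, loopWord9, loopWord10, loopWord11, loopWord12, loopWord13, loopWord14, loopWord15, loopWord16, loopWord17, loopWord18, loopWord19, loopWord20, loopWord21, loopWord22, loopWord23, loopWord24, loopWord25, loopWord26, loopWord27, loopWord28, loopWord29, loopWord30, loopWord31, loopWord32, loopWord33, loopWord34, loopWord35, loopWord36, loopWord37, loopWord38, loopWord39, loopWord40, loopWord41, loopWord42, loopWord43, loopWord44, loopWord45,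 loopWord46, loopWord47, loopWord48, loopWord49, loopWord50, loopWord51, loopWord52, loopWord53, loopWord54, loopWord55, loopWord56, loopWord57, loopWord58, loopWord59, loopWord60, loopWord61, loopWord62, loopWord63, loopWord64, loopWord65, loopWord66, loopWord67, loopWord68, loopWord69, loopWord70, loopWord71, loopWord72, loopWord73, loopWord74, loopWord75, loopWord76, loopWord77, loopWord78, loopWord79, loopWord80, loopWord81, loopWord82, loopWord83, loopWord84, loopWord85, loopWord86, loopWord87, loopWord88, loopWord89, loopWord90, loopWord91, loopWord92, loopWord93, loopWord94, loopWord95, loopWord96, loopWord97, loopWord98, loopWord99, loopWord100, loopWord101, loopWord102, loopWord103, loopWord104, loopWord105, loopWord106, loopWord107, loopWord108, loopWord109,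 loopWord110, loopWord111, loopWord112, loopWord113, loopWord114, loopWord115, loopWord116, loopWord117, loopWord118, loopWord119, loopWord120, loopWord121, loopWord122, loopWord123, loopWord124, loopWord125, loopWord126, loopWord127, loopWord128, loopWord129, loopWord130, loopWord131, loopWord132, loopWord133, loopWord134, loopWord135, loopWord136, loopWord137, loopWord138, loopWord139, loopWord140, loopWord141, loopWord142, loopWord143, loopWord144, loopWord145, loopWord146, loopWord147, loopWord148, loopWord149, loopWord150, loopWord151, loopWord152, loopWord153, loopWord154, loopWord155, loopWord156, loopWord157, loopWord158, loopWord159, loopWord160, loopWord161, loopWord162, loopWord163, loopWord164, loopWord165, loopWord166, loopWord167, loopWord168, loopWord169,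 loopWord170, loopWord171, loopWord172, loopWord173, loopWord174, loopWord175, loopWord176, loopWord177, loopWord178, loopWord179, loopWord180, loopWord181, loopWord182, loopWord183, loopWord184, loopWord185, loopWord186, loopWord187, loopWord188, loopWord189, loopWord190, loopWord191, loopWord192, loopWord193, loopWord194, loopWord195, loopWord196, loopWord197, loopWord198, loopWord199, loopWord200, loopWord201, loopWord202, loopWord203, loopWord204, loopWord205, loopWord206, loopWord207, loopWord208, loopWord209, loopWord210, loopWord211, loopWord212, loopWord213, loopWord214, loopWord215, loopWord216, loopWord217, loopWord218, loopWord219, loopWord220, loopWord221, loopWord222, loopWord223, loopWord224, loopWord225, loopWord226, loopWord227, loopWord228, loopWord229,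 loopWord230, loopWord231, loopWord232, loopWord233, loopWord234, loopWord235, loopWord236, loopWord237, loopWord238, loopWord239, loopWord240, loopWord241, loopWord242, loopWord243, loopWord244, loopWord245, loopWord246, loopWord247, loopWord248, loopWord249, loopWord250, loopWord251, loopWord252, loopWord253, loopWord254, loopWord255, loopWord256, loopWord257, loopWord258, loopWord259, loopWord260, loopWord261, loopWord262, loopWord263, loopWord264, loopWord265, loopWord266, loopWord267, loopWord268, loopWord269, loopWord270, loopWord271, loopWord272, loopWord273, loopWord274, loopWord275, loopWord276, loopWord277, loopWord278, loopWord279, loopWord280, loopWord281, loopWord282, loopWord283, loopWord284, loopWord285, loopWord286, loopWord287, loopWord288, loopWord289,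 loopWord290, loopWord291, loopWord292, loopWord293, loopWord294, loopWord295, loopWord296, loopWord297, loopWord298, loopWord299, loopWord300, loopWord301, loopWord302, loopWord303, loopWord304, loopWord305, loopWord306, loopWord307, loopWord308, loopWord309, loopWord310, loopWord311, loopWord312, loopWord313, loopWord314, loopWord315, loopWord316, loopWord317, loopWord318, loopWord319, loopWord320, loopWord321, loopWord322, loopWord323, loopWord324, loopWord325, loopWord326, loopWord327, loopWord328, loopWord329, loopWord330, loopWord331, loopWord332, loopWord333, loopWord334]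

theorem loopWords_ok : ∀ w ∈ loopWords, ∃ ps, CX.cert.pathOK 59213 ps w = true := by
  simp only [loopWords, List.forall_mem_cons, List.not_mem_nil, false_implies, implies_true, and_true]
  exact ⟨⟨_, loop0_ok⟩,
    ⟨_, loop1_ok⟩,
    ⟨_, loop2_ok⟩,
    ⟨_, loop3_ok⟩,
    ⟨_, loop4_ok⟩,
    ⟨_, loop5_ok⟩,
    ⟨_, loop6_ok⟩,
    ⟨_, loop7_ok⟩,
    ⟨_, loop8_ok⟩,
    ⟨_, loop9_ok⟩,
    ⟨_, loop10_ok⟩,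
    ⟨_, loop11_ok⟩,
    ⟨_, loop12_ok⟩,
    ⟨_, loop13_ok⟩,
    ⟨_, loop14_ok⟩,
    ⟨_, loop15_ok⟩,
    ⟨_, loop16_ok⟩,
    ⟨_, loop17_ok⟩,
    ⟨_, loop18_ok⟩,
    ⟨_, loop19_ok⟩,
    ⟨_, loop20_ok⟩,
    ⟨_, loop21_ok⟩,
    ⟨_, loop22_ok⟩,
    ⟨_, loop23_ok⟩,
    ⟨_, loop24_ok⟩,
    ⟨_, loop25_ok⟩,
    ⟨_, loop26_ok⟩,
    ⟨_, loop27_ok⟩,
    ⟨_, loop28_ok⟩,
    ⟨_, loop29_ok⟩,
    ⟨_, loop30_ok⟩,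
    ⟨_, loop31_ok⟩,
    ⟨_, loop32_ok⟩,
    ⟨_, loop33_ok⟩,
    ⟨_, loop34_ok⟩,
    ⟨_, loop35_ok⟩,
    ⟨_, loop36_ok⟩,
    ⟨_, loop37_ok⟩,
    ⟨_, loop38_ok⟩,
    ⟨_, loop39_ok⟩,
    ⟨_, loop40_ok⟩,
    ⟨_, loop41_ok⟩,
    ⟨_, loop42_ok⟩,
    ⟨_, loop43_ok⟩,
    ⟨_, loop44_ok⟩,
    ⟨_, loop45_ok⟩,
    ⟨_, loop46_ok⟩,
    ⟨_, loop47_ok⟩,
    ⟨_, loop48_ok⟩,
    ⟨_, loop49_ok⟩,
    ⟨_, loop50_ok⟩,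
    ⟨_, loop51_ok⟩,
    ⟨_, loop52_ok⟩,
    ⟨_, loop53_ok⟩,
    ⟨_, loop54_ok⟩,
    ⟨_, loop55_ok⟩,
    ⟨_, loop56_ok⟩,
    ⟨_, loop57_ok⟩,
    ⟨_, loop58_ok⟩,
    ⟨_, loop59_ok⟩,
    ⟨_, loop60_ok⟩,
    ⟨_, loop61_ok⟩,
    ⟨_, loop62_ok⟩,
    ⟨_, loop63_ok⟩,
    ⟨_, loop64_ok⟩,
    ⟨_, loop65_ok⟩,
    ⟨_, loop66_ok⟩,
    ⟨_, loop67_ok⟩,
    ⟨_, loop68_ok⟩,
    ⟨_, loop69_ok⟩,
    ⟨_, loop70_ok⟩,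
    ⟨_, loop71_ok⟩,
    ⟨_, loop72_ok⟩,
    ⟨_, loop73_ok⟩,
    ⟨_, loop74_ok⟩,
    ⟨_, loop75_ok⟩,
    ⟨_, loop76_ok⟩,
    ⟨_, loop77_ok⟩,
    ⟨_, loop78_ok⟩,
    ⟨_, loop79_ok⟩,
    ⟨_, loop80_ok⟩,
    ⟨_, loop81_ok⟩,
    ⟨_, loop82_ok⟩,
    ⟨_, loop83_ok⟩,
    ⟨_, loop84_ok⟩,
    ⟨_, loop85_ok⟩,
    ⟨_, loop86_ok⟩,
    ⟨_, loop87_ok⟩,
    ⟨_, loop88_ok⟩,
    ⟨_, loop89_ok⟩,
    ⟨_, loop90_ok⟩,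
    ⟨_, loop91_ok⟩,
    ⟨_, loop92_ok⟩,
    ⟨_, loop93_ok⟩,
    ⟨_, loop94_ok⟩,
    ⟨_, loop95_ok⟩,
    ⟨_, loop96_ok⟩,
    ⟨_, loop97_ok⟩,
    ⟨_, loop98_ok⟩,
    ⟨_, loop99_ok⟩,
    ⟨_, loop100_ok⟩,
    ⟨_, loop101_ok⟩,
    ⟨_, loop102_ok⟩,
    ⟨_, loop103_ok⟩,
    ⟨_, loop104_ok⟩,
    ⟨_, loop105_ok⟩,
    ⟨_, loop106_ok⟩,
    ⟨_, loop107_ok⟩,
    ⟨_, loop108_ok⟩,
    ⟨_, loop109_ok⟩,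
    ⟨_, loop110_ok⟩,
    ⟨_, loop111_ok⟩,
    ⟨_, loop112_ok⟩,
    ⟨_, loop113_ok⟩,
    ⟨_, loop114_ok⟩,
    ⟨_, loop115_ok⟩,
    ⟨_, loop116_ok⟩,
    ⟨_, loop117_ok⟩,
    ⟨_, loop118_ok⟩,
    ⟨_, loop119_ok⟩,
    ⟨_, loop120_ok⟩,
    ⟨_, loop121_ok⟩,
    ⟨_, loop122_ok⟩,
    ⟨_, loop123_ok⟩,
    ⟨_, loop124_ok⟩,
    ⟨_, loop125_ok⟩,
    ⟨_, loop126_ok⟩,
    ⟨_, loop127_ok⟩,
    ⟨_, loop128_ok⟩,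
    ⟨_, loop129_ok⟩,
    ⟨_, loop130_ok⟩,
    ⟨_, loop131_ok⟩,
    ⟨_, loop132_ok⟩,
    ⟨_, loop133_ok⟩,
    ⟨_, loop134_ok⟩,
    ⟨_, loop135_ok⟩,
    ⟨_, loop136_ok⟩,
    ⟨_, loop137_ok⟩,
    ⟨_, loop138_ok⟩,
    ⟨_, loop139_ok⟩,
    ⟨_, loop140_ok⟩,
    ⟨_, loop141_ok⟩,
    ⟨_, loop142_ok⟩,
    ⟨_, loop143_ok⟩,
    ⟨_, loop144_ok⟩,
    ⟨_, loop145_ok⟩,
    ⟨_, loop146_ok⟩,
    ⟨_, loop147_ok⟩,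
    ⟨_, loop148_ok⟩,
    ⟨_, loop149_ok⟩,
    ⟨_, loop150_ok⟩,
    ⟨_, loop151_ok⟩,
    ⟨_, loop152_ok⟩,
    ⟨_, loop153_ok⟩,
    ⟨_, loop154_ok⟩,
    ⟨_, loop155_ok⟩,
    ⟨_, loop156_ok⟩,
    ⟨_, loop157_ok⟩,
    ⟨_, loop158_ok⟩,
    ⟨_, loop159_ok⟩,
    ⟨_, loop160_ok⟩,
    ⟨_, loop161_ok⟩,
    ⟨_, loop162_ok⟩,
    ⟨_, loop163_ok⟩,
    ⟨_, loop164_ok⟩,
    ⟨_, loop165_ok⟩,
    ⟨_, loop166_ok⟩,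
    ⟨_, loop167_ok⟩,
    ⟨_, loop168_ok⟩,
    ⟨_, loop169_ok⟩,
    ⟨_, loop170_ok⟩,
    ⟨_, loop171_ok⟩,
    ⟨_, loop172_ok⟩,
    ⟨_, loop173_ok⟩,
    ⟨_, loop174_ok⟩,
    ⟨_, loop175_ok⟩,
    ⟨_, loop176_ok⟩,
    ⟨_, loop177_ok⟩,
    ⟨_, loop178_ok⟩,
    ⟨_, loop179_ok⟩,
    ⟨_, loop180_ok⟩,
    ⟨_, loop181_ok⟩,
    ⟨_, loop182_ok⟩,
    ⟨_, loop183_ok⟩,
    ⟨_, loop184_ok⟩,
    ⟨_, loop185_ok⟩,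
    ⟨_, loop186_ok⟩,
    ⟨_, loop187_ok⟩,
    ⟨_, loop188_ok⟩,
    ⟨_, loop189_ok⟩,
    ⟨_, loop190_ok⟩,
    ⟨_, loop191_ok⟩,
    ⟨_, loop192_ok⟩,
    ⟨_, loop193_ok⟩,
    ⟨_, loop194_ok⟩,
    ⟨_, loop195_ok⟩,
    ⟨_, loop196_ok⟩,
    ⟨_, loop197_ok⟩,
    ⟨_, loop198_ok⟩,
    ⟨_, loop199_ok⟩,
    ⟨_, loop200_ok⟩,
    ⟨_, loop201_ok⟩,
    ⟨_, loop202_ok⟩,
    ⟨_, loop203_ok⟩,
    ⟨_, loop204_ok⟩,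
    ⟨_, loop205_ok⟩,
    ⟨_, loop206_ok⟩,
    ⟨_, loop207_ok⟩,
    ⟨_, loop208_ok⟩,
    ⟨_, loop209_ok⟩,
    ⟨_, loop210_ok⟩,
    ⟨_, loop211_ok⟩,
    ⟨_, loop212_ok⟩,
    ⟨_, loop213_ok⟩,
    ⟨_, loop214_ok⟩,
    ⟨_, loop215_ok⟩,
    ⟨_, loop216_ok⟩,
    ⟨_, loop217_ok⟩,
    ⟨_, loop218_ok⟩,
    ⟨_, loop219_ok⟩,
    ⟨_, loop220_ok⟩,
    ⟨_, loop221_ok⟩,
    ⟨_, loop222_ok⟩,
    ⟨_, loop223_ok⟩,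
    ⟨_, loop224_ok⟩,
    ⟨_, loop225_ok⟩,
    ⟨_, loop226_ok⟩,
    ⟨_, loop227_ok⟩,
    ⟨_, loop228_ok⟩,
    ⟨_, loop229_ok⟩,
    ⟨_, loop230_ok⟩,
    ⟨_, loop231_ok⟩,
    ⟨_, loop232_ok⟩,
    ⟨_, loop233_ok⟩,
    ⟨_, loop234_ok⟩,
    ⟨_, loop235_ok⟩,
    ⟨_, loop236_ok⟩,
    ⟨_, loop237_ok⟩,
    ⟨_, loop238_ok⟩,
    ⟨_, loop239_ok⟩,
    ⟨_, loop240_ok⟩,
    ⟨_, loop241_ok⟩,
    ⟨_, loop242_ok⟩,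
    ⟨_, loop243_ok⟩,
    ⟨_, loop244_ok⟩,
    ⟨_, loop245_ok⟩,
    ⟨_, loop246_ok⟩,
    ⟨_, loop247_ok⟩,
    ⟨_, loop248_ok⟩,
    ⟨_, loop249_ok⟩,
    ⟨_, loop250_ok⟩,
    ⟨_, loop251_ok⟩,
    ⟨_, loop252_ok⟩,
    ⟨_, loop253_ok⟩,
    ⟨_, loop254_ok⟩,
    ⟨_, loop255_ok⟩,
    ⟨_, loop256_ok⟩,
    ⟨_, loop257_ok⟩,
    ⟨_, loop258_ok⟩,
    ⟨_, loop259_ok⟩,
    ⟨_, loop260_ok⟩,
    ⟨_, loop261_ok⟩,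
    ⟨_, loop262_ok⟩,
    ⟨_, loop263_ok⟩,
    ⟨_, loop264_ok⟩,
    ⟨_, loop265_ok⟩,
    ⟨_, loop266_ok⟩,
    ⟨_, loop267_ok⟩,
    ⟨_, loop268_ok⟩,
    ⟨_, loop269_ok⟩,
    ⟨_, loop270_ok⟩,
    ⟨_, loop271_ok⟩,
    ⟨_, loop272_ok⟩,
    ⟨_, loop273_ok⟩,
    ⟨_, loop274_ok⟩,
    ⟨_, loop275_ok⟩,
    ⟨_, loop276_ok⟩,
    ⟨_, loop277_ok⟩,
    ⟨_, loop278_ok⟩,
    ⟨_, loop279_ok⟩,
    ⟨_, loop280_ok⟩,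
    ⟨_, loop281_ok⟩,
    ⟨_, loop282_ok⟩,
    ⟨_, loop283_ok⟩,
    ⟨_, loop284_ok⟩,
    ⟨_, loop285_ok⟩,
    ⟨_, loop286_ok⟩,
    ⟨_, loop287_ok⟩,
    ⟨_, loop288_ok⟩,
    ⟨_, loop289_ok⟩,
    ⟨_, loop290_ok⟩,
    ⟨_, loop291_ok⟩,
    ⟨_, loop292_ok⟩,
    ⟨_, loop293_ok⟩,
    ⟨_, loop294_ok⟩,
    ⟨_, loop295_ok⟩,
    ⟨_, loop296_ok⟩,
    ⟨_, loop297_ok⟩,
    ⟨_, loop298_ok⟩,
    ⟨_, loop299_ok⟩,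
    ⟨_, loop300_ok⟩,
    ⟨_, loop301_ok⟩,
    ⟨_, loop302_ok⟩,
    ⟨_, loop303_ok⟩,
    ⟨_, loop304_ok⟩,
    ⟨_, loop305_ok⟩,
    ⟨_, loop306_ok⟩,
    ⟨_, loop307_ok⟩,
    ⟨_, loop308_ok⟩,
    ⟨_, loop309_ok⟩,
    ⟨_, loop310_ok⟩,
    ⟨_, loop311_ok⟩,
    ⟨_, loop312_ok⟩,
    ⟨_, loop313_ok⟩,
    ⟨_, loop314_ok⟩,
    ⟨_, loop315_ok⟩,
    ⟨_, loop316_ok⟩,
    ⟨_, loop317_ok⟩,
    ⟨_, loop318_ok⟩,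
    ⟨_, loop319_ok⟩,
    ⟨_, loop320_ok⟩,
    ⟨_, loop321_ok⟩,
    ⟨_, loop322_ok⟩,
    ⟨_, loop323_ok⟩,
    ⟨_, loop324_ok⟩,
    ⟨_, loop325_ok⟩,
    ⟨_, loop326_ok⟩,
    ⟨_, loop327_ok⟩,
    ⟨_, loop328_ok⟩,
    ⟨_, loop329_ok⟩,
    ⟨_, loop330_ok⟩,
    ⟨_, loop331_ok⟩,
    ⟨_, loop332_ok⟩,
    ⟨_, loop333_ok⟩,
    ⟨_, loop334_ok⟩⟩

end CfsgLib.Spor.Fi24
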