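/-
The cosets of the subgroup without the second letter are the 306936 points.
-/
import Cfsg.Agent.Lib.Spor.Fi24Pres.Kt
import Cfsg.Agent.Lib.Spor.Fi24Pres.CX.All
import Cfsg.Agent.Lib.Spor.Fi24Pres.Orbits
import Cfsg.Agent.Lib.Spor.Fi24Pres.RootTest.Test
import Mathlib.Data.Set.Card

namespace CfsgLib.Spor.Fi24

open CfsgLib.Spor.TC MulAction

set_option maxRecDepth 100000

local notation "X₀" => Pres 12 relsX

/-- The subgroup without the second letter. -/
abbrev subX : Subgroup X₀ := presSub 12 relsX embH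

/-- Words spelled by closed paths lie in the subgroup. -/
theorem loop_mem {w : List ℕ} (hw : w ∈ loopWords) : ev (presGen 12 relsX) w ∈ subX := by
  obtain ⟨ps, h⟩ := loopWords_ok w hw
  have hs := sat_presGen 12 relsX
  have hE := CX.cert.holds_of_stepsOK (g := presGen 12 relsX) hs.sq (hs.out _ le_rfl) subX
    (by rw [CX.rels_eq]; exact hs.rel_word) (fun v hv => by
      obtain ⟨x, hx, rfl⟩ := List.mem_map.1 (show v ∈ embH.map fun x => [x] from
        (show CX.cert.subs = embH.map fun x => [x] by decide +kernel) ▸ hv)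
      rw [show ev (presGen 12 relsX) [x] = presGen 12 relsX x by simp [ev]]
      exact Subgroup.subset_closure ⟨x, hx, rfl⟩) CX.steps_ok
  unfold Cert.pathOK at h
  split at h
  · next L fin rest hwalk =>
    simp only [Bool.and_eq_true] at h
    have h1 := CX.cert.walk_sound hs.sq (hs.out _ le_rfl) subX hE _ _ _ _ _ _ hwalk
    rw [Nat.eq_of_beq_eq_true h.1, Cert.word_zero, one_mul, inv_one, mul_one, beqWord_iff h.2] at h1
    exact h1
  · cases h

/-- Whether two letters commute by a relator. -/
def relComm (x y : ℕ) : Bool :=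
  x == y || relsX.contains ([x, y], 2) || relsX.contains ([y, x], 2)

theorem commute_rel {x y : ℕ} (h : relComm x y = true) :
    Commute (presGen 12 relsX x) (presGen 12 relsX y) := by
  have hs := sat_presGen 12 relsX
  have key : ∀ a b, ([a, b], 2) ∈ relsX → Commute (presGen 12 relsX a) (presGen 12 relsX b) := by
    intro a b hab
    have := hs.rel _ hab
    simp only [ev, List.map_cons, List.map_nil, List.prod_cons, List.prod_nil, mul_one, pow_two] at this
    show presGen 12 relsX a * presGen 12 relsX b = presGen 12 relsX b * presGen 12 relsX a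
    calc presGen 12 relsX a * presGen 12 relsX b = (presGen 12 relsX a * presGen 12 relsX b)⁻¹ :=
          eq_inv_of_mul_eq_one_left this
      _ = presGen 12 relsX b * presGen 12 relsX a := by
          rw [mul_inv_rev, inv_eq_of_mul_eq_one_right (hs.sq a), inv_eq_of_mul_eq_one_right (hs.sq b)]
  simp only [relComm, Bool.or_eq_true, beq_iff_eq, List.contains_iff_mem] at h
  rcases h with (rfl | h) | h
  · exact Commute.refl _
  · exact key _ _ h
  · exact (key _ _ h).symm

/-- The eight letters among the twelve. -/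
def embC : List ℕ := [4, 5, 6, 7, 8, 9, 10, 11]

theorem rels_eight : ∀ r ∈ relsC8, ((r.1.map fun x => embC.getD x 12, r.2) ∈ relsX) ∨
    (((r.1.map fun x => embC.getD x 12).reverse, r.2) ∈ relsX ∧ r.1.length = 2) := by decide +kernel

theorem sat_eight : Sat 8 relsC8 (subGen (presGen 12 relsX) 12 embC) := by
  have hs := sat_presGen 12 relsX
  refine ⟨fun x => hs.sq _, fun x hx => ?_, fun r hr => ?_⟩
  · rw [subGen, List.getD_eq_default _ _ (by simpa [embC] using hx)]
    exact hs.out _ le_rfl
  · rw [show ev (subGen (presGen 12 relsX) 12 embC) r.1 =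
      ev (presGen 12 relsX) (r.1.map fun x => embC.getD x 12) by unfold ev; rw [List.map_map]; rfl]
    rcases rels_eight r hr with h | ⟨h, hl⟩
    · exact hs.rel _ h
    · obtain ⟨a, b, hab⟩ := List.length_eq_two.1 hl
      have := hs.rel _ h
      rw [hab] at this ⊢
      simp only [ev, List.map_cons, List.map_nil, List.reverse_cons, List.reverse_nil, List.nil_append,
        List.cons_append, List.prod_cons, List.prod_nil, mul_one] at this ⊢
      rw [← inv_inj, inv_one, ← inv_pow, mul_inv_rev, inv_eq_of_mul_eq_one_right (hs.sq _),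
        inv_eq_of_mul_eq_one_right (hs.sq _)]
      exact this

/-- The map of the group on eight letters. -/
noncomputable def eight : Pres 8 relsC8 →* X₀ := presHom sat_eight

theorem eight_ev (w : List ℕ) : eight (ev (presGen 8 relsC8) w) =
    ev (presGen 12 relsX) (w.map fun x => embC.getD x 12) := by
  rw [eight, map_ev, ev_congr (g' := subGen (presGen 12 relsX) 12 embC) fun x _ => presHom_gen _ x]
  unfold ev
  rw [List.map_map]
  rfl

theorem eight_range_mem {x : ℕ} (hx : x ∈ embC) : presGen 12 relsX x ∈ eight.range := by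
  obtain ⟨i, hi, rfl⟩ := List.mem_iff_getElem.1 hx
  refine ⟨presGen 8 relsC8 i, ?_⟩
  rw [eight, presHom_gen, subGen, List.getD_eq_getElem _ _ hi]

theorem ev_reverse_of_sq {G : Type*} [Group G] {g : ℕ → G} (h : ∀ x, g x * g x = 1) (w : List ℕ) :
    ev g w.reverse = (ev g w)⁻¹ := by
  induction w with
  | nil => simp [ev]
  | cons a w ih =>
    rw [List.reverse_cons, ev_append, ih, ev_cons g a w, mul_inv_rev, inv_eq_of_mul_eq_one_right (h a)]
    simp [ev]

/-- A word as an element. -/
noncomputable abbrev el (w : List ℕ) : X₀ := ev (presGen 12 relsX) w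

theorem el_reverse (w : List ℕ) : el w.reverse = (el w)⁻¹ :=
  ev_reverse_of_sq (sat_presGen 12 relsX).sq w

/-- The coset of an orbit's word. -/
noncomputable def cosetOf (o : OrbData) : X₀ ⧸ subX := (el o.word : X₀ ⧸ subX)

theorem mk_eq_of_loop {a b : List ℕ} (h : a.reverse ++ b ∈ loopWords) :
    (el a : X₀ ⧸ subX) = (el b : X₀ ⧸ subX) := by
  rw [QuotientGroup.eq, ← el_reverse]
  have := loop_mem h
  rwa [ev_append] at this

theorem data_stab_all : (orbs.all fun o => o.stab.all fun w =>
    loopWords.contains (o.word.reverse ++ ((w.map fun x => embC.getD x 12) ++ o.word))) = true := by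
  decide +kernel

theorem data_stab : ∀ o ∈ orbs, ∀ w ∈ o.stab,
    o.word.reverse ++ ((w.map fun x => embC.getD x 12) ++ o.word) ∈ loopWords := fun o ho w hw =>
  List.contains_iff_mem.1 (List.all_eq_true.1 (List.all_eq_true.1 data_stab_all o ho) w hw)

theorem stab_fixes {o : OrbData} (ho : o ∈ orbs) {w : List ℕ} (hw : w ∈ o.stab) :
    eight (ev (presGen 8 relsC8) w) • cosetOf o = cosetOf o := by
  rw [eight_ev, cosetOf, MulAction.Quotient.smul_coe, smul_eq_mul, el, ← ev_append]
  exact (mk_eq_of_loop (data_stab o ho w hw)).symm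

/-- The test that the closed letters of an orbit come from its fixing words. -/
def closedOK (stab : List (List ℕ)) (closed : List ℕ) : Bool :=
  closed.all fun x =>
    (Nat.blt x 8 && stab.contains [x]) ||
    (Nat.ble 8 x && Nat.blt (x - 8) Roots.defs.length &&
      (stab.contains (Roots.defs.getD (x - 8) []) || stab.contains (Roots.defs.getD (x - 8) []).reverse ||
        (Roots.defs.getD (x - 8) []).all fun y => closed.contains y && Nat.blt y x))

/-- The test of one orbit's data. -/
noncomputable def orbOK (o : OrbData) : Bool :=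
  closedOK o.stab o.closed && (o.levels.all fun L => L.gens.all fun x => o.closed.contains x) &&
    Roots.act.levelsOK o.levels [] && Nat.beq (o.size * levelsProd o.levels) 696729600 &&
    (o.word.all fun x => Nat.blt x 12) && Nat.beq (walk o.word 0) o.root && Nat.ble (o.root + o.size) 306936 &&
    (o.stab.all fun w => w.all fun y => Nat.blt y 8)

theorem orbs_ok : orbs.all orbOK = true := by decide +kernel

theorem data_closed {o : OrbData} (ho : o ∈ orbs) : closedOK o.stab o.closed = true ∧
    (∀ L ∈ o.levels, ∀ x ∈ L.gens, x ∈ o.closed) ∧ Roots.act.levelsOK o.levels [] = true ∧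
    o.size * levelsProd o.levels = 696729600 ∧ (∀ x ∈ o.word, x < 12) ∧ walk o.word 0 = o.root ∧
    o.root + o.size ≤ 306936 ∧ (∀ w ∈ o.stab, ∀ y ∈ w, y < 8) := by
  have h := List.all_eq_true.1 orbs_ok o ho
  simp only [orbOK, Bool.and_eq_true, List.all_eq_true, List.contains_iff_mem, Nat.beq_eq, Nat.blt_eq,
    Nat.ble_eq] at h
  obtain ⟨⟨⟨⟨⟨⟨⟨h1, h2⟩, h3⟩, h4⟩, h5⟩, h6⟩, h7⟩, h8⟩ := h
  exact ⟨h1, h2, h3, h4, h5, h6, h7, h8⟩

theorem card_stab_ge {o : OrbData} (ho : o ∈ orbs) :
    levelsProd o.levels ≤ Nat.card (Subgroup.closure ((fun w => ev (presGen 8 relsC8) w) '' {w | w ∈ o.stab})) := by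
  obtain ⟨hc, hg, hl, -, -, -, -, hlt8⟩ := data_closed ho
  let S := Subgroup.closure ((fun w => ev (presGen 8 relsC8) w) '' {w | w ∈ o.stab})
  have hb : ∀ w ∈ o.stab, ev (presGen 8 relsC8) w ∈ S := fun w hw => Subgroup.subset_closure ⟨w, hw, rfl⟩
  have hrev : ∀ w : List ℕ, ev (presGen 8 relsC8) w.reverse = (ev (presGen 8 relsC8) w)⁻¹ :=
    ev_reverse_of_sq (sat_presGen 8 relsC8).sq
  have key : ∀ x, x ∈ o.closed → Roots.act.letters relsC8 x ∈ S := by
    intro x
    induction x using Nat.strong_induction_on with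
    | _ x ih =>
      intro hx
      have h := List.all_eq_true.1 hc x hx
      simp only [Bool.or_eq_true, Bool.and_eq_true, Nat.blt_eq, Nat.ble_eq, List.contains_iff_mem] at h
      rcases h with ⟨h8, hw⟩ | ⟨⟨h8, hlen⟩, h⟩
      · rw [Act.letters_of_lt (A := Roots.act) h8]
        have e : presGen Roots.act.k relsC8 x = ev (presGen 8 relsC8) [x] := by simp [ev]; rfl
        exact e ▸ hb _ hw
      · have h1 := extend_def Roots.defs (presGen 8 relsC8) Roots.valid.below (x - 8)
          (Roots.defs.getD (x - 8) []) (by rw [List.getElem?_eq_getElem hlen, List.getD_eq_getElem _ _ hlen])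
        rw [show Roots.act.k + (x - 8) = x from Nat.add_sub_cancel' h8] at h1
        show extend (presGen 8 relsC8) Roots.act.k Roots.defs x ∈ S
        rw [h1]
        rcases h with (h | h) | h
        · have := hb _ h
          rw [ev_congr (g := extend (presGen 8 relsC8) Roots.act.k Roots.defs) (g' := presGen 8 relsC8)
            fun y hy => extend_of_lt _ _ (hlt8 _ h y hy)]
          exact this
        · have := S.inv_mem (hb _ h)
          rw [← hrev, List.reverse_reverse] at this
          rw [ev_congr (g := extend (presGen 8 relsC8) Roots.act.k Roots.defs) (g' := presGen 8 relsC8)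
            fun y hy => extend_of_lt _ _ (hlt8 _ h y (List.mem_reverse.2 hy))]
          exact this
        · refine ev_mem fun y hy => ?_
          have := List.all_eq_true.1 h y hy
          simp only [Bool.and_eq_true, Nat.blt_eq, List.contains_iff_mem] at this
          exact ih y this.2 this.1
  haveI : Finite (Pres 8 relsC8) := Nat.finite_of_card_ne_zero card_eight_le.1
  refine (card_ge_of_levels Roots.act Roots.valid o.levels [] (S.map Roots.valid.rho) hl
    fun L hL x hx _ => ⟨_, key x (hg L hL x hx), Roots.valid.rho_letters x⟩).trans ?_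
  exact Nat.card_le_card_of_surjective _ (Roots.valid.rho.subgroupMap_surjective S)

/-- The orbit of an orbit's coset under the eight letters. -/
noncomputable def piece (o : OrbData) : Set (X₀ ⧸ subX) :=
  Set.range fun c : Pres 8 relsC8 => eight c • cosetOf o

theorem piece_finite (o : OrbData) : (piece o).Finite := by
  haveI : Finite (Pres 8 relsC8) := Nat.finite_of_card_ne_zero card_eight_le.1
  exact Set.finite_range _

theorem piece_le {o : OrbData} (ho : o ∈ orbs) : (piece o).ncard ≤ o.size := by
  haveI : Finite (Pres 8 relsC8) := Nat.finite_of_card_ne_zero card_eight_le.1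
  letI := MulAction.compHom (X₀ ⧸ subX) eight
  have he : piece o = orbit (Pres 8 relsC8) (cosetOf o) := rfl
  have hS : Subgroup.closure ((fun w => ev (presGen 8 relsC8) w) '' {w | w ∈ o.stab}) ≤
      stabilizer (Pres 8 relsC8) (cosetOf o) := by
    rw [Subgroup.closure_le]
    rintro _ ⟨w, hw, rfl⟩
    exact stab_fixes ho hw
  have h1 := (card_stab_ge ho).trans (Nat.card_le_card_of_injective _ (Subgroup.inclusion_injective hS))
  have h2 := Nat.card_congr (orbitProdStabilizerEquivGroup (Pres 8 relsC8) (cosetOf o))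
  rw [Nat.card_prod] at h2
  obtain ⟨-, -, -, hsz, -, -⟩ := data_closed ho
  have h3 : Nat.card (orbit (Pres 8 relsC8) (cosetOf o)) * levelsProd o.levels ≤ o.size * levelsProd o.levels := by
    refine (Nat.mul_le_mul le_rfl h1).trans ?_
    rw [h2, hsz]
    exact card_eight_le.2
  rw [he, ← Nat.card_coe_set_eq]
  refine Nat.le_of_mul_le_mul_right h3 ?_
  by_contra h0
  rw [Nat.le_zero.1 (Nat.le_of_not_lt h0), mul_zero] at hsz
  exact absurd hsz (by norm_num)

variable (hall : RangeTest pointTest 0 nPts) (hphi : RangeTest phiTest 0 31671)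
  (hroot : ∀ o ∈ orbs, RangeTest (rootTest o.root) o.root (o.root + o.size))
include hall hphi

/-- The action. -/
noncomputable def rhoX : X₀ →* Equiv.Perm (Fin nPts) := presHom (sat_relsX hall hphi)

theorem rhoX_el (w : List ℕ) : rhoX hall hphi (el w) = ev (sig hall) w := by
  rw [el, rhoX, map_ev]
  exact ev_congr fun x _ => presHom_gen _ x

/-- The first point. -/
def pt0 : Fin nPts := ⟨0, by decide⟩

omit hall hphi in
theorem embH_fix : ∀ x ∈ embH, T x 0 = 0 := by decide +kernel

theorem subX_fix {h : X₀} (hh : h ∈ subX) : rhoX hall hphi h pt0 = pt0 := by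
  induction hh using Subgroup.closure_induction with
  | mem g hg =>
    obtain ⟨x, hx, rfl⟩ := hg
    rw [rhoX, presHom_gen]
    exact Fin.ext ((sig_val hall (embH_lt x hx) _).trans (embH_fix x hx))
  | one => simp
  | mul a b _ _ ha hb => rw [map_mul, Equiv.Perm.mul_apply, hb, ha]
  | inv a _ ha =>
    rw [map_inv]
    conv_lhs => rw [← ha]
    exact (rhoX hall hphi a).symm_apply_apply pt0

/-- The point of a coset. -/
noncomputable def pointOf : X₀ ⧸ subX → Fin nPts := fun q =>
  Quotient.liftOn' q (fun g => rhoX hall hphi g pt0) fun a b hab => by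
    rw [QuotientGroup.leftRel_apply] at hab
    have h := subX_fix hall hphi hab
    rw [map_mul, map_inv, Equiv.Perm.mul_apply] at h
    exact ((rhoX hall hphi a).symm_apply_eq.1 h).symm

theorem pointOf_smul (g : X₀) (q : X₀ ⧸ subX) :
    pointOf hall hphi (g • q) = rhoX hall hphi g (pointOf hall hphi q) := by
  induction q using QuotientGroup.induction_on with
  | H a =>
    show rhoX hall hphi (g * a) pt0 = rhoX hall hphi g (rhoX hall hphi a pt0)
    rw [map_mul, Equiv.Perm.mul_apply]

theorem point_coset {o : OrbData} (ho : o ∈ orbs) : (pointOf hall hphi (cosetOf o) : ℕ) = o.root := by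
  obtain ⟨-, -, -, -, hlt, hw, -, -⟩ := data_closed ho
  show (rhoX hall hphi (el o.word) pt0 : ℕ) = _
  rw [rhoX_el, ev_val hall hlt]
  exact hw

theorem gen_smul (x : ℕ) (q : X₀ ⧸ subX) :
    pointOf hall hphi (presGen 12 relsX x • q) = sig hall x (pointOf hall hphi q) := by
  rw [pointOf_smul, rhoX, presHom_gen]

include hroot

theorem interval_mem {o : OrbData} (ho : o ∈ orbs) : ∀ p, o.root ≤ p → p < o.root + o.size →
    ∃ q ∈ piece o, (pointOf hall hphi q : ℕ) = p := by
  intro p
  induction p using Nat.strong_induction_on with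
  | _ p ih =>
    intro h1 h2
    have h := hroot o ho p h1 h2
    simp only [rootTest, strict_eq, Bool.and_eq_true, Bool.or_eq_true, Nat.beq_eq, Nat.blt_eq, Nat.ble_eq] at h
    rcases h.2 with rfl | h
    · exact ⟨cosetOf o, ⟨1, by simp⟩, point_coset hall hphi ho⟩
    · obtain ⟨u, hu, hlo, hlt⟩ : ∃ u ∈ embC, o.root ≤ T u p ∧ T u p < p := by
        simp only [embC, List.exists_mem_cons_iff, List.not_mem_nil, false_and, exists_const, exists_false, or_false,
          T, dig, Nat.mul_eq, Nat.reduceMul]
        simp only [or_assoc] at h ⊢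
        exact h
      have hu12 : u < 12 := (show ∀ u ∈ embC, u < 12 by decide) u hu
      obtain ⟨q, ⟨c, rfl⟩, hq⟩ := ih _ hlt hlo (hlt.trans h2)
      obtain ⟨cu, hcu⟩ := eight_range_mem hu
      refine ⟨eight (cu * c) • cosetOf o, ⟨cu * c, rfl⟩, ?_⟩
      have hp : p < nPts := lt_of_lt_of_le h2 (data_closed ho).2.2.2.2.2.2.1
      rw [map_mul, mul_smul, hcu, gen_smul, sig_val hall hu12, hq]
      exact ((pointTest_spec (hall p (Nat.zero_le _) hp)).1 u hu12).2

theorem piece_exact {o : OrbData} (ho : o ∈ orbs) :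
    Set.InjOn (pointOf hall hphi) (piece o) ∧ ∀ q ∈ piece o,
      o.root ≤ (pointOf hall hphi q : ℕ) ∧ (pointOf hall hphi q : ℕ) < o.root + o.size := by
  let f := fun q => (pointOf hall hphi q : ℕ)
  have hsub : Set.Ico o.root (o.root + o.size) ⊆ f '' piece o := fun p hp =>
    interval_mem hall hphi hroot ho p hp.1 hp.2
  have hfin := (piece_finite o).image f
  have h1 : (Set.Ico o.root (o.root + o.size)).ncard = o.size := by
    rw [Set.ncard_Ico_nat]; omega
  have h2 := Set.ncard_le_ncard hsub hfin
  have h3 := Set.ncard_image_le (f := f) (piece_finite o)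
  have h4 := piece_le ho
  have heq : (f '' piece o).ncard = (piece o).ncard := by omega
  have himg : Set.Ico o.root (o.root + o.size) = f '' piece o :=
    Set.eq_of_subset_of_ncard_le hsub (by omega) hfin
  refine ⟨fun a ha b hb e => (Set.injOn_of_ncard_image_eq heq (piece_finite o)) ha hb (congrArg Fin.val e),
    fun q hq => ?_⟩
  exact (himg.symm ▸ Set.mem_image_of_mem f hq : f q ∈ Set.Ico o.root (o.root + o.size))

omit hall hphi hroot in
theorem orbs_disjoint : ∀ i : Fin orbs.length, ∀ j : Fin orbs.length, (i : ℕ) < j →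
    (orbs.get i).root + (orbs.get i).size ≤ (orbs.get j).root := by decide +kernel

/-- All pieces together. -/
noncomputable def pieces : Set (X₀ ⧸ subX) := {q | ∃ o ∈ orbs, q ∈ piece o}

theorem pieces_inj : Set.InjOn (pointOf hall hphi) pieces := by
  rintro a ⟨o, ho, ha⟩ b ⟨o', ho', hb⟩ e
  obtain ⟨i, rfl⟩ := List.mem_iff_get.1 ho
  obtain ⟨j, rfl⟩ := List.mem_iff_get.1 ho'
  have hA := (piece_exact hall hphi hroot ho).2 a ha
  have hB := (piece_exact hall hphi hroot ho').2 b hb
  rw [e] at hA
  have hij : i = j := by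
    rcases lt_trichotomy (i : ℕ) j with h | h | h
    · have := orbs_disjoint i j h; omega
    · exact Fin.ext h
    · have := orbs_disjoint j i h; omega
  subst hij
  exact (piece_exact hall hphi hroot ho).1 ha hb e

omit hall hphi hroot in
theorem xMoves_ok : ∀ e ∈ xMoves, e.1 < orbs.length ∧ e.2.2.2 < orbs.length ∧ e.2.1 < 3 ∧
    (∀ y ∈ e.2.2.1, y ∈ embC) ∧
    ((e.2.1 :: (orbs.getD e.1 orb0).word).reverse ++ (e.2.2.1 ++ (orbs.getD e.2.2.2 orb0).word)) ∈ loopWords := by
  decide +kernel

omit hall hphi hroot in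
theorem xMoves_all : ∀ i < orbs.length, ∀ x < 3, (i, x) ∈ xMoves.map fun e => (e.1, e.2.1) := by decide +kernel

omit hall hphi hroot in
theorem bMoves_ok : ∀ e ∈ bMoves, e.1 < nPts ∧ e.2.1 < orbs.length ∧ e.2.2.2.2 < orbs.length ∧
    (∀ y ∈ e.2.2.1, y ∈ embC) ∧ (∀ y ∈ e.2.2.2.1, y ∈ embC) ∧ (∀ y ∈ (orbs.getD e.2.1 orb0).word, y < 12) ∧
    walk (e.2.2.1 ++ (orbs.getD e.2.1 orb0).word) 0 = e.1 ∧
    ((3 :: (e.2.2.1 ++ (orbs.getD e.2.1 orb0).word)).reverse ++ (e.2.2.2.1 ++ (orbs.getD e.2.2.2.2 orb0).word)) ∈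
      loopWords := by
  decide +kernel

omit hall hphi hroot in
theorem dRoots_eq : dRoots = bMoves.map fun e => e.1 := by decide +kernel

omit hall hphi hroot in
theorem getD_mem {i : ℕ} (h : i < orbs.length) : orbs.getD i orb0 ∈ orbs := by
  rw [List.getD_eq_getElem _ _ h]
  exact List.getElem_mem h

omit hall hphi hroot in
theorem el_embC_mem {w : List ℕ} (h : ∀ y ∈ w, y ∈ embC) : el w ∈ eight.range :=
  ev_mem fun y hy => eight_range_mem (h y hy)

omit hall hphi hroot in
theorem pieces_eight {g : X₀} (hg : g ∈ eight.range) {q : X₀ ⧸ subX} (hq : q ∈ pieces) : g • q ∈ pieces := by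
  obtain ⟨o, ho, c, rfl⟩ := hq
  obtain ⟨d, rfl⟩ := hg
  exact ⟨o, ho, d * c, by show eight (d * c) • _ = eight d • (eight c • _); rw [map_mul, mul_smul]⟩

omit hall hphi hroot in
theorem word_piece {w : List ℕ} {i : ℕ} (h : i < orbs.length) (hw : ∀ y ∈ w, y ∈ embC) :
    el w • cosetOf (orbs.getD i orb0) ∈ pieces :=
  pieces_eight (el_embC_mem hw) ⟨_, getD_mem h, 1, by simp⟩

omit hall hphi hroot in
theorem smul_cosetOf (w : List ℕ) (o : OrbData) :
    el w • cosetOf o = (el (w ++ o.word) : X₀ ⧸ subX) := by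
  rw [cosetOf, MulAction.Quotient.smul_coe, smul_eq_mul, el, el, el, ev_append]

omit hall hphi hroot in
theorem first_three {x : ℕ} (hx : x < 3) {i : ℕ} (hi : i < orbs.length) :
    presGen 12 relsX x • cosetOf (orbs.getD i orb0) ∈ pieces := by
  obtain ⟨e, he, hex⟩ := List.mem_map.1 (xMoves_all i hi x hx)
  cases hex
  obtain ⟨-, ht, -, hw, hl⟩ := xMoves_ok e he
  have h := mk_eq_of_loop hl
  have e1 : presGen 12 relsX e.2.1 • cosetOf (orbs.getD e.1 orb0) =
      (el (e.2.1 :: (orbs.getD e.1 orb0).word) : X₀ ⧸ subX) := by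
    rw [cosetOf, MulAction.Quotient.smul_coe, smul_eq_mul, el, el, ev_cons]
  rw [e1, h, ← smul_cosetOf]
  exact word_piece ht hw

theorem low_closed {x : ℕ} (hx : x < 3) {q : X₀ ⧸ subX} (hq : q ∈ pieces) :
    presGen 12 relsX x • q ∈ pieces := by
  obtain ⟨o, ho, c, rfl⟩ := hq
  obtain ⟨i, hi, rfl⟩ := List.mem_iff_getElem.1 ho
  have hc : Commute (presGen 12 relsX x) (eight c) := by
    have hgen : ∀ y ∈ embC, Commute (presGen 12 relsX x) (presGen 12 relsX y) := fun y hy =>
      commute_rel ((show ∀ x < 3, ∀ y ∈ embC, relComm x y = true by decide +kernel) x hx y hy)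
    have hr : eight.range ≤ Subgroup.centralizer {presGen 12 relsX x} := by
      rw [eight, range_presHom, Subgroup.closure_le]
      rintro _ ⟨j, hj, rfl⟩
      refine Subgroup.mem_centralizer_singleton_iff.2 (Commute.symm (hgen _ ?_)).eq
      rw [List.getD_eq_getElem _ _ (show j < embC.length from hj)]
      exact List.getElem_mem _
    exact (Subgroup.mem_centralizer_singleton_iff.1 (hr ⟨c, rfl⟩) : Commute (eight c) (presGen 12 relsX x)).symm
  show presGen 12 relsX x • eight c • cosetOf orbs[i] ∈ pieces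
  rw [← mul_smul, hc.eq, mul_smul, ← List.getD_eq_getElem _ orb0 hi]
  exact pieces_eight ⟨c, rfl⟩ (first_three hx hi)

theorem descend_D : ∀ p, p < nPts → ∃ (w : List ℕ) (e : ℕ × ℕ × List ℕ × List ℕ × ℕ), e ∈ bMoves ∧
    (∀ y ∈ w, y ∈ [5, 6, 7, 8, 9, 10, 11]) ∧ walk w e.1 = p := by
  intro p
  induction p using Nat.strong_induction_on with
  | _ p ih =>
    intro hp
    obtain ⟨o, ho, h1, h2⟩ : ∃ o ∈ orbs, o.root ≤ p ∧ p < o.root + o.size := by
      have hc : ∀ i < orbs.length, i + 1 < orbs.length →
          (orbs.getD i orb0).root + (orbs.getD i orb0).size = (orbs.getD (i + 1) orb0).root := by decide +kernel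
      by_contra hne
      push_neg at hne
      have key : ∀ i, i < orbs.length → (orbs.getD i orb0).root + (orbs.getD i orb0).size ≤ p := by
        intro i
        induction i with
        | zero =>
          intro hi
          exact hne _ (getD_mem hi) (by rw [show (orbs.getD 0 orb0).root = 0 by decide +kernel]; omega)
        | succ i ihi =>
          intro hi
          refine hne _ (getD_mem hi) ?_
          rw [← hc i (by omega) hi]
          exact ihi (by omega)
      have := key 25 (by decide +kernel)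
      rw [show (orbs.getD 25 orb0).root + (orbs.getD 25 orb0).size = 306936 by decide +kernel] at this
      exact absurd hp (Nat.not_lt.2 this)
    have h := hroot o ho p h1 h2
    simp only [rootTest, strict_eq, Bool.and_eq_true, Bool.or_eq_true, Nat.beq_eq, Nat.blt_eq] at h
    rcases h.1 with h | h
    · obtain ⟨u, hu, hlt⟩ : ∃ u ∈ [5, 6, 7, 8, 9, 10, 11], T u p < p := by
        simp only [List.exists_mem_cons_iff, List.not_mem_nil, false_and, exists_const, exists_false, or_false,
          T, dig, Nat.mul_eq, Nat.reduceMul]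
        simp only [or_assoc] at h ⊢
        exact h
      obtain ⟨w, e, he, hw, hwalk⟩ := ih _ hlt (hlt.trans hp)
      refine ⟨u :: w, e, he, fun y hy => ?_, ?_⟩
      · rcases List.mem_cons.1 hy with rfl | hy
        · exact hu
        · exact hw y hy
      · rw [walk_cons, hwalk]
        exact ((pointTest_spec (hall p (Nat.zero_le _) hp)).1 u
          ((show ∀ u ∈ [5, 6, 7, 8, 9, 10, 11], u < 12 by decide) u hu)).2
    · have h' := memNat_spec h
      rw [dRoots_eq] at h'
      obtain ⟨e, he, rfl⟩ := List.mem_map.1 h'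
      exact ⟨[], e, he, by simp, rfl⟩

theorem four_closed {q : X₀ ⧸ subX} (hq : q ∈ pieces) : presGen 12 relsX 3 • q ∈ pieces := by
  obtain ⟨v, e, he, hv, hwalk⟩ := descend_D hall hphi hroot _ (pointOf hall hphi q).2
  obtain ⟨-, hr, ht, hw, hw2, hlt, hroot', hl⟩ := bMoves_ok e he
  obtain ⟨hvC, hvb⟩ : (∀ y ∈ v, y ∈ embC) ∧ ∀ y ∈ v, relComm 3 y = true :=
    ⟨fun y hy => (show ∀ y ∈ [5, 6, 7, 8, 9, 10, 11], y ∈ embC by decide) y (hv y hy),
      fun y hy => (show ∀ y ∈ [5, 6, 7, 8, 9, 10, 11], relComm 3 y = true by decide +kernel) y (hv y hy)⟩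
  have hlt12 : ∀ y ∈ v ++ (e.2.2.1 ++ (orbs.getD e.2.1 orb0).word), y < 12 := by
    have h12 : ∀ y ∈ embC, y < 12 := by decide
    intro y hy
    simp only [List.mem_append] at hy
    rcases hy with h | h | h
    · exact h12 y (hvC y h)
    · exact h12 y (hw y h)
    · exact hlt y h
  have hr' : el v • (el e.2.2.1 • cosetOf (orbs.getD e.2.1 orb0)) ∈ pieces :=
    pieces_eight (el_embC_mem hvC) (word_piece hr hw)
  have heq : q = el v • (el e.2.2.1 • cosetOf (orbs.getD e.2.1 orb0)) := by
    refine pieces_inj hall hphi hroot hq hr' (Fin.ext ?_)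
    rw [pointOf_smul, smul_cosetOf, rhoX_el]
    show _ = ((ev (sig hall) v) (rhoX hall hphi (el (e.2.2.1 ++ (orbs.getD e.2.1 orb0).word)) pt0) : ℕ)
    rw [rhoX_el, ← Equiv.Perm.mul_apply, ← ev_append, ev_val hall hlt12, ← hwalk, ← hroot']
    clear * - v
    induction v with
    | nil => rfl
    | cons a v ih => rw [List.cons_append, walk_cons, walk_cons, ih]
  have hb : Commute (presGen 12 relsX 3) (el v) :=
    Commute.list_prod_right (v.map (presGen 12 relsX)) _ fun y hy => by
      obtain ⟨z, hz, rfl⟩ := List.mem_map.1 hy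
      exact commute_rel (hvb z hz)
  have e1 : presGen 12 relsX 3 • (el e.2.2.1 • cosetOf (orbs.getD e.2.1 orb0)) =
      el e.2.2.2.1 • cosetOf (orbs.getD e.2.2.2.2 orb0) := by
    rw [smul_cosetOf, MulAction.Quotient.smul_coe, smul_eq_mul, smul_cosetOf, ← mk_eq_of_loop hl, el, el, ev_cons]
  rw [heq, ← mul_smul, hb.eq, mul_smul, e1]
  exact pieces_eight (el_embC_mem hvC) (word_piece ht hw2)

theorem pieces_all (q : X₀ ⧸ subX) : q ∈ pieces := by
  have hgen : ∀ x < 12, ∀ q ∈ pieces, presGen 12 relsX x • q ∈ pieces := by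
    intro x hx q hq
    by_cases h3 : x < 3
    · exact low_closed hall hphi hroot h3 hq
    · by_cases h4 : x = 3
      · exact h4 ▸ four_closed hall hphi hroot hq
      · exact pieces_eight (eight_range_mem
          ((show ∀ x < 12, 3 < x → x ∈ embC by decide) x hx (by omega))) hq
  have h0 : ((1 : X₀) : X₀ ⧸ subX) ∈ pieces :=
    ⟨orb0, by simp [orbs], 1, by simp [cosetOf, orb0, el, ev]⟩
  induction q using QuotientGroup.induction_on with
  | H g =>
    have hg : g ∈ Subgroup.closure (presGen 12 relsX '' Set.Iio 12) := closure_presGen 12 relsX ▸ Subgroup.mem_top g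
    have : ∀ q ∈ pieces, g • q ∈ pieces := by
      induction hg using Subgroup.closure_induction'' with
      | mem y hy => obtain ⟨x, hx, rfl⟩ := hy; exact hgen x hx
      | inv_mem y hy =>
        obtain ⟨x, hx, rfl⟩ := hy
        rw [inv_eq_of_mul_eq_one_right ((sat_presGen 12 relsX).sq x)]
        exact hgen x hx
      | one => intro q hq; simpa using hq
      | mul a b _ _ ha hb => intro q hq; rw [mul_smul]; exact ha _ (hb q hq)
    have := this _ h0
    rwa [MulAction.Quotient.smul_coe, smul_eq_mul, mul_one] at this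

theorem pointOf_bijective : Function.Bijective (pointOf hall hphi) := by
  refine ⟨fun a b e => pieces_inj hall hphi hroot (pieces_all hall hphi hroot a) (pieces_all hall hphi hroot b) e,
    fun p => ?_⟩
  obtain ⟨v, e, he, hv, hwalk⟩ := descend_D hall hphi hroot _ p.2
  obtain ⟨-, -, -, hw, -, hlt, hroot', -⟩ := bMoves_ok e he
  refine ⟨(el (v ++ (e.2.2.1 ++ (orbs.getD e.2.1 orb0).word)) : X₀ ⧸ subX), Fin.ext ?_⟩
  have h12 : ∀ y ∈ embC, y < 12 := by decide
  show (rhoX hall hphi (el _) pt0 : ℕ) = p
  rw [rhoX_el, ev_val hall, ← hwalk, ← hroot']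
  · clear * - v
    induction v with
    | nil => rfl
    | cons a v ih => rw [List.cons_append, walk_cons, walk_cons, ih]
  · intro y hy
    simp only [List.mem_append] at hy
    rcases hy with h | h | h
    · exact h12 y ((show ∀ y ∈ [5, 6, 7, 8, 9, 10, 11], y ∈ embC by decide) y (hv y h))
    · exact h12 y (hw y h)
    · exact hlt y h

theorem index_subX : subX.index = 306936 := by
  rw [Subgroup.index, Nat.card_congr (Equiv.ofBijective _ (pointOf_bijective hall hphi hroot)), Nat.card_fin]

theorem mem_subX_iff (g : X₀) : g ∈ subX ↔ rhoX hall hphi g pt0 = pt0 := by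
  refine ⟨subX_fix hall hphi, fun h => ?_⟩
  have e : pointOf hall hphi (g : X₀ ⧸ subX) = pointOf hall hphi ((1 : X₀) : X₀ ⧸ subX) := by
    show rhoX hall hphi g pt0 = rhoX hall hphi 1 pt0
    rw [h, map_one]
    rfl
  have := (pointOf_bijective hall hphi hroot).1 e
  rw [QuotientGroup.eq, mul_one] at this
  exact inv_mem_iff.1 this

end CfsgLib.Spor.Fi24
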