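/-
The kernel of the action is trivial, and the order of the group.
-/
import Cfsg.Agent.Lib.Spor.Fi24Pres.Upper
import Cfsg.Agent.Lib.CoxWord.Triple.Split

namespace CfsgLib.Spor.Fi24

open CfsgLib.Spor.TC

set_option maxRecDepth 100000

local notation "X₀" => Pres 12 relsX

/-- Every element is a word in the generators. -/
theorem word_of_mem_closure {G : Type*} [Group G] {g : ℕ → G} (hsq : ∀ x, g x * g x = 1) {emb : List ℕ} {a : G}
    (ha : a ∈ Subgroup.closure (g '' {x | x ∈ emb})) : ∃ w : List ℕ, (∀ x ∈ w, x ∈ emb) ∧ a = ev g w := by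
  induction ha using Subgroup.closure_induction with
  | mem a ha =>
    obtain ⟨x, hx, rfl⟩ := ha
    exact ⟨[x], fun y hy => by rw [List.mem_singleton] at hy; exact hy.symm ▸ hx, by simp [ev]⟩
  | one => exact ⟨[], by simp, by simp [ev]⟩
  | mul a b _ _ ha hb =>
    obtain ⟨u, hu, rfl⟩ := ha
    obtain ⟨v, hv, rfl⟩ := hb
    exact ⟨u ++ v, fun x hx => (List.mem_append.1 hx).elim (hu x) (hv x), (ev_append g u v).symm⟩
  | inv a _ ha =>
    obtain ⟨u, hu, rfl⟩ := ha
    exact ⟨u.reverse, fun x hx => hu x (List.mem_reverse.1 hx), (ev_reverse_of_sq hsq u).symm⟩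

theorem gen_zero_eq : presGen 12 relsX 0 = el wordL := by
  have hs := sat_presGen 12 relsX
  have h := hs.rel ([0] ++ wordL.reverse, 1) (by decide +kernel)
  rw [pow_one, ev_append, ev_reverse_of_sq hs.sq, show ev (presGen 12 relsX) [0] = presGen 12 relsX 0 by simp [ev],
    mul_inv_eq_one] at h
  exact h

theorem gen_mem {x : ℕ} (hx : x ∈ embH) : presGen 12 relsX x ∈ subX := Subgroup.subset_closure ⟨x, hx, rfl⟩

theorem subX_word {g : X₀} (hg : g ∈ subX) : ∃ w : List ℕ, (∀ x ∈ w, x ∈ embH) ∧ g = el w :=
  word_of_mem_closure (sat_presGen 12 relsX).sq hg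

theorem commute_zero_subX {g : X₀} (hg : g ∈ subX) : Commute g (presGen 12 relsX 0) := by
  induction hg using Subgroup.closure_induction with
  | mem a ha =>
    obtain ⟨x, hx, rfl⟩ := ha
    exact commute_rel ((show ∀ x ∈ embH, relComm x 0 = true by decide +kernel) x hx)
  | one => exact Commute.one_left _
  | mul a b _ _ ha hb => exact ha.mul_left hb
  | inv a _ ha => exact ha.inv_left

/-- Whether two letters are braided by a relator. -/
def relBraid (x y : ℕ) : Bool := relsX.contains ([x, y], 3) || relsX.contains ([y, x], 3)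

theorem braid_rel {x y : ℕ} (h : relBraid x y = true) :
    presGen 12 relsX x * presGen 12 relsX y * presGen 12 relsX x =
      presGen 12 relsX y * presGen 12 relsX x * presGen 12 relsX y := by
  have hs := sat_presGen 12 relsX
  have key : ∀ a b, ([a, b], 3) ∈ relsX → presGen 12 relsX a * presGen 12 relsX b * presGen 12 relsX a =
      presGen 12 relsX b * presGen 12 relsX a * presGen 12 relsX b := by
    intro a b hab
    have h := hs.rel _ hab
    rw [show ev (presGen 12 relsX) [a, b] = presGen 12 relsX a * presGen 12 relsX b by simp [ev], pow_three] at h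
    have h' : presGen 12 relsX a * presGen 12 relsX b * presGen 12 relsX a *
        (presGen 12 relsX b * presGen 12 relsX a * presGen 12 relsX b) = 1 := by simpa [mul_assoc] using h
    rw [eq_inv_of_mul_eq_one_left h', mul_inv_rev, mul_inv_rev, inv_eq_of_mul_eq_one_right (hs.sq a),
      inv_eq_of_mul_eq_one_right (hs.sq b), ← mul_assoc]
  simp only [relBraid, Bool.or_eq_true, List.contains_iff_mem] at h
  rcases h with h | h
  · exact key _ _ h
  · exact (key _ _ h).symm

variable (hall : RangeTest pointTest 0 nPts) (hphi : RangeTest phiTest 0 31671)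
  (hroot : ∀ o ∈ orbs, RangeTest (rootTest o.root) o.root (o.root + o.size))
include hall hphi hroot

theorem ker_le {g : X₀} (hg : rhoX hall hphi g = 1) : g ∈ subX :=
  (mem_subX_iff hall hphi hroot g).2 (by rw [hg]; rfl)

/-- The kernel of the action is central: it centralizes the first letter and is normal. -/
theorem ker_central {g : X₀} (hg : rhoX hall hphi g = 1) : g ∈ Subgroup.center X₀ := by
  have hs := sat_presGen 12 relsX
  have h0 : ∀ g : X₀, rhoX hall hphi g = 1 → Commute g (presGen 12 relsX 0) := fun g hg =>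
    commute_zero_subX (ker_le hall hphi hroot hg)
  have step : ∀ x y, relBraid x y = true →
      (∀ g : X₀, rhoX hall hphi g = 1 → Commute g (presGen 12 relsX x)) →
      ∀ g : X₀, rhoX hall hphi g = 1 → Commute g (presGen 12 relsX y) := by
    intro x y hxy hx g hg
    set a := presGen 12 relsX x
    set b := presGen 12 relsX y
    have e : b = a * b * a * (a * b)⁻¹ := by
      rw [braid_rel hxy, mul_inv_rev, inv_eq_of_mul_eq_one_right (hs.sq x), inv_eq_of_mul_eq_one_right (hs.sq y)]
      simp only [mul_assoc, a, b]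
      rw [← mul_assoc (presGen 12 relsX y) (presGen 12 relsX y), hs.sq, one_mul, hs.sq, mul_one]
    have hc : Commute ((a * b)⁻¹ * g * ((a * b)⁻¹)⁻¹) a := hx _ (by
      rw [map_mul, map_mul, hg, mul_one, ← map_mul, mul_inv_cancel, map_one])
    rw [inv_inv] at hc
    have h2 := hc.eq
    show g * b = b * g
    rw [e]
    calc g * (a * b * a * (a * b)⁻¹) = a * b * ((a * b)⁻¹ * g * (a * b) * a) * (a * b)⁻¹ := by group
      _ = a * b * (a * ((a * b)⁻¹ * g * (a * b))) * (a * b)⁻¹ := by rw [h2]
      _ = a * b * a * (a * b)⁻¹ * g := by group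
  have c1 := step 0 1 (by decide +kernel) h0
  have c2 := step 1 2 (by decide +kernel) c1
  have c3 := step 2 3 (by decide +kernel) c2
  have c4 := step 3 4 (by decide +kernel) c3
  have c5 := step 4 5 (by decide +kernel) c4
  have c6 := step 5 6 (by decide +kernel) c5
  have c7 := step 6 7 (by decide +kernel) c6
  have c8 := step 7 8 (by decide +kernel) c7
  have c9 := step 8 9 (by decide +kernel) c8
  have c10 := step 5 10 (by decide +kernel) c5
  have c11 := step 10 11 (by decide +kernel) c10
  have hgen : ∀ x, Commute g (presGen 12 relsX x) := by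
    intro x
    by_cases hx : x < 12
    · interval_cases x
      exacts [h0 g hg, c1 g hg, c2 g hg, c3 g hg, c4 g hg, c5 g hg, c6 g hg, c7 g hg, c8 g hg, c9 g hg,
        c10 g hg, c11 g hg]
    · rw [hs.out x (Nat.le_of_not_lt hx)]
      exact Commute.one_right _
  rw [Subgroup.mem_center_iff]
  intro y
  have hy : y ∈ Subgroup.centralizer {g} := by
    have : Subgroup.closure (presGen 12 relsX '' Set.Iio 12) ≤ Subgroup.centralizer {g} := by
      rw [Subgroup.closure_le]
      rintro _ ⟨x, -, rfl⟩
      exact Subgroup.mem_centralizer_singleton_iff.2 (hgen x).symm.eq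
    exact this ((closure_presGen 12 relsX).symm ▸ Subgroup.mem_top y)
  exact Subgroup.mem_centralizer_singleton_iff.1 hy

omit hall hphi hroot in
/-- The numbering for the graph with arms `3, 2, 2`. -/
def digitY (n : ℕ) : ℕ := [12, 5, 6, 7, 8, 9, 12, 10, 11, 12, 4, 3].getD n 12

omit hall hphi hroot in
theorem rels_adjC : CoxWord.Rels CoxWord.Y555.adjC (fun n => presGen 12 relsX (digitY n)) := by
  have hs := sat_presGen 12 relsX
  have hbig : ∀ n, 12 ≤ n → digitY n = 12 := fun n hn => List.getD_eq_default _ _ (by simpa using hn)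
  refine ⟨hs.out _ le_rfl, fun a => hs.sq _, fun a b hab => ?_, fun a b hab => ?_⟩
  · by_cases ha : digitY a = 12
    · rw [ha, hs.out _ le_rfl, one_mul, mul_one]
    by_cases hb : digitY b = 12
    · rw [hb, hs.out _ le_rfl, one_mul, mul_one]
    have la : a < 12 := by by_contra hc; exact ha (hbig a (by omega))
    have lb : b < 12 := by by_contra hc; exact hb (hbig b (by omega))
    refine (commute_rel ?_).eq
    exact (show ∀ a < 12, ∀ b < 12, CoxWord.Y555.adjC a b = true ∨ digitY a = 12 ∨ digitY b = 12 ∨
        relComm (digitY a) (digitY b) = true by decide +kernel) a la b lb |>.resolve_left (by simp [hab])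
      |>.resolve_left ha |>.resolve_left hb
  · obtain ⟨la, lb⟩ : a < 12 ∧ b < 12 := by
      simp only [CoxWord.Y555.adjC, CoxWord.Y555.adjB, CoxWord.Y555.adj, Bool.and_eq_true] at hab
      exact ⟨Nat.le_of_ble_eq_true hab.2.2.1.1, Nat.le_of_ble_eq_true hab.2.2.1.2⟩
    exact braid_rel ((show ∀ a < 12, ∀ b < 12, CoxWord.Y555.adjC a b = false ∨
      relBraid (digitY a) (digitY b) = true by decide +kernel) a la b lb |>.resolve_left (by simp [hab]))

/-- The spider relation. -/
theorem spiderX : el wordS ^ 10 = 1 := by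
  obtain ⟨a, ha⟩ : ∃ a, a = el [5, 4, 3] := ⟨_, rfl⟩
  obtain ⟨b, hb⟩ : ∃ b, b = el [5, 6, 7, 5, 10, 11] := ⟨_, rfl⟩
  have hS : el wordS = a * b := by rw [ha, hb, el, el, el, ← ev_append]; rfl
  have e : CoxWord.ev (fun n => presGen 12 relsX (digitY n)) CoxWord.Y555.spW = b * a := by
    simp [ha, hb, CoxWord.Y555.spW, digitY, el, ev, mul_assoc]
  have hconj : (b * a) ^ 10 = a⁻¹ * (a * b) ^ 10 * a := by
    have h := conj_pow (i := 10) (a := a⁻¹) (b := a * b)
    rw [inv_inv] at h
    rw [← h]
    congr 1
    group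
  have hk : rhoX hall hphi (CoxWord.ev (fun n => presGen 12 relsX (digitY n)) CoxWord.Y555.spW ^ 10) = 1 := by
    rw [e, hconj, map_mul, map_mul, ← hS, map_pow, rhoX_el, spider hall, mul_one, ← map_mul, inv_mul_cancel, map_one]
  have h := CoxWord.Triple.spider_eq_one rels_adjC (ker_central hall hphi hroot hk)
  rw [e, hconj, mul_assoc, inv_mul_eq_one] at h
  rw [hS]
  exact mul_eq_right.1 h.symm

omit hall hphi hroot in
/-- The first letter in the subgroup without the second. -/
noncomputable def zX : subX := ⟨presGen 12 relsX 0, gen_mem (by decide)⟩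

omit hall hphi hroot in
/-- A letter of the smaller group in the subgroup. -/
noncomputable def liftX (x : ℕ) : subX :=
  if hx : x < 10 then ⟨presGen 12 relsX (x + 2), gen_mem (shift_mem hx)⟩ else 1

omit hall hphi hroot in
instance zX_normal : (Subgroup.zpowers zX).Normal := by
  refine ⟨fun z hz g => ?_⟩
  obtain ⟨i, rfl⟩ := hz
  have hc : Commute g zX := Subtype.ext (commute_zero_subX g.2).eq
  rw [(hc.zpow_right i).eq, mul_inv_cancel_right]
  exact ⟨i, rfl⟩

omit hall hphi hroot in
theorem ev_liftX {w : List ℕ} (hw : ∀ x ∈ w, x < 10) :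
    ((ev liftX w : subX) : X₀) = el (w.map (· + 2)) := by
  rw [← Subgroup.coe_subtype, map_ev]
  unfold el ev
  rw [List.map_map]
  exact congrArg List.prod (List.map_congr_left fun x hx => by
    show ((liftX x : subX) : X₀) = _
    rw [liftX, dif_pos (hw x hx)]; rfl)

omit hall hphi hroot in
theorem rels_shapeX : ∀ r ∈ Fi23.relsG, (∀ x ∈ r.1, x < 10) ∧
    ((r.1.map (· + 2), r.2) ∈ relsX ∨ (r.1.map (· + 2) = wordS ∧ r.2 = 10) ∨
      powWord (r.1.map (· + 2)) r.2 = wordL) := by
  decide +kernel

theorem sat_modX : Sat 10 Fi23.relsG fun x => QuotientGroup.mk' (Subgroup.zpowers zX) (liftX x) := by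
  have hs := sat_presGen 12 relsX
  refine ⟨fun x => ?_, fun x hx => ?_, fun r hr => ?_⟩
  · show QuotientGroup.mk' _ (liftX x) * QuotientGroup.mk' _ (liftX x) = 1
    rw [← map_mul, show liftX x * liftX x = 1 from ?_, map_one]
    refine Subtype.ext ?_
    by_cases hx : x < 10
    · rw [Subgroup.coe_mul, liftX, dif_pos hx, Subgroup.coe_one]; exact hs.sq _
    · rw [liftX, dif_neg hx, one_mul]
  · show QuotientGroup.mk' _ (liftX x) = 1
    rw [liftX, dif_neg (Nat.not_lt.2 hx), map_one]
  · rw [← map_ev, ← map_pow, QuotientGroup.mk'_apply, QuotientGroup.eq_one_iff]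
    obtain ⟨hlt, h | ⟨h, hm⟩ | h⟩ := rels_shapeX r hr
    · rw [show ev liftX r.1 ^ r.2 = 1 from Subtype.ext (by
        rw [Subgroup.coe_pow, ev_liftX hlt, Subgroup.coe_one]; exact hs.rel _ h)]
      exact one_mem _
    · rw [show ev liftX r.1 ^ r.2 = 1 from Subtype.ext (by
        rw [Subgroup.coe_pow, ev_liftX hlt, Subgroup.coe_one, h, hm]; exact spiderX hall hphi hroot)]
      exact one_mem _
    · rw [show ev liftX r.1 ^ r.2 = zX from Subtype.ext (by
        rw [Subgroup.coe_pow, ev_liftX hlt, el, ← ev_powWord, h]; exact gen_zero_eq.symm)]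
      exact Subgroup.mem_zpowers _

/-- The smaller group onto the subgroup modulo its first letter. -/
noncomputable def theta : Pres 10 Fi23.relsG →* subX ⧸ Subgroup.zpowers zX :=
  presHom (sat_modX hall hphi hroot)

theorem theta_ev {w : List ℕ} :
    theta hall hphi hroot (ev (presGen 10 Fi23.relsG) w) = QuotientGroup.mk' (Subgroup.zpowers zX) (ev liftX w) := by
  rw [theta, map_ev, map_ev]
  exact ev_congr fun x _ => presHom_gen _ x

omit hroot in
theorem zX_power {g : subX} (hg : g ∈ Subgroup.zpowers zX) : g = 1 ∨ g = zX := by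
  obtain ⟨i, rfl⟩ := hg
  have h2 : zX * zX = 1 := Subtype.ext ((sat_presGen 12 relsX).sq 0)
  rcases Int.even_or_odd i with ⟨j, rfl⟩ | ⟨j, rfl⟩
  · left
    show zX ^ (j + j) = 1
    rw [← two_mul, zpow_mul, zpow_two, h2, one_zpow]
  · right
    show zX ^ (2 * j + 1) = zX
    rw [zpow_add, zpow_mul, zpow_two, h2, one_zpow, one_mul, zpow_one]

omit hroot in
/-- A word in the subgroup equal to a power of the first letter gives the trivial element of the smaller group. -/
theorem word_one {v : List ℕ} (hv : ∀ x ∈ v, x < 10)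
    (h : rhoX hall hphi (el (v.map (· + 2))) = 1 ∨ rhoX hall hphi (el (v.map (· + 2))) = sig hall 0) :
    ev (presGen 10 Fi23.relsG) v = 1 :=
  half_word hall hphi hv fun c _ => by
    rw [rhoX_el] at h
    rcases h with h | h <;> rw [h]
    · rfl
    · exact fix_zero hall hphi c

theorem theta_bijective : Function.Bijective (theta hall hphi hroot) := by
  refine ⟨(injective_iff_map_eq_one _).2 fun u hu => ?_, fun q => ?_⟩
  · obtain ⟨v, hv, rfl⟩ := word_of_mem_closure (sat_presGen 10 Fi23.relsG).sq (emb := List.range 10)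
      (show u ∈ Subgroup.closure (presGen 10 Fi23.relsG '' {x | x ∈ List.range 10}) by
        rw [show {x | x ∈ List.range 10} = Set.Iio 10 by ext; simp, closure_presGen]; exact Subgroup.mem_top u)
    have hv' : ∀ x ∈ v, x < 10 := fun x hx => List.mem_range.1 (hv x hx)
    rw [theta_ev, QuotientGroup.mk'_apply, QuotientGroup.eq_one_iff] at hu
    refine word_one hall hphi hv' ?_
    rw [← ev_liftX hv']
    rcases zX_power hall hphi hu with e | e <;> rw [e]
    · exact Or.inl (map_one _)
    · exact Or.inr (presHom_gen _ _)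
  · induction q using QuotientGroup.induction_on with
    | H g =>
      obtain ⟨w, hw, e⟩ := subX_word g.2
      obtain ⟨v, hv, e2⟩ := shift_word gen_zero_eq w hw
      refine ⟨ev (presGen 10 Fi23.relsG) v, ?_⟩
      rw [theta_ev, QuotientGroup.mk'_apply, show ev liftX v = g from Subtype.ext (by rw [ev_liftX hv, e]; exact e2.symm)]

theorem rhoX_injective : Function.Injective (rhoX hall hphi) := by
  refine (injective_iff_map_eq_one _).2 fun g hg => ?_
  have hmem := ker_le hall hphi hroot hg
  obtain ⟨w, hw, e⟩ := subX_word hmem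
  obtain ⟨v, hv, e2⟩ := shift_word gen_zero_eq w hw
  have he : g = el (v.map (· + 2)) := e.trans e2
  have h1 := word_one hall hphi hv (Or.inl (by rw [← he]; exact hg))
  have h2 := congrArg (theta hall hphi hroot) h1
  rw [theta_ev, map_one, QuotientGroup.mk'_apply, QuotientGroup.eq_one_iff] at h2
  rcases zX_power hall hphi h2 with h | h
  · rw [he, ← ev_liftX hv, h]; rfl
  · exfalso
    have hz : g = presGen 12 relsX 0 := by rw [he, ← ev_liftX hv, h]; rfl
    rw [hz, rhoX, presHom_gen] at hg
    have := (sig_val hall (show 0 < 12 by decide) ⟨1, by decide⟩).symm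
    rw [hg] at this
    exact zero_moves this

theorem card_subX : Nat.card subX = 2 * 4089470473293004800 := by
  rw [Subgroup.card_eq_card_quotient_mul_card_subgroup (Subgroup.zpowers zX),
    ← Nat.card_congr (Equiv.ofBijective _ (theta_bijective hall hphi hroot)), Nat.card_zpowers,
    show Nat.card (Pres 10 Fi23.relsG) = 4089470473293004800 from Fi23.card_eq, mul_comm]
  congr 1
  refine orderOf_eq_prime ?_ fun h => ?_
  · rw [pow_two]; exact Subtype.ext ((sat_presGen 12 relsX).sq 0)
  · have h' : presGen 12 relsX 0 = 1 := congrArg Subtype.val h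
    have := (sig_val hall (show 0 < 12 by decide) ⟨1, by decide⟩).symm
    rw [← presHom_gen (sat_relsX hall hphi) 0, h', map_one] at this
    exact zero_moves this

theorem card_X : Nat.card X₀ = 2 * 1255205709190661721292800 := by
  rw [← subX.index_mul_card, index_subX hall hphi hroot, card_subX hall hphi hroot]

end CfsgLib.Spor.Fi24
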