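/-
The presentation with the seventeenth power and the one with the commutation give the same group.
-/
import Cfsg.Agent.Lib.Spor.Fi24Pres.Kernel
import Cfsg.Agent.Lib.Spor.Fi24Pres.CG.All
import Cfsg.Agent.Lib.Spor.Fi24Pres.CG.Loop
import Cfsg.Agent.Lib.Spor.Fi24Pres.Range.All
import Cfsg.Agent.Lib.Spor.Fi24Pres.Phi.All
import Cfsg.Agent.Lib.Spor.Fi24Pres.RootTest.All

namespace CfsgLib.Spor.Fi24

open CfsgLib.Spor.TC

set_option maxRecDepth 100000

/-- The seventeenth power relator. -/
def wordZ : List ℕ := powWord [5, 4, 3, 2, 1, 0, 5, 6, 7, 8, 9, 5, 10, 11] 17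

theorem wordZ_test : walk wordZ 0 = 0 ∧ walk wordZ 1 = 1 ∧
    allFromS (fun c => strict (phi c) fun q => Nat.beq (walk wordZ q) q) 0 9 = true := by decide +kernel

/-- The action of the group on the points. -/
noncomputable def rho : Pres 12 relsX →* Equiv.Perm (Fin nPts) := rhoX all_points all_phi

theorem rho_gen (x : ℕ) : rho (presGen 12 relsX x) = sig all_points x := by rw [rho, rhoX, presHom_gen]

theorem rho_inj : Function.Injective rho := rhoX_injective all_points all_phi all_roots

theorem wordZ_one : el wordZ = 1 := by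
  have hlt : ∀ x ∈ wordZ, x < 12 := by decide +kernel
  obtain ⟨h0, h1, h9⟩ := wordZ_test
  rw [allFromS_eq] at h9
  refine rho_inj ?_
  have hmem : el wordZ ∈ subX := (mem_subX_iff all_points all_phi all_roots _).2 (by
    refine Fin.ext ?_
    rw [rhoX_el, ev_val all_points hlt]
    exact h0)
  obtain ⟨w, hw, e⟩ := subX_word hmem
  have e' : ev (sig all_points) w = ev (sig all_points) wordZ := by
    rw [← rhoX_el all_points all_phi, ← rhoX_el all_points all_phi, e]
  rw [map_one, rho, rhoX_el]
  have hpts : ∀ c : Fin Fi23.ActF.act.n, (c : ℕ) < 9 →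
      ev (sig all_points) w (phiP all_phi c) = phiP all_phi c := by
    intro c hc
    refine Fin.ext ?_
    have h2 := allFrom_spec h9 c (Nat.zero_le _) (by omega)
    rw [strict_eq, Nat.beq_eq] at h2
    rw [e', ev_val all_points hlt]
    exact h2
  rcases half_fix all_points all_phi hw hpts with h | h
  · rw [← e', h]
  · exfalso
    have e2 := ev_val all_points hlt (⟨1, by decide⟩ : Fin nPts)
    rw [← e', h, sig_val all_points (by decide)] at e2
    exact zero_moves (e2.trans h1)

theorem sat_G_in_X : Sat 12 relsG (presGen 12 relsX) := by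
  have hs := sat_presGen 12 relsX
  refine ⟨hs.sq, hs.out, fun r hr => ?_⟩
  rcases (show ∀ r ∈ relsG, r ∈ relsX ∨ r = ([5, 4, 3, 2, 1, 0, 5, 6, 7, 8, 9, 5, 10, 11], 17) by decide +kernel) r hr
    with h | rfl
  · exact hs.rel _ h
  · rw [← ev_powWord]
    exact wordZ_one

theorem sat_X_in_G : Sat 12 relsX (presGen 12 relsG) := by
  have hs := sat_presGen 12 relsG
  refine ⟨hs.sq, hs.out, fun r hr => ?_⟩
  rcases (show ∀ r ∈ relsX, r ∈ relsG ∨ r = ([1] ++ wordT ++ [1] ++ wordT, 1) by decide +kernel) r hr with h | rfl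
  · exact hs.rel _ h
  -- the conjugate by the second letter is in the subgroup, so it commutes with the first
  let S : Subgroup (Pres 12 relsG) := presSub 12 relsG embH
  have hcl : ∀ a ∈ S, Commute a (presGen 12 relsG 0) := by
    intro a ha
    induction ha using Subgroup.closure_induction with
    | mem b hb =>
      obtain ⟨x, hx, rfl⟩ := hb
      by_cases hx0 : x = 0
      · exact hx0 ▸ Commute.refl _
      have hm : ([0, x], 2) ∈ relsG := (show ∀ x ∈ embH, x ≠ 0 → ([0, x], 2) ∈ relsG by decide +kernel) x hx hx0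
      have h := hs.rel _ hm
      rw [show ev (presGen 12 relsG) [0, x] = presGen 12 relsG 0 * presGen 12 relsG x by simp [ev], pow_two] at h
      exact (show presGen 12 relsG 0 * presGen 12 relsG x = presGen 12 relsG x * presGen 12 relsG 0 by
        rw [eq_inv_of_mul_eq_one_left h, mul_inv_rev, inv_eq_of_mul_eq_one_right (hs.sq x),
          inv_eq_of_mul_eq_one_right (hs.sq 0)]).symm
    | one => exact Commute.one_left _
    | mul a b _ _ ha hb => exact ha.mul_left hb
    | inv a _ ha => exact ha.inv_left
  have hloop : ev (presGen 12 relsG) CG.loopWord ∈ S := by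
    have hE := CG.cert.holds_of_stepsOK (g := presGen 12 relsG) hs.sq (hs.out _ le_rfl) S
      (by rw [CG.rels_eq]; exact hs.rel_word) (fun v hv => by
        obtain ⟨x, hx, rfl⟩ := List.mem_map.1 (show v ∈ embH.map fun x => [x] from
          (show CG.cert.subs = embH.map fun x => [x] by decide +kernel) ▸ hv)
        rw [show ev (presGen 12 relsG) [x] = presGen 12 relsG x by simp [ev]]
        exact Subgroup.subset_closure ⟨x, hx, rfl⟩) CG.steps_ok
    have h := CG.loop_ok
    unfold Cert.pathOK at h
    split at h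
    · next L fin rest hwalk =>
      simp only [Bool.and_eq_true] at h
      have h1 := CG.cert.walk_sound hs.sq (hs.out _ le_rfl) S hE _ _ _ _ _ _ hwalk
      rw [Nat.eq_of_beq_eq_true h.1, Cert.word_zero, one_mul, inv_one, mul_one, beqWord_iff h.2] at h1
      exact h1
    · cases h
  obtain ⟨t, ht⟩ : ∃ t, t = ev (presGen 12 relsG) wordT := ⟨_, rfl⟩
  have hT : t ∈ S := ht ▸ ev_mem fun x hx =>
    Subgroup.subset_closure ⟨x, (show ∀ x ∈ wordT, x ∈ embH by decide +kernel) x hx, rfl⟩
  have htt : t * t = 1 := by
    have h := ev_reverse_of_sq hs.sq wordT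
    rw [show wordT.reverse = wordT by decide +kernel, ← ht] at h
    exact mul_eq_one_iff_eq_inv.2 h
  obtain ⟨k, hk⟩ : ∃ k, k = presGen 12 relsG 1 := ⟨_, rfl⟩
  obtain ⟨l, hl⟩ : ∃ l, l = presGen 12 relsG 0 := ⟨_, rfl⟩
  rw [show CG.loopWord = [1] ++ wordT ++ [1] by decide +kernel, ev_append, ev_append,
    show ev (presGen 12 relsG) [1] = k by simp [ev, hk], ← ht] at hloop
  have cl : Commute (k * t * k) l := hl ▸ hcl _ hloop
  have tl : Commute t l := hl ▸ hcl _ hT
  have kk : k * k = 1 := hk ▸ hs.sq 1
  have ll : l * l = 1 := hl ▸ hs.sq 0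
  have hbr : k * l * k = l * k * l := by
    have h := hs.rel ([0, 1], 3) (by decide +kernel)
    rw [show ev (presGen 12 relsG) [0, 1] = l * k by simp [ev, hk, hl], pow_three] at h
    have h' : (l * k * l) * (k * l * k) = 1 := by simpa [mul_assoc] using h
    calc k * l * k = (l * k * l)⁻¹ := eq_inv_of_mul_eq_one_right h'
      _ = l * k * l := by
        rw [mul_inv_rev, mul_inv_rev, inv_eq_of_mul_eq_one_right kk, inv_eq_of_mul_eq_one_right ll, ← mul_assoc]
  have c2 : t * (k * l * k) = k * l * k * t := by
    calc t * (k * l * k) = k * (k * t * k * l) * k := by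
          simp only [mul_assoc]; rw [← mul_assoc k k, kk, one_mul]
      _ = k * (l * (k * t * k)) * k := by rw [cl.eq]
      _ = k * l * k * t * (k * k) := by group
      _ = k * l * k * t := by rw [kk, mul_one]
  rw [hbr] at c2
  have c3 : t * k = k * t := by
    have e : l * (t * k) * l = l * (k * t) * l := by
      calc l * (t * k) * l = t * (l * k * l) := by rw [← mul_assoc l t, ← tl.eq]; group
        _ = l * k * l * t := c2
        _ = l * (k * t) * l := by rw [mul_assoc (l * k) l t, ← tl.eq]; group
    exact mul_left_cancel (mul_right_cancel e)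
  rw [pow_one, ev_append, ev_append, ev_append, show ev (presGen 12 relsG) [1] = k by simp [ev, hk], ← ht, ← c3,
    mul_assoc t k k, kk, mul_one, htt]

/-- The isomorphism of the two presented groups. -/
noncomputable def sameEquiv : Pres 12 relsG ≃* Pres 12 relsX :=
  MonoidHom.toMulEquiv (presHom sat_G_in_X) (presHom sat_X_in_G)
    (MonoidHom.eq_of_eqOn_dense (closure_presGen 12 relsG) (by
      rintro _ ⟨x, -, rfl⟩; simp [presHom_gen]))
    (MonoidHom.eq_of_eqOn_dense (closure_presGen 12 relsX) (by
      rintro _ ⟨x, -, rfl⟩; simp [presHom_gen]))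

theorem sameEquiv_gen (x : ℕ) : sameEquiv (presGen 12 relsG x) = presGen 12 relsX x := presHom_gen sat_G_in_X x

theorem map_sameEquiv (emb : List ℕ) :
    (presSub 12 relsG emb).map sameEquiv.toMonoidHom = presSub 12 relsX emb := by
  rw [MonoidHom.map_closure, Set.image_image]
  exact congrArg Subgroup.closure (Set.image_congr' fun x => sameEquiv_gen x)

theorem index_subG : (presSub 12 relsG embH).index = 306936 := by
  rw [← index_subX all_points all_phi all_roots, ← Subgroup.index_map_equiv (e := sameEquiv)]
  exact congrArg Subgroup.index (map_sameEquiv embH)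

end CfsgLib.Spor.Fi24
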