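/-
The three orbits of the subgroup without the second letter on the points.
-/
import Cfsg.Agent.Lib.Spor.Fi24Pres.Same

namespace CfsgLib.Spor.Fi24

open CfsgLib.Spor.TC MulAction

set_option maxRecDepth 100000

/-- For each least point, one of three points and a word taking it there, found by a computer search. -/
def classWords : List (ℕ × ℕ × List ℕ) := [
  (0, 0, []),
  (1, 1, []),
  (2, 1, [0]),
  (3, 1, [2]),
  (4, 1, [2, 0]),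
  (5, 1, [3, 2]),
  (965, 965, []),
  (966, 1, [3, 2, 0]),
  (1926, 965, [3]),
  (2886, 965, [2, 3]),
  (3846, 965, [3, 4, 2, 3]),
  (3966, 1, [3, 4, 5, 10, 6, 5, 4, 3, 2]),
  (7116, 1, [3, 4, 5, 10, 6, 5, 4, 3, 2, 0]),
  (10266, 965, [3, 4, 5, 10, 6, 5, 4, 3]),
  (13416, 1, [3, 4, 5, 10, 11, 6, 5, 10, 7, 6, 5, 4, 3, 2]),
  (35816, 1, [3, 4, 5, 10, 11, 6, 5, 10, 7, 6, 5, 4, 3, 2, 0]),
  (58216, 1, [2, 3, 4, 5, 10, 11, 6, 5, 10, 7, 6, 5, 4, 3, 2]),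
  (80616, 965, [3, 4, 5, 10, 11, 6, 5, 10, 7, 6, 5, 4, 3]),
  (103016, 1, [2, 3, 4, 5, 10, 11, 6, 5, 10, 7, 6, 5, 4, 3, 2, 0]),
  (125416, 1, [5, 6, 4, 5, 10, 3, 4, 5, 6, 2, 3, 4, 5, 10, 11, 10, 5, 6, 4, 5, 10, 7, 6, 5, 4, 3, 2, 0]),
  (147816, 1, [3, 4, 5, 6, 2, 3, 4, 5, 10, 11, 7, 5, 6, 4, 5, 10, 8, 7, 6, 5, 4, 3, 2]),
  (299016, 1, [3, 4, 5, 10, 11, 6, 5, 10, 7, 8, 6, 7, 4, 5, 6, 3, 4, 5, 10, 11, 7, 5, 6, 3, 4, 5, 10, 9, 8, 7, 6, 5, 4, 3, 2]),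
  (300936, 1, [3, 4, 5, 10, 11, 6, 5, 10, 7, 8, 6, 7, 4, 5, 6, 3, 4, 5, 10, 11, 7, 5, 6, 3, 4, 5, 10, 9, 8, 7, 6, 5, 4, 3, 2, 0]),
  (302856, 965, [3, 4, 5, 10, 11, 6, 5, 10, 7, 8, 6, 7, 4, 5, 6, 3, 4, 5, 10, 11, 7, 5, 6, 3, 4, 5, 10, 9, 8, 7, 6, 5, 4, 3]),
  (304776, 965, [2, 3, 4, 5, 10, 11, 6, 5, 10, 7, 8, 6, 7, 4, 5, 6, 3, 4, 5, 10, 11, 7, 5, 6, 3, 4, 5, 10, 9, 8, 7, 6, 5, 4, 3]),
  (306696, 965, [3, 4, 5, 6, 2, 3, 4, 5, 10, 11, 7, 6, 5, 10, 6, 7, 8, 5, 6, 7, 4, 5, 6, 3, 4, 5, 10, 11, 10, 7, 4, 5, 6, 3, 4, 5, 10, 9, 8, 7, 6, 5, 4, 3])]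

/-- The numbers in the middle orbit. -/
def InA (p : ℕ) : Prop :=
  p = 965 ∨ (1926 ≤ p ∧ p < 3966) ∨ (10266 ≤ p ∧ p < 13416) ∨ (80616 ≤ p ∧ p < 103016) ∨ (302856 ≤ p ∧ p < 306936)

/-- Whether a least point is in the middle orbit. -/
def inAB (o : OrbData) : Bool :=
  Nat.beq o.root 965 || (Nat.ble 1926 o.root && Nat.ble (o.root + o.size) 3966) ||
    (Nat.ble 10266 o.root && Nat.ble (o.root + o.size) 13416) ||
    (Nat.ble 80616 o.root && Nat.ble (o.root + o.size) 103016) ||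
    (Nat.ble 302856 o.root && Nat.ble (o.root + o.size) 306936)

/-- Whether an interval misses the middle orbit. -/
def offAB (o : OrbData) : Bool :=
  (Nat.ble (o.root + o.size) 965 || Nat.blt 965 o.root) && (Nat.ble (o.root + o.size) 1926 || Nat.ble 3966 o.root) &&
    (Nat.ble (o.root + o.size) 10266 || Nat.ble 13416 o.root) &&
    (Nat.ble (o.root + o.size) 80616 || Nat.ble 103016 o.root) &&
    (Nat.ble (o.root + o.size) 302856 || Nat.ble 306936 o.root)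

/-- The test of a least point's class. -/
noncomputable def classOK (o : OrbData) : Bool :=
  classWords.any fun e => Nat.beq e.1 o.root && (e.2.2.all fun x => embH.contains x) &&
    Nat.beq (walk e.2.2 e.2.1) o.root &&
    ((Nat.beq e.2.1 0 && Nat.beq o.root 0 && Nat.beq o.size 1) ||
      (Nat.beq e.2.1 965 && inAB o && (!Nat.beq o.root 965 || Nat.beq o.size 1)) ||
      (Nat.beq e.2.1 1 && Nat.blt 0 o.root && offAB o))

theorem classes_ok : orbs.all classOK = true := by decide +kernel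

theorem fixed_reps : T 0 0 = 0 ∧ T 0 965 = 965 ∧ T 0 1 ≠ 1 := by decide +kernel

end CfsgLib.Spor.Fi24
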