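/-
Transitivity, and the three orbits of a point stabilizer.
-/
import Cfsg.Agent.Lib.Spor.Fi24Pres.Classes

namespace CfsgLib.Spor.Fi24

open CfsgLib.Spor.TC

set_option maxRecDepth 100000

local notation "X₀" => Pres 12 relsX

/-- The three representatives. -/
def pt965 : Fin nPts := ⟨965, by decide⟩

/-- The second representative. -/
def pt1 : Fin nPts := ⟨1, by decide⟩

theorem mem_subX {g : X₀} : g ∈ subX ↔ rho g pt0 = pt0 := mem_subX_iff all_points all_phi all_roots g

theorem rho_el (w : List ℕ) : rho (el w) = ev (sig all_points) w := rhoX_el all_points all_phi w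

theorem transitive_rho (p : Fin nPts) : ∃ g : X₀, rho g pt0 = p := by
  obtain ⟨q, hq⟩ := (pointOf_bijective all_points all_phi all_roots).2 p
  induction q using QuotientGroup.induction_on with
  | H g => exact ⟨g, hq⟩

theorem eight_range_le : eight.range ≤ subX := by
  rw [eight, range_presHom, Subgroup.closure_le]
  rintro _ ⟨x, hx, rfl⟩
  refine gen_mem ?_
  exact (show ∀ x < 8, embC.getD x 12 ∈ embH by decide) x hx

/-- Each point is in the orbit of one of three, and which one is known from its number. -/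
theorem class_of_point (p : Fin nPts) :
    p = pt0 ∨ (InA p ∧ ∃ g ∈ subX, rho g pt965 = p) ∨
      (¬InA p ∧ (p : ℕ) ≠ 0 ∧ ∃ g ∈ subX, rho g pt1 = p) := by
  obtain ⟨q, hq⟩ := (pointOf_bijective all_points all_phi all_roots).2 p
  obtain ⟨o, ho, hqo⟩ := pieces_all all_points all_phi all_roots q
  have hint := (piece_exact all_points all_phi all_roots ho).2 q hqo
  rw [hq] at hint
  obtain ⟨c, rfl⟩ := hqo
  have hroot : (rho (el o.word) pt0 : ℕ) = o.root := point_coset all_points all_phi ho
  have hp : rho (eight c) (rho (el o.word) pt0) = p := by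
    have h := hq
    rw [show pointOf all_points all_phi (eight c • cosetOf o) =
      rho (eight c) (pointOf all_points all_phi (cosetOf o)) from pointOf_smul all_points all_phi _ _] at h
    exact h
  have hok := List.all_eq_true.1 classes_ok o ho
  simp only [classOK, List.any_eq_true, Bool.and_eq_true, Bool.or_eq_true, List.all_eq_true, Nat.beq_eq,
    List.contains_iff_mem, Nat.blt_eq, inAB, offAB, Nat.ble_eq, Bool.not_eq_true'] at hok
  obtain ⟨e, -, ⟨⟨her, hw⟩, hwalk⟩, hcase⟩ := hok
  have hlt : ∀ x ∈ e.2.2, x < 12 := fun x hx => embH_lt x (hw x hx)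
  have hg : el e.2.2 ∈ subX := ev_mem fun x hx => gen_mem (hw x hx)
  have hc := eight_range_le ⟨c, rfl⟩
  have key : ∀ r : Fin nPts, (r : ℕ) = e.2.1 → ∃ g ∈ subX, rho g r = p := fun r hr => by
    refine ⟨eight c * el e.2.2, mul_mem hc hg, ?_⟩
    rw [map_mul, Equiv.Perm.mul_apply,
      show rho (el e.2.2) r = rho (el o.word) pt0 from Fin.ext (by rw [rho_el, ev_val all_points hlt, hr, hwalk, hroot]),
      hp]
  rcases hcase with (⟨⟨h0, hr0⟩, hs⟩ | ⟨⟨h965, hin⟩, hs⟩) | ⟨⟨h1, hpos⟩, hoff⟩
  · left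
    exact Fin.ext (show (p : ℕ) = 0 by omega)
  · refine Or.inr (Or.inl ⟨?_, key pt965 h965.symm⟩)
    simp only [InA]
    rcases hin with (((h | h) | h) | h) | h
    · rcases hs with hs | hs
      · exact absurd h (fun h' => by simp [h'] at hs)
      · left; omega
    · right; left; omega
    · right; right; left; omega
    · right; right; right; left; omega
    · right; right; right; right; omega
  · refine Or.inr (Or.inr ⟨?_, by omega, key pt1 h1.symm⟩)
    simp only [InA]
    omega

theorem commute_zero_rho {g : X₀} (hg : g ∈ subX) : rho g * sig all_points 0 = sig all_points 0 * rho g := by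
  rw [← rho_gen, ← map_mul, ← map_mul, (commute_zero_subX hg).eq]

theorem fixed_zero_iff {g : X₀} (hg : g ∈ subX) (p : Fin nPts) :
    sig all_points 0 (rho g p) = rho g p ↔ sig all_points 0 p = p := by
  rw [← Equiv.Perm.mul_apply, ← commute_zero_rho hg, Equiv.Perm.mul_apply]
  exact (rho g).apply_eq_iff_eq

theorem fixed_965 : sig all_points 0 pt965 = pt965 :=
  Fin.ext ((sig_val all_points (by decide) _).trans fixed_reps.2.1)

theorem moved_1 : sig all_points 0 pt1 ≠ pt1 := fun h =>
  fixed_reps.2.2 ((sig_val all_points (by decide) pt1).symm.trans (congrArg Fin.val h))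

theorem inA_iff (p : Fin nPts) : InA p ↔ p ≠ pt0 ∧ sig all_points 0 p = p := by
  rcases class_of_point p with rfl | ⟨h, g, hg, rfl⟩ | ⟨h, h0, g, hg, rfl⟩
  · exact iff_of_false (by simp [InA, pt0]) (fun h => h.1 rfl)
  · refine iff_of_true h ⟨fun e => ?_, (fixed_zero_iff hg _).2 fixed_965⟩
    rw [e] at h
    simp [InA, pt0] at h
  · exact iff_of_false h fun h2 => moved_1 ((fixed_zero_iff hg _).1 h2.2)

theorem orbit_965 : {p : Fin nPts | ∃ g ∈ subX, rho g pt965 = p} = {p : Fin nPts | InA p} := by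
  ext p
  refine ⟨?_, fun h => ?_⟩
  · rintro ⟨g, hg, rfl⟩
    refine (inA_iff _).2 ⟨fun e => ?_, (fixed_zero_iff hg _).2 fixed_965⟩
    have h0 := mem_subX.1 (inv_mem hg)
    have e2 : rho g⁻¹ (rho g pt965) = pt965 := by rw [map_inv]; exact (rho g).symm_apply_apply _
    rw [e, h0] at e2
    exact absurd (congrArg Fin.val e2) (by simp [pt0, pt965])
  · rcases class_of_point p with rfl | ⟨-, hg⟩ | ⟨hn, -⟩
    · simp [InA, pt0] at h
    · exact hg
    · exact absurd h hn

theorem orbit_1 : {p : Fin nPts | ∃ g ∈ subX, rho g pt1 = p} = {p : Fin nPts | ¬InA p ∧ (p : ℕ) ≠ 0} := by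
  ext p
  refine ⟨?_, fun h => ?_⟩
  · rintro ⟨g, hg, rfl⟩
    refine ⟨fun h => moved_1 ((fixed_zero_iff hg _).1 ((inA_iff _).1 h).2), fun e => ?_⟩
    have h0 := mem_subX.1 (inv_mem hg)
    have e2 : rho g⁻¹ (rho g pt1) = pt1 := by rw [map_inv]; exact (rho g).symm_apply_apply _
    rw [show rho g pt1 = pt0 from Fin.ext e, h0] at e2
    exact absurd (congrArg Fin.val e2) (by simp [pt0, pt1])
  · rcases class_of_point p with rfl | ⟨hi, -⟩ | ⟨-, -, hg⟩
    · exact absurd rfl h.2
    · exact absurd hi h.1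
    · exact hg

theorem card_InA : {p : Fin nPts | InA p}.ncard = 31671 := by
  have e : Fin.val '' {p : Fin nPts | InA p} = Set.Ico 965 966 ∪ (Set.Ico 1926 3966 ∪ (Set.Ico 10266 13416 ∪
      (Set.Ico 80616 103016 ∪ Set.Ico 302856 306936))) := by
    ext n
    simp only [Set.mem_image, Set.mem_setOf_eq, Set.mem_union, Set.mem_Ico]
    constructor
    · rintro ⟨p, hp, rfl⟩
      simp only [InA] at hp
      omega
    · intro h
      exact ⟨⟨n, lt_of_lt_of_eq (show n < 306936 by omega) rfl⟩, by simp only [InA]; omega, rfl⟩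
  have h := Set.ncard_image_of_injective {p : Fin nPts | InA p} Fin.val_injective
  rw [← h, e]
  rw [Set.ncard_union_eq, Set.ncard_union_eq, Set.ncard_union_eq, Set.ncard_union_eq]
  · simp only [Set.ncard_Ico_nat]
  all_goals
    rw [Set.disjoint_left]
    intro n hn
    simp only [Set.mem_union, Set.mem_Ico] at hn ⊢
    omega

theorem card_rest : {p : Fin nPts | ¬InA p ∧ (p : ℕ) ≠ 0}.ncard = 275264 := by
  have e : {p : Fin nPts | ¬InA p ∧ (p : ℕ) ≠ 0} = (insert pt0 {p : Fin nPts | InA p})ᶜ := by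
    ext p
    simp only [Set.mem_setOf_eq, Set.mem_compl_iff, Set.mem_insert_iff, not_or, Fin.ext_iff, pt0]
    tauto
  rw [e, Set.ncard_compl, Set.ncard_insert_of_notMem (by simp [InA, pt0]), card_InA, Nat.card_fin]
  rfl

end CfsgLib.Spor.Fi24
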