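/-
The commutator subgroup is simple.
-/
import Cfsg.Agent.Lib.Spor.Fi24Pres.Suborbit
import Cfsg.Agent.Lib.Spor.Fi24Pres.Cox
import Cfsg.Agent.S1691
import Cfsg.Prelude.Def_Sporadic
import Cfsg.Agent.Lib.Spor.Fi23.Order
import Mathlib.GroupTheory.Perm.Cycle.Type

namespace CfsgLib.Spor.Fi24

open CfsgLib.Spor.TC
open scoped Pointwise

set_option maxRecDepth 100000

local notation "X₀" => Pres 12 relsX

/-- The isomorphism with the presented group. -/
theorem exists_equiv : ∃ e : X₀ ≃* Cfsg.Spor.Fi24, ∀ x < 12,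
    e (presGen 12 relsX x) = PresentedGroup.of (coxData.nam x) := by
  have key : ∀ (k : ℕ) (R : List PowRel), coxData.k = k → coxData.rels = R →
      ∃ e : Pres k R ≃* Cfsg.Spor.Fi24, ∀ x < k, e (presGen k R x) = PresentedGroup.of (coxData.nam x) := by
    rintro k R rfl rfl
    refine ⟨coxData.equiv, fun x hx => ?_⟩
    have h := coxData.equiv_gen (coxData.nam x)
    rwa [coxData.num_nam x hx] at h
  obtain ⟨e, he⟩ := key 12 relsG rfl rels_eq
  refine ⟨sameEquiv.symm.trans e, fun x hx => ?_⟩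
  rw [MulEquiv.trans_apply, show sameEquiv.symm (presGen 12 relsX x) = presGen 12 relsG x from
    sameEquiv.symm_apply_eq.2 (sameEquiv_gen x).symm]
  exact he x hx

/-- The commutator subgroup. -/
noncomputable abbrev M₀ : Subgroup X₀ := commutator X₀

theorem index_M : M₀.index = 2 := by
  obtain ⟨e, -⟩ := exists_equiv
  have h : M₀.map e.toMonoidHom = commutator Cfsg.Spor.Fi24 := by
    rw [M₀, map_commutator_eq, MonoidHom.range_eq_top.2 e.surjective]
    rfl
  rw [← Subgroup.index_map_equiv (e := e) M₀]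
  exact (congrArg Subgroup.index h).trans Cfsg.Agent.S1691.result

theorem finite_X : Finite X₀ :=
  Nat.finite_of_card_ne_zero (by rw [card_X all_points all_phi all_roots]; norm_num)

attribute [local instance] finite_X

theorem card_M : Nat.card M₀ = 1255205709190661721292800 := by
  have h := M₀.card_mul_index
  rw [index_M, card_X all_points all_phi all_roots, mul_comm 2] at h
  exact Nat.eq_of_mul_eq_mul_right (by norm_num) h

theorem conj_of_braid {x y : ℕ} (h : relBraid x y = true) :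
    (presGen 12 relsX x * presGen 12 relsX y) * presGen 12 relsX x *
      (presGen 12 relsX x * presGen 12 relsX y)⁻¹ = presGen 12 relsX y := by
  rw [braid_rel h]
  group

theorem gen_not_mem : ∀ x < 12, presGen 12 relsX x ∉ M₀ := by
  intro x hx hxM
  have hn : M₀.Normal := inferInstance
  have step : ∀ a b, relBraid a b = true → (presGen 12 relsX a ∈ M₀ ↔ presGen 12 relsX b ∈ M₀) := by
    intro a b hab
    have hba : relBraid b a = true := by
      rw [relBraid, Bool.or_comm]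
      exact hab
    exact ⟨fun h => conj_of_braid hab ▸ hn.conj_mem _ h _, fun h => conj_of_braid hba ▸ hn.conj_mem _ h _⟩
  have t1 := step 0 1 (by decide +kernel)
  have t2 := t1.trans (step 1 2 (by decide +kernel))
  have t3 := t2.trans (step 2 3 (by decide +kernel))
  have t4 := t3.trans (step 3 4 (by decide +kernel))
  have t5 := t4.trans (step 4 5 (by decide +kernel))
  have t6 := t5.trans (step 5 6 (by decide +kernel))
  have t7 := t6.trans (step 6 7 (by decide +kernel))
  have t8 := t7.trans (step 7 8 (by decide +kernel))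
  have t9 := t8.trans (step 8 9 (by decide +kernel))
  have t10 := t5.trans (step 5 10 (by decide +kernel))
  have t11 := t10.trans (step 10 11 (by decide +kernel))
  have hiff : ∀ y < 12, (presGen 12 relsX 0 ∈ M₀ ↔ presGen 12 relsX y ∈ M₀) := by
    intro y hy
    interval_cases y
    exacts [Iff.rfl, t1, t2, t3, t4, t5, t6, t7, t8, t9, t10, t11]
  have htop : M₀ = ⊤ := by
    rw [eq_top_iff, ← closure_presGen 12 relsX, Subgroup.closure_le]
    rintro _ ⟨y, hy, rfl⟩
    exact (hiff y hy).1 ((hiff x hx).2 hxM)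
  have h2 := index_M
  rw [htop, Subgroup.index_top] at h2
  omega

theorem mul_gen_mem {x y : ℕ} (hx : x < 12) (hy : y < 12) : presGen 12 relsX x * presGen 12 relsX y ∈ M₀ :=
  (Subgroup.mul_mem_iff_of_index_two index_M).2 (iff_of_false (gen_not_mem x hx) (gen_not_mem y hy))

/-- The point stabilizer in the commutator subgroup. -/
noncomputable abbrev K₀ : Subgroup X₀ := subX ⊓ M₀

/-- The map of the stabilizer onto the smaller group. -/
noncomputable def toSmall : K₀ →* subX ⧸ Subgroup.zpowers zX :=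
  (QuotientGroup.mk' _).comp (Subgroup.inclusion inf_le_left)

theorem toSmall_bijective : Function.Bijective toSmall := by
  have hz : (zX : X₀) ∉ M₀ := gen_not_mem 0 (by norm_num)
  refine ⟨(injective_iff_map_eq_one _).2 fun g hg => ?_, fun q => ?_⟩
  · rw [toSmall, MonoidHom.comp_apply, QuotientGroup.mk'_apply, QuotientGroup.eq_one_iff] at hg
    rcases zX_power all_points all_phi hg with h | h
    · exact Subtype.ext (congrArg Subtype.val h :)
    · exact absurd ((congrArg Subtype.val h :) ▸ g.2.2) hz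
  · induction q using QuotientGroup.induction_on with
    | H g =>
      by_cases hg : (g : X₀) ∈ M₀
      · exact ⟨⟨g, g.2, hg⟩, rfl⟩
      · refine ⟨⟨(g * zX : subX), (g * zX).2,
          (Subgroup.mul_mem_iff_of_index_two index_M).2 (iff_of_false hg hz)⟩, ?_⟩
        show QuotientGroup.mk' _ (g * zX) = _
        rw [QuotientGroup.mk'_apply, QuotientGroup.eq]
        rw [mul_inv_rev, mul_assoc, inv_mul_cancel, mul_one]
        exact inv_mem (Subgroup.mem_zpowers zX)

theorem simple_K : IsSimpleGroup K₀ ∧ Nat.card K₀ = 4089470473293004800 := by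
  have e : Pres 10 Fi23.relsG ≃* K₀ :=
    (MulEquiv.ofBijective _ (theta_bijective all_points all_phi all_roots)).trans
      (MulEquiv.ofBijective _ toSmall_bijective).symm
  haveI : IsSimpleGroup (Pres 10 Fi23.relsG) := Fi23.simple
  exact ⟨e.symm.isSimpleGroup, (Nat.card_congr e.toEquiv).symm.trans Fi23.card_eq⟩

/-- A normal subgroup inside the commutator subgroup and containing the stabilizer is the commutator subgroup. -/
theorem eq_M_of_K_le {N : Subgroup X₀} [N.Normal] (hNM : N ≤ M₀) (hK : K₀ ≤ N) : N = M₀ := by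
  refine le_antisymm hNM ?_
  have hs := sat_presGen 12 relsX
  let f := QuotientGroup.mk' N
  let z := f (presGen 12 relsX 0)
  have h1 : ∀ x ∈ embH, f (presGen 12 relsX x) = z := by
    intro x hx
    show f _ = f _
    rw [QuotientGroup.mk'_apply, QuotientGroup.mk'_apply, QuotientGroup.eq,
      inv_eq_of_mul_eq_one_right (hs.sq x)]
    exact hK ⟨mul_mem (gen_mem hx) (gen_mem (by decide)), mul_gen_mem (embH_lt x hx) (by norm_num)⟩
  have hk : f (presGen 12 relsX 1) = z := by
    have hb := congrArg f (braid_rel (x := 0) (y := 1) (by decide +kernel))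
    have hc := congrArg f (commute_rel (x := 1) (y := 3) (by decide +kernel)).eq
    simp only [map_mul] at hb hc
    rw [h1 3 (by decide)] at hc
    have h2 : z * z = 1 := by
      show f _ * f _ = 1
      rw [← map_mul, hs.sq, map_one]
    change z * f (presGen 12 relsX 1) * z = f (presGen 12 relsX 1) * z * f (presGen 12 relsX 1) at hb
    rw [← hc, mul_assoc, h2, mul_one, hc, mul_assoc] at hb
    have h3 : f (presGen 12 relsX 1) * f (presGen 12 relsX 1) = 1 := by rw [← map_mul, hs.sq, map_one]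
    rwa [h3, mul_one] at hb
  have hall' : ∀ g : X₀, f g ∈ Subgroup.zpowers z := by
    intro g
    have hle : Subgroup.closure (presGen 12 relsX '' Set.Iio 12) ≤ (Subgroup.zpowers z).comap f := by
      rw [Subgroup.closure_le]
      rintro _ ⟨x, hx, rfl⟩
      show f _ ∈ Subgroup.zpowers z
      rcases (show ∀ x < 12, x = 1 ∨ x ∈ embH by decide) x hx with rfl | h
      · rw [hk]; exact Subgroup.mem_zpowers z
      · rw [h1 x h]; exact Subgroup.mem_zpowers z
    exact hle (by rw [closure_presGen]; exact Subgroup.mem_top g)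
  show ⁅(⊤ : Subgroup X₀), ⊤⁆ ≤ N
  rw [Subgroup.commutator_le]
  intro a _ b _
  rw [← QuotientGroup.eq_one_iff, ← QuotientGroup.mk'_apply, map_commutatorElement,
    commutatorElement_eq_one_iff_commute]
  obtain ⟨i, hi⟩ := hall' a
  obtain ⟨j, hj⟩ := hall' b
  show f a * f b = f b * f a
  rw [← hi, ← hj]
  exact (Commute.zpow_zpow (Commute.refl z) i j).eq

theorem card_le_pts {N : Subgroup X₀} (h : N ⊓ subX = ⊥) : Nat.card N ≤ 306936 := by
  have hinj : Function.Injective fun n : N => rho (n : X₀) pt0 := by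
    intro a b hab
    have : (a : X₀)⁻¹ * b ∈ N ⊓ subX := ⟨N.mul_mem (N.inv_mem a.2) b.2, mem_subX.2 (by
      rw [map_mul, map_inv, Equiv.Perm.mul_apply, ← show rho (a : X₀) pt0 = rho (b : X₀) pt0 from hab]
      exact (rho (a : X₀)).symm_apply_apply _)⟩
    rw [h, Subgroup.mem_bot, inv_mul_eq_one] at this
    exact Subtype.ext this
  exact (Nat.card_le_card_of_injective _ hinj).trans (le_of_eq (Nat.card_fin _))

/-- A normal subgroup meeting the stabilizer trivially is trivial. -/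
theorem eq_bot_of_inf {N : Subgroup X₀} [hN : N.Normal] (h : N ⊓ subX = ⊥) : N = ⊥ := by
  classical
  have hinj : ∀ a ∈ N, ∀ b ∈ N, rho a pt0 = rho b pt0 → a = b := by
    intro a ha b hb hab
    have : a⁻¹ * b ∈ N ⊓ subX := ⟨N.mul_mem (N.inv_mem ha) hb, mem_subX.2 (by
      rw [map_mul, map_inv, Equiv.Perm.mul_apply, ← hab]
      exact (rho a).symm_apply_apply _)⟩
    rw [h, Subgroup.mem_bot, inv_mul_eq_one] at this
    exact this
  have hconj : ∀ g ∈ subX, ∀ n : X₀, rho (g * n * g⁻¹) pt0 = rho g (rho n pt0) := fun g hg n => by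
    rw [map_mul, map_mul, Equiv.Perm.mul_apply, Equiv.Perm.mul_apply, mem_subX.1 (inv_mem hg)]
  let O : Set (Fin nPts) := (fun n : X₀ => rho n pt0) '' (N : Set X₀)
  have hcard : O.ncard = Nat.card N := by
    rw [Set.ncard_image_of_injOn (fun a ha b hb => hinj a ha b hb)]
    rfl
  have hstab : ∀ g ∈ subX, ∀ p ∈ O, rho g p ∈ O := by
    rintro g hg _ ⟨n, hn, rfl⟩
    exact ⟨g * n * g⁻¹, hN.conj_mem n hn g, hconj g hg n⟩
  have h0 : pt0 ∈ O := ⟨1, N.one_mem, by simp⟩
  have hA : (∃ p ∈ O, InA p) → {p : Fin nPts | InA p} ⊆ O := by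
    rintro ⟨p, hp, hpA⟩ q hq
    obtain ⟨g, hg, rfl⟩ := (orbit_965.symm ▸ hpA : p ∈ {p : Fin nPts | ∃ g ∈ subX, rho g pt965 = p})
    obtain ⟨g', hg', rfl⟩ := (orbit_965.symm ▸ hq : q ∈ {p : Fin nPts | ∃ g ∈ subX, rho g pt965 = p})
    have := hstab (g' * g⁻¹) (mul_mem hg' (inv_mem hg)) _ hp
    rwa [map_mul, map_inv, Equiv.Perm.mul_apply, show (rho g)⁻¹ (rho g pt965) = pt965 from
      (rho g).symm_apply_apply _] at this
  have hB : (∃ p ∈ O, ¬InA p ∧ (p : ℕ) ≠ 0) → {p : Fin nPts | ¬InA p ∧ (p : ℕ) ≠ 0} ⊆ O := by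
    rintro ⟨p, hp, hpA⟩ q hq
    obtain ⟨g, hg, rfl⟩ := (orbit_1.symm ▸ hpA : p ∈ {p : Fin nPts | ∃ g ∈ subX, rho g pt1 = p})
    obtain ⟨g', hg', rfl⟩ := (orbit_1.symm ▸ hq : q ∈ {p : Fin nPts | ∃ g ∈ subX, rho g pt1 = p})
    have := hstab (g' * g⁻¹) (mul_mem hg' (inv_mem hg)) _ hp
    rwa [map_mul, map_inv, Equiv.Perm.mul_apply, show (rho g)⁻¹ (rho g pt1) = pt1 from
      (rho g).symm_apply_apply _] at this
  have hdvd : Nat.card N ∣ 2 * 1255205709190661721292800 :=
    card_X all_points all_phi all_roots ▸ N.card_subgroup_dvd_card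
  by_cases eA : ∃ p ∈ O, InA p <;> by_cases eB : ∃ p ∈ O, ¬InA p ∧ (p : ℕ) ≠ 0
  · -- regular: elements of four different prime orders in two classes
    exfalso
    have huniv : O = Set.univ := Set.eq_univ_of_forall fun p => by
      by_cases hp : InA p
      · exact hA eA hp
      · by_cases hp0 : (p : ℕ) = 0
        · exact (show pt0 = p from Fin.ext hp0.symm) ▸ h0
        · exact hB eB ⟨hp, hp0⟩
    rw [huniv, Set.ncard_univ, Nat.card_fin] at hcard
    have ex : ∀ p : ℕ, p.Prime → p ∣ 306936 → ∃ n ∈ N, orderOf n = p := fun p hp hd => by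
      haveI := Fact.mk hp
      obtain ⟨n, hn⟩ := exists_prime_orderOf_dvd_card' (G := N) p (hcard ▸ hd)
      exact ⟨n, n.2, by rw [Subgroup.orderOf_coe, hn]⟩
    have same : ∀ a ∈ N, ∀ b ∈ N, (∃ g ∈ subX, rho g (rho a pt0) = rho b pt0) → orderOf a = orderOf b := by
      rintro a ha b hb ⟨g, hg, e⟩
      rw [← hconj g hg] at e
      rw [← hinj _ (hN.conj_mem a ha g) b hb e]
      exact (MulEquiv.orderOf_eq (MulAut.conj g) a).symm
    have cls : ∀ a ∈ N, ∀ b ∈ N, a ≠ 1 → b ≠ 1 → (InA (rho a pt0) ↔ InA (rho b pt0)) → orderOf a = orderOf b := by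
      intro a ha b hb ha1 hb1 hiff
      refine same a ha b hb ?_
      have hne : ∀ c ∈ N, c ≠ 1 → rho c pt0 ≠ pt0 := fun c hc hc1 e => hc1 (hinj c hc 1 N.one_mem (by simpa using e))
      have trans : ∀ r : Fin nPts, (∃ g ∈ subX, rho g r = rho a pt0) → (∃ g ∈ subX, rho g r = rho b pt0) →
          ∃ g ∈ subX, rho g (rho a pt0) = rho b pt0 := by
        rintro r ⟨g, hg, e⟩ ⟨g', hg', e'⟩
        refine ⟨g' * g⁻¹, mul_mem hg' (inv_mem hg), ?_⟩
        rw [← e, ← e', map_mul, map_inv, Equiv.Perm.mul_apply]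
        exact congrArg _ ((rho g).symm_apply_apply r)
      rcases class_of_point (rho a pt0) with e | ⟨hi, hg⟩ | ⟨hi, -, hg⟩
      · exact absurd e (hne a ha ha1)
      · rcases class_of_point (rho b pt0) with e | ⟨-, hg'⟩ | ⟨hi', -, -⟩
        · exact absurd e (hne b hb hb1)
        · exact trans _ hg hg'
        · exact absurd (hiff.1 hi) hi'
      · rcases class_of_point (rho b pt0) with e | ⟨hi', -⟩ | ⟨-, -, hg'⟩
        · exact absurd e (hne b hb hb1)
        · exact absurd (hiff.2 hi') hi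
        · exact trans _ hg hg'
    obtain ⟨a, ha, oa⟩ := ex 2 (by norm_num) (by norm_num)
    obtain ⟨b, hb, ob⟩ := ex 3 (by norm_num) (by norm_num)
    obtain ⟨c, hc, oc⟩ := ex 7 (by norm_num) (by norm_num)
    have na : a ≠ 1 := fun h => by rw [h, orderOf_one] at oa; omega
    have nb : b ≠ 1 := fun h => by rw [h, orderOf_one] at ob; omega
    have nc : c ≠ 1 := fun h => by rw [h, orderOf_one] at oc; omega
    have hab := cls a ha b hb na nb
    have hac := cls a ha c hc na nc
    have hbc := cls b hb c hc nb nc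
    rw [oa, ob] at hab
    rw [oa, oc] at hac
    rw [ob, oc] at hbc
    by_cases i1 : InA (rho a pt0) <;> by_cases i2 : InA (rho b pt0) <;> by_cases i3 : InA (rho c pt0) <;>
      simp [i1, i2, i3] at hab hac hbc
  · exfalso
    have hO : O = insert pt0 {p : Fin nPts | InA p} := Set.Subset.antisymm (fun p hp => by
      by_cases hpA : InA p
      · exact Or.inr hpA
      · exact Or.inl (Fin.ext (by by_contra h; exact eB ⟨p, hp, hpA, h⟩))) (Set.insert_subset h0 (hA eA))
    rw [hO, Set.ncard_insert_of_notMem (by simp [InA, pt0]), card_InA] at hcard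
    rw [← hcard] at hdvd
    norm_num at hdvd
  · exfalso
    have hO : O = insert pt0 {p : Fin nPts | ¬InA p ∧ (p : ℕ) ≠ 0} := Set.Subset.antisymm (fun p hp => by
      by_cases hpB : ¬InA p ∧ (p : ℕ) ≠ 0
      · exact Or.inr hpB
      · exact Or.inl (Fin.ext (by by_contra h; exact eA ⟨p, hp, by_contra fun hn => hpB ⟨hn, h⟩⟩)))
      (Set.insert_subset h0 (hB eB))
    rw [hO, Set.ncard_insert_of_notMem (by simp [pt0]), card_rest] at hcard
    rw [← hcard] at hdvd
    norm_num at hdvd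
  · rw [eq_bot_iff]
    intro n hn
    rw [Subgroup.mem_bot]
    refine hinj n hn 1 N.one_mem ?_
    rw [map_one, Equiv.Perm.one_apply]
    have hp : rho n pt0 ∈ O := ⟨n, hn, rfl⟩
    exact Fin.ext (by_contra fun h => eB ⟨_, hp, fun hA' => eA ⟨_, hp, hA'⟩, h⟩)

theorem simple_M : IsSimpleGroup M₀ := by
  obtain ⟨hKs, hKc⟩ := simple_K
  haveI : Nontrivial M₀ := Finite.one_lt_card_iff_nontrivial.1 (by rw [card_M]; norm_num)
  constructor
  intro N hN
  by_contra hne
  rw [not_or] at hne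
  set N₁ : Subgroup X₀ := N.map M₀.subtype with hN₁
  have hle : N₁ ≤ M₀ := Subgroup.map_subtype_le N
  have hMconj : ∀ m ∈ M₀, ∀ n ∈ N₁, m * n * m⁻¹ ∈ N₁ := by
    rintro m hm _ ⟨n, hn, rfl⟩
    exact ⟨⟨m, hm⟩ * n * ⟨m, hm⟩⁻¹, hN.conj_mem n hn _, rfl⟩
  set l := presGen 12 relsX 0 with hl
  have ll : l * l = 1 := (sat_presGen 12 relsX).sq 0
  have hlM : l ∉ M₀ := gen_not_mem 0 (by norm_num)
  let c : X₀ →* X₀ := (MulAut.conj l).toMonoidHom
  set N₂ : Subgroup X₀ := N₁.map c with hN₂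
  have hcc : ∀ g : X₀, c (c g) = g := fun g => by
    show l * (l * g * l⁻¹) * l⁻¹ = g
    rw [inv_eq_of_mul_eq_one_right ll, ← mul_assoc, ← mul_assoc, ll, one_mul, mul_assoc, ll, mul_one]
  have hle2 : N₂ ≤ M₀ := by
    rintro _ ⟨n, hn, rfl⟩
    exact (inferInstance : M₀.Normal).conj_mem n (hle hn) l
  have hMconj2 : ∀ m ∈ M₀, ∀ n ∈ N₂, m * n * m⁻¹ ∈ N₂ := by
    rintro m hm _ ⟨n, hn, rfl⟩
    refine ⟨c m * n * (c m)⁻¹, hMconj _ ((inferInstance : M₀.Normal).conj_mem m hm l) n hn, ?_⟩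
    rw [map_mul, map_mul, map_inv, hcc]
  -- conjugation by all elements
  have hgen : ∀ g : X₀, g ∈ M₀ ∨ ∃ m ∈ M₀, g = m * l := by
    intro g
    by_cases hg : g ∈ M₀
    · exact Or.inl hg
    · exact Or.inr ⟨g * l, (Subgroup.mul_mem_iff_of_index_two index_M).2 (iff_of_false hg hlM),
        by rw [mul_assoc, ll, mul_one]⟩
  have hnorm : ∀ S : Subgroup X₀, (∀ m ∈ M₀, ∀ n ∈ S, m * n * m⁻¹ ∈ S) → (∀ n ∈ S, c n ∈ S) → S.Normal := by
    intro S h1 h2
    refine ⟨fun n hn g => ?_⟩
    rcases hgen g with hg | ⟨m, hm, rfl⟩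
    · exact h1 g hg n hn
    · rw [show m * l * n * (m * l)⁻¹ = m * c n * m⁻¹ by show _ = m * (l * n * l⁻¹) * m⁻¹; group]
      exact h1 m hm _ (h2 n hn)
  have key : ∀ n, n ∈ N₁ ↔ c n ∈ N₂ := fun n =>
    ⟨fun hn => ⟨n, hn, rfl⟩, fun ⟨m, hm, e⟩ => by
      rw [← hcc n, ← e, hcc]
      exact hm⟩
  have key2 : ∀ n, n ∈ N₂ ↔ c n ∈ N₁ := fun n => by rw [key (c n), hcc]
  haveI hI : (N₁ ⊓ N₂).Normal := hnorm _ (fun m hm n hn => ⟨hMconj m hm n hn.1, hMconj2 m hm n hn.2⟩)
    fun n hn => ⟨(key2 n).1 hn.2, (key n).1 hn.1⟩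
  haveI hJ : (N₁ ⊔ N₂).Normal := by
    refine hnorm _ (fun m hm => ?_) ?_
    · have : (N₁ ⊔ N₂).map (MulAut.conj m).toMonoidHom ≤ N₁ ⊔ N₂ := by
        rw [Subgroup.map_sup]
        refine sup_le_sup ?_ ?_
        · rintro _ ⟨n, hn, rfl⟩; exact hMconj m hm n hn
        · rintro _ ⟨n, hn, rfl⟩; exact hMconj2 m hm n hn
      exact fun n hn => this ⟨n, hn, rfl⟩
    · have : (N₁ ⊔ N₂).map c ≤ N₁ ⊔ N₂ := by
        rw [Subgroup.map_sup, sup_comm N₁ N₂]
        refine sup_le_sup le_rfl ?_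
        rintro _ ⟨n, hn, rfl⟩
        exact (key2 n).1 hn
      exact fun n hn => this ⟨n, hn, rfl⟩
  -- the intersection with the stabilizer is everything or nothing
  haveI : (N₁.subgroupOf K₀).Normal := ⟨fun n hn g => hMconj g g.2.2 n hn⟩
  haveI := hKs
  rcases IsSimpleGroup.eq_bot_or_eq_top_of_normal (N₁.subgroupOf K₀) inferInstance with hb | hb
  · -- trivial intersection
    have hbot : N₁ ⊓ subX = ⊥ := by
      rw [eq_bot_iff]
      intro g hg
      have : (⟨g, hg.2, hle hg.1⟩ : K₀) ∈ N₁.subgroupOf K₀ := hg.1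
      rw [hb, Subgroup.mem_bot] at this
      exact congrArg Subtype.val this
    have hbot2 : N₂ ⊓ subX = ⊥ := by
      rw [eq_bot_iff]
      intro g hg
      have h1 : c g ∈ N₁ ⊓ subX :=
        ⟨(key2 g).1 hg.1, subX.mul_mem (subX.mul_mem (gen_mem (x := 0) (by decide)) hg.2) (subX.inv_mem (gen_mem (x := 0) (by decide)))⟩
      rw [hbot, Subgroup.mem_bot] at h1
      exact Subgroup.mem_bot.2 (c.map_one ▸ h1 ▸ (hcc g).symm)
    have hcard : Nat.card (N₁ ⊔ N₂ : Subgroup X₀) ≤ 306936 * 306936 := by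
      have hnorm1 : N₂ ≤ Subgroup.normalizer (N₁ : Set X₀) := by
        intro m hm
        rw [Subgroup.mem_normalizer_iff]
        intro n
        refine ⟨hMconj m (hle2 hm) n, fun h => ?_⟩
        have := hMconj m⁻¹ (inv_mem (hle2 hm)) _ h
        simpa [mul_assoc] using this
      have e : ((N₁ ⊔ N₂ : Subgroup X₀) : Set X₀) = (N₁ : Set X₀) * (N₂ : Set X₀) := by
        exact Subgroup.coe_mul_of_right_le_normalizer_left N₁ N₂ hnorm1
      calc Nat.card (N₁ ⊔ N₂ : Subgroup X₀) = ((N₁ ⊔ N₂ : Subgroup X₀) : Set X₀).ncard := rfl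
        _ ≤ (N₁ : Set X₀).ncard * (N₂ : Set X₀).ncard := by
          rw [e]; exact Set.natCard_mul_le
        _ ≤ 306936 * 306936 := Nat.mul_le_mul (card_le_pts hbot) (card_le_pts hbot2)
    -- so the join misses the stabilizer too
    have hJK : (N₁ ⊔ N₂) ⊓ subX = ⊥ := by
      haveI : ((N₁ ⊔ N₂).subgroupOf K₀).Normal := ⟨fun n hn g => hJ.conj_mem n hn g⟩
      rcases IsSimpleGroup.eq_bot_or_eq_top_of_normal ((N₁ ⊔ N₂).subgroupOf K₀) inferInstance with hb' | hb'
      · rw [eq_bot_iff]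
        intro g hg
        have : (⟨g, hg.2, sup_le hle hle2 hg.1⟩ : K₀) ∈ (N₁ ⊔ N₂).subgroupOf K₀ := hg.1
        rw [hb', Subgroup.mem_bot] at this
        exact congrArg Subtype.val this
      · exfalso
        rw [Subgroup.subgroupOf_eq_top] at hb'
        have := eq_M_of_K_le (sup_le hle hle2) hb'
        rw [this, card_M] at hcard
        norm_num at hcard
    have hJbot := eq_bot_of_inf hJK
    refine hne.1 ((Subgroup.eq_bot_iff_forall _).2 fun n hn => ?_)
    have : (n : X₀) ∈ N₁ ⊔ N₂ := Subgroup.mem_sup_left ⟨n, hn, rfl⟩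
    rw [hJbot, Subgroup.mem_bot] at this
    exact Subtype.ext this
  · -- the stabilizer inside
    rw [Subgroup.subgroupOf_eq_top] at hb
    have hKc2 : K₀ ≤ N₂ := by
      intro g hg
      refine (key2 g).2 (hb ⟨subX.mul_mem (subX.mul_mem (gen_mem (x := 0) (by decide)) hg.1) (subX.inv_mem (gen_mem (x := 0) (by decide))),
        (inferInstance : M₀.Normal).conj_mem g hg.2 l⟩)
    have hIM := eq_M_of_K_le (inf_le_left.trans hle) (le_inf hb hKc2)
    refine hne.2 ((Subgroup.eq_top_iff' _).2 fun n => ?_)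
    obtain ⟨n', hn', e⟩ := ((SetLike.ext_iff.1 hIM (n : X₀)).2 n.2).1
    rwa [← Subtype.ext (e : (n' : X₀) = n)]

theorem isFi24' : Cfsg.IsFi24' Cfsg.Spor.Fi24' := by
  obtain ⟨e, -⟩ := exists_equiv
  have h : M₀.map e.toMonoidHom = commutator Cfsg.Spor.Fi24 := by
    rw [M₀, map_commutator_eq, MonoidHom.range_eq_top.2 e.surjective]
    rfl
  have f : M₀ ≃* Cfsg.Spor.Fi24' := (e.subgroupMap M₀).trans (MulEquiv.subgroupCongr h)
  haveI := simple_M
  exact ⟨f.symm.isSimpleGroup, (Nat.card_congr f.toEquiv).symm.trans card_M⟩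

end CfsgLib.Spor.Fi24
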